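import Mathlib.GroupTheory.SpecificGroups.Alternating
import Mathlib.Data.Fintype.Perm

/-!
# The quadratic spaces of dimension four over two elements

`W` with the forms `q m` (`m = true`: minus type) and the common polar form `B`; the isometry group
`iso m`; for minus type the five singular points and the action of the symmetric group on them.
-/

set_option autoImplicit false
set_option maxHeartbeats 400000
set_option synthInstance.maxSize 2048

namespace Cfsg.Agent.SuzType

/-- Coordinates with respect to a symplectic basis. -/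
abbrev W := Bool × Bool × Bool × Bool

/-- Sum. -/
def add : W → W → W
  | (a, b, c, d), (a', b', c', d') => (xor a a', xor b b', xor c c', xor d d')

/-- Zero. -/
def w0 : W := (false, false, false, false)
def e1 : W := (true, false, false, false)
def e2 : W := (false, true, false, false)
def e3 : W := (false, false, true, false)
def e4 : W := (false, false, false, true)

/-- The quadratic form; `m = true` for minus type. -/
def q (m : Bool) : W → Bool
  | (a, b, c, d) => xor (a && b) (cond m (xor (xor c d) (c && d)) (c && d))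

/-- The polar form. -/
def B : W → W → Bool
  | (a, b, c, d), (a', b', c', d') =>
    xor (xor (a && b') (b && a')) (xor (c && d') (d && c'))

/-- Scalar multiple. -/
def smul (e : Bool) (w : W) : W := cond e w w0

/-- The linear map with the given images of the basis. -/
def lin (i1 i2 i3 i4 : W) : W → W
  | (a, b, c, d) => add (add (smul a i1) (smul b i2)) (add (smul c i3) (smul d i4))

theorem q_add : ∀ (m : Bool) (u v : W), q m (add u v) = xor (xor (q m u) (q m v)) (B u v) := by
  decide +kernel

theorem add_assoc' : ∀ u v w : W, add (add u v) w = add u (add v w) := by decide +kernel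
theorem add_comm' : ∀ u v : W, add u v = add v u := by decide +kernel
theorem add_self : ∀ u : W, add u u = w0 := by decide +kernel
theorem add_zero' : ∀ u : W, add u w0 = u ∧ add w0 u = u := by decide +kernel
theorem B_symm : ∀ u v : W, B u v = B v u := by decide +kernel
theorem B_add : ∀ u v w : W, B (add u v) w = xor (B u w) (B v w) := by decide +kernel
theorem B_self : ∀ u : W, B u u = false := by decide +kernel
theorem B_ext : ∀ u v : W, B e1 u = B e1 v → B e2 u = B e2 v → B e3 u = B e3 v → B e4 u = B e4 v → u = v := by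
  decide +kernel
theorem B_exists : ∀ u : W, u ≠ w0 → ∃ v, B v u = true := by decide +kernel
theorem decomp : ∀ w : W, w = lin e1 e2 e3 e4 w := by decide +kernel

theorem lin_of_additive {f : W → W} (hf : ∀ u v, f (add u v) = add (f u) (f v)) (w : W) :
    f w = lin (f e1) (f e2) (f e3) (f e4) w := by
  have h0 : f w0 = w0 := by
    have h := hf w0 w0
    rw [add_self, add_self] at h
    exact h
  have hs : ∀ (e : Bool) (x : W), f (smul e x) = smul e (f x) := fun e x => by
    cases e
    exacts [h0, rfl]
  obtain ⟨a, b, c, d⟩ := w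
  conv_lhs => rw [decomp (a, b, c, d)]
  simp only [lin, hf, hs]

/-- Additive bijections preserving `q m`. -/
def iso (m : Bool) : Subgroup (Equiv.Perm W) where
  carrier := {σ | (∀ u v, σ (add u v) = add (σ u) (σ v)) ∧ ∀ u, q m (σ u) = q m u}
  one_mem' := ⟨fun _ _ => rfl, fun _ => rfl⟩
  mul_mem' := fun {σ τ} hσ hτ => ⟨fun u v => by simp [hσ.1, hτ.1], fun u => by simp [hσ.2, hτ.2]⟩
  inv_mem' := fun {σ} hσ => ⟨fun u v => σ.injective (by simp [hσ.1]), fun u => by
    conv_rhs => rw [← (show σ (σ⁻¹ u) = u by simp), hσ.2]⟩

variable {m : Bool} {σ : Equiv.Perm W}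

theorem iso_zero (h : σ ∈ iso m) : σ w0 = w0 := by
  have e := h.1 w0 w0
  rw [add_self, add_self] at e
  exact e

theorem iso_B (h : σ ∈ iso m) (u v : W) : B (σ u) (σ v) = B u v := by
  have e1 := q_add m (σ u) (σ v)
  rw [← h.1, h.2, h.2, h.2, q_add m u v] at e1
  simpa using e1.symm

/-- The possible images of the basis, plus type. -/
def plusList : List (W × W × W × W) :=
  let l : List W := [false, true].flatMap fun a => [false, true].flatMap fun b =>
    [false, true].flatMap fun c => [false, true].map fun d => (a, b, c, d)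
  (l.filter fun a => !q false a && (a != w0)).flatMap fun a =>
    (l.filter fun b => !q false b && B a b).flatMap fun b =>
      (l.filter fun c => !q false c && (c != w0) && !B a c && !B b c).flatMap fun c =>
        (l.filter fun d => !q false d && !B a d && !B b d && B c d).map fun d => (a, b, c, d)

theorem plusList_spec : plusList.length ≤ 72 ∧
    ∀ a : W, q false a = false → a ≠ w0 → ∀ b : W, q false b = false → B a b = true →
      ∀ c : W, q false c = false → c ≠ w0 → B a c = false → B b c = false →
        ∀ d : W, q false d = false → B a d = false → B b d = false → B c d = true →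
          (a, b, c, d) ∈ plusList := by
  decide +kernel

theorem card_iso_plus : Nat.card (iso false) ≤ 72 := by
  have hmem : ∀ σ : iso false, ((σ : Equiv.Perm W) e1, (σ : Equiv.Perm W) e2,
      (σ : Equiv.Perm W) e3, (σ : Equiv.Perm W) e4) ∈ plusList := by
    rintro ⟨σ, h⟩
    have hne : ∀ x : W, x ≠ w0 → σ x ≠ w0 := fun x hx e => hx (σ.injective (e.trans (iso_zero h).symm))
    exact plusList_spec.2 _ (by rw [h.2]; rfl) (hne _ (by decide)) _ (by rw [h.2]; rfl)
      (by rw [iso_B h]; rfl) _ (by rw [h.2]; rfl) (hne _ (by decide)) (by rw [iso_B h]; rfl)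
      (by rw [iso_B h]; rfl) _ (by rw [h.2]; rfl) (by rw [iso_B h]; rfl) (by rw [iso_B h]; rfl)
      (by rw [iso_B h]; rfl)
  classical
  let g : iso false → {t // t ∈ plusList.toFinset} := fun σ => ⟨_, List.mem_toFinset.mpr (hmem σ)⟩
  have hg : Function.Injective g := fun σ τ e => by
    have e' := Prod.ext_iff.mp (congrArg Subtype.val e)
    have e'' := Prod.ext_iff.mp e'.2
    have e''' := Prod.ext_iff.mp e''.2
    refine Subtype.ext (Equiv.ext fun w => ?_)
    simp only [g] at e' e'' e'''
    rw [lin_of_additive σ.2.1 w, lin_of_additive τ.2.1 w, e'.1, e''.1, e'''.1, e'''.2]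
  refine (Nat.card_le_card_of_injective g hg).trans ?_
  rw [Nat.card_eq_finsetCard]
  exact (List.toFinset_card_le _).trans plusList_spec.1

/-- The five singular points, minus type. -/
def pt : Fin 5 → W :=
  ![e1, e2, add (add e1 e2) e3, add (add e1 e2) e4, add (add e1 e2) (add e3 e4)]

/-- The linear map permuting the five points by `σ`. -/
def act5 (σ : Equiv.Perm (Fin 5)) : W → W :=
  lin (pt (σ 0)) (pt (σ 1)) (add (add (pt (σ 0)) (pt (σ 1))) (pt (σ 2)))
    (add (add (pt (σ 0)) (pt (σ 1))) (pt (σ 3)))

theorem pt_spec : (∀ i, q true (pt i) = false ∧ pt i ≠ w0) ∧ (∀ i j, pt i = pt j → i = j) ∧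
    (∀ w, q true w = false → w ≠ w0 → ∃ i, pt i = w) ∧
    (∀ i j, i ≠ j → B (pt i) (pt j) = true) := by
  decide +kernel

theorem act5_spec : ∀ (σ : Equiv.Perm (Fin 5)), (∀ u v, act5 σ (add u v) = add (act5 σ u) (act5 σ v)) ∧
    (∀ u, q true (act5 σ u) = q true u) ∧ ∀ i, act5 σ (pt i) = pt (σ i) := by
  decide +kernel

theorem exists_eq_act5 (h : σ ∈ iso true) : ∃ π : Equiv.Perm (Fin 5), ∀ w, σ w = act5 π w := by
  have hmap : ∀ i, ∃ j, pt j = σ (pt i) := fun i =>
    pt_spec.2.2.1 _ (by rw [h.2]; exact (pt_spec.1 i).1)
      (fun e => (pt_spec.1 i).2 (σ.injective (e.trans (iso_zero h).symm)))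
  choose f hf using hmap
  have hinj : Function.Injective f := fun i j e =>
    pt_spec.2.1 i j (σ.injective (by rw [← hf i, ← hf j, e]))
  refine ⟨Equiv.ofBijective f (Finite.injective_iff_bijective.mp hinj), fun w => ?_⟩
  have k3 : e3 = add (add (pt 0) (pt 1)) (pt 2) := by decide
  have k4 : e4 = add (add (pt 0) (pt 1)) (pt 3) := by decide
  rw [lin_of_additive h.1 w, act5]
  simp only [Equiv.ofBijective_apply, hf]
  rw [k3, k4, h.1, h.1, h.1, h.1]
  rfl

theorem act5_inj : ∀ π ρ : Equiv.Perm (Fin 5), (∀ w, act5 π w = act5 ρ w) → π = ρ := fun π ρ h =>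
  Equiv.ext fun i => pt_spec.2.1 _ _ (by rw [← (act5_spec π).2.2, h, (act5_spec ρ).2.2])

end Cfsg.Agent.SuzType
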