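import Cfsg.Agent.Lib.LargeExtraspecial.Setting
import Cfsg.Agent.Lib.SuzType.Model

/-!
# Groups of Suzuki sporadic type: elementary calculus in `Q = 2^{1+6}`

`fl p r` records whether `p` moves `r`; `Data z Q` bundles the hypotheses.
-/

set_option autoImplicit false
set_option maxHeartbeats 400000

namespace Cfsg.Agent.SuzType

open Subgroup
open Cfsg.Agent.LargeExtraspecial (Hub)

variable {G : Type*} [Group G] {z : G} {Q : Subgroup G}

/-- `1` or `x`. -/
def pw (x : G) (e : Bool) : G := cond e x 1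

@[simp] theorem pw_false (x : G) : pw x false = 1 := rfl
@[simp] theorem pw_true (x : G) : pw x true = x := rfl

theorem pw_mem {H : Subgroup G} {x : G} (hx : x ∈ H) (e : Bool) : pw x e ∈ H := by
  cases e
  exacts [one_mem _, hx]

theorem pw_commute {x c : G} (hc : Commute c x) (e : Bool) : Commute c (pw x e) := by
  cases e
  exacts [Commute.one_right c, hc]

theorem pw_mul {x : G} (hx : x * x = 1) (a b : Bool) : pw x a * pw x b = pw x (xor a b) := by
  cases a <;> cases b <;> simp [hx]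

theorem pw_inj {x : G} (hx : x ≠ 1) {a b : Bool} (e : pw x a = pw x b) : a = b := by
  cases a <;> cases b <;> simp [hx, hx.symm] at e ⊢

theorem pw_conj {c x y : G} (h : c * x * c⁻¹ = y) (e : Bool) : c * pw x e * c⁻¹ = pw y e := by
  cases e
  exacts [by simp, h]

open Classical in
/-- Whether `p` moves `r`. -/
noncomputable def fl (p r : G) : Bool := decide (¬ Commute p r)

theorem fl_eq_false {p r : G} : fl p r = false ↔ Commute p r := by simp [fl]

theorem fl_eq_true {p r : G} : fl p r = true ↔ ¬ Commute p r := by simp [fl]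

theorem fl_symm (p r : G) : fl p r = fl r p :=
  Bool.eq_iff_iff.mpr (by rw [fl_eq_true, fl_eq_true]; exact not_congr ⟨Commute.symm, Commute.symm⟩)

theorem fl_spec (h : Hub Q z) {p r : G} (hp : p ∈ Q) (hr : r ∈ Q) :
    p * r * p⁻¹ = r * pw z (fl p r) := by
  by_cases hc : Commute p r
  · rw [fl_eq_false.mpr hc, hc.eq]; simp
  · rw [fl_eq_true.mpr hc]
    exact (h.comm p hp r hr).resolve_left fun e => hc (mul_inv_eq_iff_eq_mul.mp e)

theorem fl_eq (h : Hub Q z) {p r : G} (hp : p ∈ Q) (hr : r ∈ Q) {b : Bool}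
    (e : p * r * p⁻¹ = r * pw z b) : fl p r = b :=
  pw_inj h.ne_one (mul_left_cancel ((fl_spec h hp hr).symm.trans e))

theorem fl_one_left (r : G) : fl (1 : G) r = false := fl_eq_false.mpr (Commute.one_left r)

theorem fl_self (r : G) : fl r r = false := fl_eq_false.mpr (Commute.refl r)

theorem fl_mul (h : Hub Q z) {p p' r : G} (hp : p ∈ Q) (hp' : p' ∈ Q) (hr : r ∈ Q) :
    fl (p * p') r = xor (fl p r) (fl p' r) := by
  refine fl_eq h (mul_mem hp hp') hr ?_
  have hz : ∀ b, p * pw z b * p⁻¹ = pw z b := fun b => pw_conj (by rw [(h.central p hp).eq, mul_inv_cancel_right]) b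
  calc p * p' * r * (p * p')⁻¹ = p * (p' * r * p'⁻¹) * p⁻¹ := by group
    _ = (p * r * p⁻¹) * (p * pw z (fl p' r) * p⁻¹) := by rw [fl_spec h hp' hr]; group
    _ = _ := by rw [fl_spec h hp hr, hz, mul_assoc, pw_mul h.sq]

theorem fl_z (h : Hub Q z) {r : G} (hr : r ∈ Q) : fl z r = false :=
  fl_eq_false.mpr (h.central r hr).symm

theorem fl_pw {x r : G} (e : Bool) : fl (pw x e) r = (e && fl x r) := by
  cases e <;> simp [fl_one_left]

theorem fl_inv (h : Hub Q z) {p r : G} (hp : p ∈ Q) (hr : r ∈ Q) : fl p⁻¹ r = fl p r := by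
  have e := fl_mul h hp (inv_mem hp) hr
  rw [mul_inv_cancel, fl_one_left] at e
  revert e; cases fl p r <;> cases fl p⁻¹ r <;> simp

/-- Squares of products. -/
theorem sq_mul (h : Hub Q z) {p r : G} (hp : p ∈ Q) (hr : r ∈ Q) {i j : Bool}
    (hpi : p * p = pw z i) (hrj : r * r = pw z j) :
    p * r * (p * r) = pw z (xor (xor i j) (fl r p)) := by
  have hzr : r * pw z (fl r p) = pw z (fl r p) * r := (pw_commute (h.central r hr) _).eq
  calc p * r * (p * r) = p * (r * p * r⁻¹) * (r * r) := by group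
    _ = p * p * pw z (fl r p) * (r * r) := by rw [fl_spec h hr hp]; group
    _ = pw z i * pw z (fl r p) * pw z j := by rw [hpi, hrj]
    _ = _ := by
      rw [pw_mul h.sq, pw_mul h.sq]
      cases i <;> cases j <;> cases fl r p <;> rfl

theorem exists_sq (h : Hub Q z) {p : G} (hp : p ∈ Q) : ∃ i, p * p = pw z i := by
  rcases h.sq_cases p hp with e | e
  exacts [⟨false, e⟩, ⟨true, e⟩]

/-- A noncentral involution of `Q`. -/
def Sing (z : G) (Q : Subgroup G) (p : G) : Prop := p ∈ Q ∧ p * p = 1 ∧ p ≠ 1 ∧ p ≠ z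

theorem mem_cz {c x : G} : c ∈ centralizer ({x} : Set G) ↔ Commute c x :=
  mem_centralizer_singleton_iff

theorem Sing.mul_z (h : Hub Q z) {p : G} (hp : Sing z Q p) : Sing z Q (p * z) := by
  obtain ⟨h1, h2, h3, h4⟩ := hp
  refine ⟨mul_mem h1 h.mem, ?_, fun e => h4 ?_, fun e => h3 (by simpa using e)⟩
  · rw [mul_assoc p z, ← mul_assoc z, ← (h.central p h1).eq, mul_assoc p z z, h.sq, mul_one, h2]
  · calc p = p * z * z := by rw [mul_assoc, h.sq, mul_one]
      _ = z := by rw [e, one_mul]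

theorem conj_sq {c p : G} (hp : p * p = 1) : c * p * c⁻¹ * (c * p * c⁻¹) = 1 := by
  calc c * p * c⁻¹ * (c * p * c⁻¹) = c * (p * p) * c⁻¹ := by group
    _ = 1 := by rw [hp]; group

theorem Sing.conj (h : Hub Q z) {p c : G} (hc : Commute c z) (hp : Sing z Q p) :
    Sing z Q (c * p * c⁻¹) := by
  obtain ⟨h1, h2, h3, h4⟩ := hp
  refine ⟨h.normalizes c hc p h1, conj_sq h2, fun e => h3 (by simpa using e), fun e => h4 ?_⟩
  calc p = c⁻¹ * (c * p * c⁻¹) * c := by group
    _ = z := by rw [e, mul_assoc, ← hc.eq, inv_mul_cancel_left]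

/-- The hypotheses of Suzuki type; `classes` is what is used of `C(z)/Q ≅ Ω₆⁻(2)` besides the order. -/
structure Data (z : G) (Q : Subgroup G) : Prop where
  hub : Hub Q z
  le : Q ≤ centralizer ({z} : Set G)
  cardQ : Nat.card Q = 128
  cardC : Nat.card (centralizer ({z} : Set G)) = 3317760
  out : ∃ g : G, g * z * g⁻¹ ∈ Q ∧ g * z * g⁻¹ ≠ z
  classes : ∀ a b c : G, (Commute a z ∧ a ∉ Q ∧ a * a ∈ Q) → (Commute b z ∧ b ∉ Q ∧ b * b ∈ Q) →
    (Commute c z ∧ c ∉ Q ∧ c * c ∈ Q) →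
    (∃ g, Commute g z ∧ g * a * g⁻¹ * b⁻¹ ∈ Q) ∨ (∃ g, Commute g z ∧ g * a * g⁻¹ * c⁻¹ ∈ Q) ∨
      ∃ g, Commute g z ∧ g * b * g⁻¹ * c⁻¹ ∈ Q

theorem Data.conj (d : Data z Q) (k : G) : Data (k * z * k⁻¹) (Q.map (MulAut.conj k).toMonoidHom) := by
  have hcomm : ∀ {x : G}, Commute x (k * z * k⁻¹) ↔ Commute (k⁻¹ * x * k) z := fun {x} => by
    constructor
    · intro h
      have := h.map (MulAut.conj k⁻¹).toMonoidHom
      simpa [mul_assoc] using this
    · intro h
      have := h.map (MulAut.conj k).toMonoidHom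
      simpa [mul_assoc] using this
  have hmem : ∀ {x : G}, x ∈ Q.map (MulAut.conj k).toMonoidHom ↔ k⁻¹ * x * k ∈ Q :=
    LargeExtraspecial.mem_conj_iff
  refine ⟨d.hub.conj k, fun x hx => mem_cz.mpr (hcomm.mpr (mem_cz.mp (d.le (hmem.mp hx)))), ?_, ?_, ?_, ?_⟩
  · rw [card_map_of_injective (MulAut.conj k).injective, d.cardQ]
  · rw [show centralizer ({k * z * k⁻¹} : Set G) =
      (centralizer ({z} : Set G)).map (MulAut.conj k).toMonoidHom from ?_,
      card_map_of_injective (MulAut.conj k).injective, d.cardC]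
    ext x
    rw [mem_cz, hcomm, LargeExtraspecial.mem_conj_iff, mem_cz]
  · obtain ⟨g, hg, hg'⟩ := d.out
    refine ⟨k * g * k⁻¹, hmem.mpr ?_, fun e => hg' ?_⟩
    · rwa [show k⁻¹ * (k * g * k⁻¹ * (k * z * k⁻¹) * (k * g * k⁻¹)⁻¹) * k = g * z * g⁻¹ by group]
    · have := congrArg (fun w => k⁻¹ * w * k) e
      simpa [mul_assoc] using this
  · intro a b c ha hb hc
    have cv : ∀ {x : G}, Commute x (k * z * k⁻¹) ∧ x ∉ Q.map (MulAut.conj k).toMonoidHom ∧
        x * x ∈ Q.map (MulAut.conj k).toMonoidHom →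
        Commute (k⁻¹ * x * k) z ∧ k⁻¹ * x * k ∉ Q ∧ k⁻¹ * x * k * (k⁻¹ * x * k) ∈ Q := by
      rintro x ⟨h1, h2, h3⟩
      refine ⟨hcomm.mp h1, fun e => h2 (hmem.mpr e), ?_⟩
      rw [show k⁻¹ * x * k * (k⁻¹ * x * k) = k⁻¹ * (x * x) * k by group]
      exact hmem.mp h3
    have back : ∀ {x y : G}, (∃ g, Commute g z ∧ g * (k⁻¹ * x * k) * g⁻¹ * (k⁻¹ * y * k)⁻¹ ∈ Q) →
        ∃ g, Commute g (k * z * k⁻¹) ∧ g * x * g⁻¹ * y⁻¹ ∈ Q.map (MulAut.conj k).toMonoidHom := by
      rintro x y ⟨g, hg, hm⟩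
      refine ⟨k * g * k⁻¹, hcomm.mpr (by rwa [show k⁻¹ * (k * g * k⁻¹) * k = g by group]), hmem.mpr ?_⟩
      rwa [show k⁻¹ * (k * g * k⁻¹ * x * (k * g * k⁻¹)⁻¹ * y⁻¹) * k =
        g * (k⁻¹ * x * k) * g⁻¹ * (k⁻¹ * y * k)⁻¹ by group]
    rcases d.classes _ _ _ (cv ha) (cv hb) (cv hc) with h | h | h
    exacts [Or.inl (back h), Or.inr (Or.inl (back h)), Or.inr (Or.inr (back h))]

end Cfsg.Agent.SuzType
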