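import Cfsg.Agent.Lib.SuzType.Classes

/-!
# The two classes of involutions
-/

set_option autoImplicit false
set_option maxHeartbeats 400000
set_option synthInstance.maxSize 2048

namespace Cfsg.Agent.SuzType

open Subgroup
open Cfsg.Agent.LargeExtraspecial (Hub)

variable {G : Type*} [Group G] [Finite G] {z y : G} {Q : Subgroup G}

/-- Every involution commutes with a conjugate of `z`. -/
theorem Data.exists_conj_cz (d : Data z Q) {x : G} (hx : x * x = 1) :
    ∃ g : G, Commute (g * x * g⁻¹) z := by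
  have : Fact (Nat.Prime 2) := ⟨Nat.prime_two⟩
  set C := centralizer ({z} : Set G)
  have hQn : (Q.subgroupOf C).Normal := ⟨fun q hq c =>
    mem_subgroupOf.mpr (d.hub.normalizes c (mem_cz.mp c.2) _ (mem_subgroupOf.mp hq))⟩
  have hQ2 : IsPGroup 2 ↥(Q.subgroupOf C) := IsPGroup.of_card (n := 7)
    ((Nat.card_congr (subgroupOfEquivOfLe d.le).toEquiv).trans d.cardQ)
  let P : Sylow 2 ↥C := Classical.arbitrary _
  have hQP : Q.subgroupOf C ≤ P := by
    have := P.is_maximal' (hQ2.to_sup_of_normal_left P.2) le_sup_right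
    exact this ▸ le_sup_left
  set T2 : Subgroup G := (P : Subgroup ↥C).map C.subtype
  have hT2C : T2 ≤ C := map_subtype_le _
  have hQT2 : Q ≤ T2 := fun q hq => ⟨⟨q, d.le hq⟩, hQP (mem_subgroupOf.mpr hq), rfl⟩
  obtain ⟨T, hT⟩ := (P.2.map C.subtype : IsPGroup 2 ↥T2).exists_le_sylow
  have hTC : (T : Subgroup G) ≤ C := by
    by_cases hlt : T2 = T
    · exact hlt ▸ hT2C
    exfalso
    have hlt' : T2.subgroupOf T < ⊤ :=
      lt_top_iff_ne_top.mpr fun e => hlt (le_antisymm hT (subgroupOf_eq_top.mp e))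
    have : Group.IsNilpotent ↥(T : Subgroup G) := T.2.isNilpotent
    obtain ⟨n, hn, hn'⟩ := SetLike.exists_of_lt (Group.normalizerCondition_of_isNilpotent _ hlt')
    have hnN : (n : G) ∈ normalizer (T2 : Set G) := mem_normalizer_iff.mpr fun x => by
      have h := mem_normalizer_iff.mp hn
      constructor
      · exact fun hx => mem_subgroupOf.mp ((h ⟨x, hT hx⟩).mp (mem_subgroupOf.mpr hx))
      · intro hx
        have hxT : x ∈ (T : Subgroup G) := by
          have := mul_mem (mul_mem (inv_mem n.2) (hT hx)) n.2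
          simpa [mul_assoc] using this
        exact mem_subgroupOf.mp ((h ⟨x, hxT⟩).mpr (mem_subgroupOf.mpr hx))
    have hc : Commute (n : G) z := by
      refine mul_inv_eq_iff_eq_mul.mp ((d.hub.self _ fun q hq => ?_).resolve_left
        fun e => d.hub.ne_one (by simpa using e))
      have hq' : (n : G)⁻¹ * q * n ∈ T2 := by
        have := (mem_normalizer_iff.mp (inv_mem hnN) q).mp (hQT2 hq)
        simpa using this
      have hcom : Commute z ((n : G)⁻¹ * q * n) := (mem_cz.mp (hT2C hq')).symm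
      have := hcom.map (MulAut.conj (n : G)).toMonoidHom
      simpa [mul_assoc] using this
    let N : Subgroup G := ((T2.subgroupOf T) ⊔ zpowers n).map (T : Subgroup G).subtype
    have hNC : N ≤ C := by
      rw [map_le_iff_le_comap, sup_le_iff, zpowers_le]
      exact ⟨fun x hx => hT2C (mem_subgroupOf.mp hx), mem_cz.mpr hc⟩
    have hT2N : T2 ≤ N := fun x hx => ⟨⟨x, hT hx⟩, mem_sup_left (mem_subgroupOf.mpr hx), rfl⟩
    have hN2 : IsPGroup 2 ↥(N.subgroupOf C) :=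
      (T.2.to_le (map_subtype_le _ : N ≤ T)).of_equiv (subgroupOfEquivOfLe hNC).symm
    have hPN : (P : Subgroup ↥C) ≤ N.subgroupOf C := fun x hx =>
      mem_subgroupOf.mpr (hT2N ⟨x, hx, rfl⟩)
    have hNP := P.is_maximal' hN2 hPN
    have hnP : (⟨(n : G), mem_cz.mpr hc⟩ : ↥C) ∈ (P : Subgroup ↥C) :=
      hNP ▸ mem_subgroupOf.mpr ⟨n, mem_sup_right (mem_zpowers n), rfl⟩
    exact hn' (mem_subgroupOf.mpr ⟨_, hnP, rfl⟩)
  have h2 : IsPGroup 2 ↥(zpowers x) := by
    rintro ⟨w, hw⟩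
    obtain ⟨i, rfl⟩ := mem_zpowers_iff.mp hw
    refine ⟨1, Subtype.ext ?_⟩
    show (x ^ i) ^ 2 ^ 1 = 1
    rw [pow_one, ← zpow_natCast, ← zpow_mul, mul_comm, zpow_mul, zpow_natCast, pow_two, hx, one_zpow]
  obtain ⟨S, hS⟩ := h2.exists_le_sylow
  obtain ⟨g, hg⟩ := MulAction.exists_smul_eq G S T
  refine ⟨g, mem_cz.mp (hTC ?_)⟩
  rw [← hg]
  exact ⟨x, hS (mem_zpowers x), rfl⟩

/-- An element of `E` whose centraliser in `E` has index at most two commutes with every square. -/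
theorem commute_sq_of_index_two (E : Subgroup G) {f r : G} (hr : r ∈ E)
    (h : Nat.card E ≤ 2 * Nat.card ↥(E ⊓ centralizer ({f} : Set G))) : Commute (r * r) f := by
  set H := (E ⊓ centralizer ({f} : Set G)).subgroupOf E
  have hH : H.index ≤ 2 := by
    have h1 := H.card_mul_index
    rw [Nat.card_congr (subgroupOfEquivOfLe (inf_le_left : E ⊓ centralizer ({f} : Set G) ≤ E)).toEquiv] at h1
    have h0 : 0 < Nat.card ↥(E ⊓ centralizer ({f} : Set G)) := Nat.card_pos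
    nlinarith
  have hmem : (⟨r, hr⟩ : E) * ⟨r, hr⟩ ∈ H := by
    have h0 : H.index ≠ 0 := index_ne_zero_of_finite
    rcases (by omega : H.index = 1 ∨ H.index = 2) with e | e
    · rw [index_eq_one.mp e]; exact mem_top _
    · exact mul_self_mem_of_index_two e _
  exact mem_cz.mp (Subgroup.mem_inf.mp (mem_subgroupOf.mp hmem)).2

/-- The same for products of two elements outside the centraliser. -/
theorem commute_mul_of_index_two (E : Subgroup G) {f r r' : G} (hr : r ∈ E) (hr' : r' ∈ E)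
    (h : Nat.card E ≤ 2 * Nat.card ↥(E ⊓ centralizer ({f} : Set G))) (h1 : ¬ Commute r f)
    (h2 : ¬ Commute r' f) : Commute (r * r') f := by
  set H := (E ⊓ centralizer ({f} : Set G)).subgroupOf E
  have hH : H.index ≤ 2 := by
    have h1 := H.card_mul_index
    rw [Nat.card_congr (subgroupOfEquivOfLe (inf_le_left : E ⊓ centralizer ({f} : Set G) ≤ E)).toEquiv] at h1
    have h0 : 0 < Nat.card ↥(E ⊓ centralizer ({f} : Set G)) := Nat.card_pos
    nlinarith
  have hn : ∀ {s : G} (hs : s ∈ E), ¬ Commute s f → (⟨s, hs⟩ : E) ∉ H := fun {s} hs hc hm =>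
    hc (mem_cz.mp (Subgroup.mem_inf.mp (mem_subgroupOf.mp hm)).2)
  have h0 : H.index ≠ 0 := index_ne_zero_of_finite
  have e : H.index = 2 := by
    rcases (by omega : H.index = 1 ∨ H.index = 2) with e | e
    · exact absurd (by rw [index_eq_one.mp e]; exact mem_top _) (hn hr h1)
    · exact e
  have hmem : (⟨r, hr⟩ : E) * ⟨r', hr'⟩ ∈ H :=
    (mul_mem_iff_of_index_two e).mpr (iff_of_false (hn hr h1) (hn hr' h2))
  exact mem_cz.mp (Subgroup.mem_inf.mp (mem_subgroupOf.mp hmem)).2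

theorem commute_conj {a b : G} (g : G) (h : Commute a b) : Commute (g * a * g⁻¹) (g * b * g⁻¹) :=
  h.map (MulAut.conj g).toMonoidHom

theorem card_inf_conj (E : Subgroup G) (f h : G) (hE : ∀ r ∈ E, h * r * h⁻¹ ∈ E) :
    Nat.card ↥(E ⊓ centralizer ({f} : Set G)) ≤
      Nat.card ↥(E ⊓ centralizer ({h * f * h⁻¹} : Set G)) := by
  refine Nat.card_le_card_of_injective
    (fun r => ⟨h * (r : G) * h⁻¹, Subgroup.mem_inf.mpr ⟨hE _ (Subgroup.mem_inf.mp r.2).1,
      mem_cz.mpr (commute_conj h (mem_cz.mp (Subgroup.mem_inf.mp r.2).2))⟩⟩) fun a b e => ?_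
  have e' : h * (a : G) * h⁻¹ = h * (b : G) * h⁻¹ := congrArg Subtype.val e
  exact Subtype.ext (mul_left_cancel (mul_right_cancel e'))

namespace Radical

variable {F : Frame z y Q} (R : Radical F) (d : Data z Q)
include d

/-- The representative of the second class. -/
local notation "u₀" => Radical.el R e4 e3 false false

theorem u_facts : u₀ * u₀ = 1 ∧ u₀ ≠ 1 ∧ u₀ ∉ Q ∧ Commute u₀ z ∧ Commute u₀ y := by
  refine ⟨?_, fun e => ?_, R.el_not_mem d (by decide) _ _, (mem_Dzy.mp (R.el_mem d _ _ _ _)).1,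
    (mem_Dzy.mp (R.el_mem d _ _ _ _)).2⟩
  · rw [R.el_sq d, show xor (q true e3) (B e4 e3) = false by decide,
      show xor (q true e4) (B e4 e3) = false by decide]
    simp [kk]
  · exact R.el_not_mem d (show e3 ≠ w0 by decide) false false (by rw [e]; exact one_mem Q)

/-- The involutions of the radical outside `Q`. -/
theorem el_cases {w v : W} (hv : v ≠ w0) {a b : Bool} (h : R.el w v a b * R.el w v a b = 1) :
    (q true v = false ∧ ∃ c, Commute c z ∧ c * R.n (pt 0) * c⁻¹ = R.el w v a b) ∨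
      ∃ c ∈ Dzy z y, c * u₀ * c⁻¹ = R.el w v a b := by
  obtain ⟨⟨h1, h2⟩, hk⟩ := R.el_normal d hv h
  obtain ⟨-, -, -, hA, -⟩ := F.orders d
  rcases inv_pairs w v hv h1 h2 with ⟨hq, hw⟩ | ⟨hq, hq', hB⟩
  · left
    refine ⟨hq, ?_⟩
    obtain ⟨i, hi⟩ := pt_spec.2.2.1 v hq hv
    obtain ⟨π, hπ, h0⟩ := even_orbit_fin i
    obtain ⟨c₀, hc₀, hact⟩ := hA π hπ
    obtain ⟨a₂, b₂, e₀⟩ := R.conj c₀ hc₀ (pt 0)
    rw [hact, (act5_spec π).2.2, h0, hi] at e₀
    have e₁ : c₀ * R.n (pt 0) * c₀⁻¹ = R.el w0 v a₂ b₂ := by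
      rw [e₀, el, kk, F.zero, one_mul, mul_assoc]
    have hinv : R.el w0 v a₂ b₂ * R.el w0 v a₂ b₂ = 1 := by
      rw [← e₁]; exact conj_sq (by rw [R.sq, (pt_spec.1 0).1]; rfl)
    obtain ⟨-, hk'⟩ := R.el_normal d hv hinv
    rcases hw with rfl | rfl
    · obtain ⟨c₁, hc₁, e₂⟩ := hk' a b
      exact ⟨c₁ * c₀, (mem_Dzy.mp hc₁).1.mul_left (mem_Dzy.mp hc₀).1, by
        rw [show c₁ * c₀ * R.n (pt 0) * (c₁ * c₀)⁻¹ = c₁ * (c₀ * R.n (pt 0) * c₀⁻¹) * c₁⁻¹ by group,
          e₁, e₂]⟩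
    · -- `v = w`: conjugate by `x`
      obtain ⟨e, he⟩ := F.conj_x d (R.mem w)
      rw [R.vof, F.minus_true d, hq, Frame.elem, pw_false, pw_true, mul_one] at he
      have hx : F.x⁻¹ = F.x := inv_eq_of_mul_eq_one_right F.x_sq
      have e2 : F.x * R.n w * F.x⁻¹ = R.el w w false e := by
        calc F.x * R.n w * F.x⁻¹ = F.x * R.n w * F.x * (R.n w)⁻¹ * R.n w := by rw [hx]; group
          _ = F.x * (R.n w * F.x * (R.n w)⁻¹) * R.n w := by group
          _ = F.m w * pw z e * R.n w := by rw [he, ← mul_assoc, ← mul_assoc, F.x_sq, one_mul]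
          _ = _ := by
            rw [mul_assoc, ← (pw_commute (mem_Dzy.mp (R.mem w)).1 e).eq, el, kk, pw_false, one_mul,
              mul_assoc]
      obtain ⟨c₁, hc₁, e₃⟩ := hk' false false
      obtain ⟨c, hc, e₄⟩ := hk false e
      have e₅ : R.el w0 w false false = R.n w := by simp [el, kk, F.zero]
      refine ⟨c⁻¹ * F.x * (c₁ * c₀), ((mem_Dzy.mp hc).1.inv_left.mul_left
        (d.hub.central _ F.hx)).mul_left ((mem_Dzy.mp hc₁).1.mul_left (mem_Dzy.mp hc₀).1), ?_⟩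
      rw [show c⁻¹ * F.x * (c₁ * c₀) * R.n (pt 0) * (c⁻¹ * F.x * (c₁ * c₀))⁻¹ =
        c⁻¹ * (F.x * (c₁ * (c₀ * R.n (pt 0) * c₀⁻¹) * c₁⁻¹) * F.x⁻¹) * c by group, e₁, e₃, e₅, e2, ← e₄]
      group
  · right
    obtain ⟨π, hπ, hw, hv'⟩ := c_trans w v hq hq' hB
    obtain ⟨c, hc, hact⟩ := hA π hπ
    obtain ⟨a', b', e⟩ := R.el_conj_D d hc e4 e3 false false
    rw [hact, hact, hw, hv'] at e
    have hinv : R.el w v a' b' * R.el w v a' b' = 1 := by
      rw [← e]; exact conj_sq (R.u_facts d).1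
    obtain ⟨-, hk'⟩ := R.el_normal d hv hinv
    obtain ⟨c', hc', e'⟩ := hk' a b
    exact ⟨c' * c, mul_mem hc' hc, by
      rw [show c' * c * u₀ * (c' * c)⁻¹ = c' * (c * u₀ * c⁻¹) * c'⁻¹ by group, e, e']⟩

/-- An involution of `C(z) ∖ Q` in a coset of `Q` by the radical is in the radical. -/
theorem coset {w v : W} {p : G} (hp : p ∈ Q) (a b : Bool) (hv : v ≠ w0)
    (ht : R.el w v a b * p * (R.el w v a b * p) = 1) :
    ∃ w' a' b', R.el w v a b * p = R.el w' v a' b' := by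
  obtain ⟨e, he⟩ := F.exists_elem d hp
  set s := fl p y
  set bx := fl p F.x
  set u := F.wof p
  obtain ⟨w', a', b', hr⟩ := R.el_mul_Q d w v a b (F.elem_mem d.hub false bx u e)
    (fl_eq_false.mp (F.fl_y d.hub _ _ _ _))
  cases hs : s
  · rw [hs] at he
    exact ⟨w', a', b', by rw [he, hr]⟩
  exfalso
  rw [hs] at he
  set o := R.el w' v a' b'
  set r := F.elem false bx u e
  have hxy : F.x * pw y bx = pw y bx * F.x * pw z bx := by
    cases bx
    · simp
    · have h1 := fl_spec d.hub F.hx F.sing.1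
      rw [F.x_y, pw_true] at h1
      have h2 : Commute F.x z := d.hub.central _ F.hx
      simp only [pw_true]
      calc F.x * y = F.x * y * F.x⁻¹ * F.x := by group
        _ = y * (z * F.x) := by rw [h1]; group
        _ = _ := by rw [← h2.eq]; group
  have hfix : ∃ s', p = r * F.x * pw z s' := by
    refine ⟨bx, ?_⟩
    have c1 : Commute F.x (F.m u) := fl_eq_false.mp (F.x_m u)
    have c2 : Commute F.x (pw z e) := pw_commute (d.hub.central _ F.hx) e
    rw [he]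
    show pw F.x true * pw y bx * F.m u * pw z e = pw F.x false * pw y bx * F.m u * pw z e * F.x * pw z bx
    simp only [pw_true, pw_false, one_mul]
    have c3 : Commute (pw z bx) (F.m u * pw z e) :=
      ((pw_commute (d.hub.central _ (F.mem u)) bx).symm).mul_right
        (pw_commute (pw_commute (Commute.refl z) bx).symm e)
    calc F.x * pw y bx * F.m u * pw z e = pw y bx * F.x * (pw z bx * (F.m u * pw z e)) := by rw [hxy]; group
      _ = pw y bx * (F.x * (F.m u * pw z e)) * pw z bx := by rw [c3.eq]; group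
      _ = pw y bx * (F.m u * pw z e * F.x) * pw z bx := by rw [(c1.mul_right c2).eq]
      _ = _ := by group
  obtain ⟨s', hp'⟩ := hfix
  have hD : o ∈ Dzy z y := R.el_mem d _ _ _ _
  have hoQ : o ∉ Q := R.el_not_mem d hv _ _
  have ho2 : o * o ∈ Q := by
    rw [show o = R.el w' v a' b' from rfl, R.el_sq d]
    exact mul_mem (pw_mem F.sing.1 _) (pw_mem d.hub.mem _)
  obtain ⟨e', hex⟩ := F.conj_x d hD
  have hvo : F.vof o = v := R.el_vof d _ _ _ _
  rw [hvo] at hex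
  set M := pw y (q F.minus v) * F.m v * pw z e'
  have hex : o * F.x * o⁻¹ = F.x * M := by rw [hex, Frame.elem, pw_true]; simp only [M]; group
  have ht' : o * F.x * (o * F.x) = 1 := by
    rw [show R.el w v a b * p = o * F.x * pw z s' by rw [hp', ← mul_assoc, ← mul_assoc, hr]] at ht
    have hz : Commute (pw z s') (o * F.x) :=
      ((pw_commute (mem_Dzy.mp hD).1 s').symm).mul_right (pw_commute (d.hub.central _ F.hx) s').symm
    calc o * F.x * (o * F.x) = o * F.x * (o * F.x) * (pw z s' * pw z s') := by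
          rw [pw_mul d.hub.sq]; simp
      _ = o * F.x * ((o * F.x) * pw z s') * pw z s' := by group
      _ = o * F.x * (pw z s' * (o * F.x)) * pw z s' := by rw [hz.eq]
      _ = o * F.x * pw z s' * (o * F.x * pw z s') := by group
      _ = 1 := ht
  have hox : o * F.x = F.x * M * o := by rw [← hex]; group
  have hMo : M * (o * o) = 1 := by
    calc M * (o * o) = F.x * (F.x * M * o) * o := by
          rw [← mul_assoc F.x, ← mul_assoc F.x, F.x_sq]; group
      _ = F.x * (o * F.x) * o := by rw [hox]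
      _ = F.x * (o * F.x * (o * F.x)) * F.x⁻¹ := by group
      _ = 1 := by rw [ht']; group
  have hMQ : M ∈ Q := mul_mem (mul_mem (pw_mem F.sing.1 _) (F.mem v)) (pw_mem d.hub.mem _)
  have hwM : F.wof M = v := by
    have : M = F.elem false (q F.minus v) v e' := by simp [M, Frame.elem]
    rw [this, F.wof_elem d.hub]
  have hwo : F.wof (o * o) = w0 := by
    rw [show o = R.el w' v a' b' from rfl, R.el_sq d, kk, F.wof_mul d.hub (pw_mem F.sing.1 _)
      (pw_mem d.hub.mem _), F.wof_y d.hub, F.wof_z d.hub, add_self]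
  have := congrArg F.wof hMo
  rw [F.wof_mul d.hub hMQ ho2, hwM, hwo, (add_zero' _).1, ← pw_false z, F.wof_z d.hub] at this
  exact hv this

theorem d_centralizer {c : G} (hc : c ∈ Dzy z y) (hu : Commute c u₀) :
    ∃ w v a b, c = R.el w v a b ∧ cy w v e4 e3 = false ∧ cz w v e4 e3 = false := by
  obtain ⟨a', b', e⟩ := R.el_conj_D d hc e4 e3 false false
  rw [conj_of_commute hu] at e
  obtain ⟨h1, h2, -, -⟩ := R.el_inj d e
  obtain ⟨-, -, -, -, hP⟩ := F.orders d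
  obtain ⟨π, hπ, hact⟩ := hP c hc
  rw [hact] at h1 h2
  have hone := u_stab π hπ h2.symm h1.symm
  obtain ⟨v, w, a, b, hc'⟩ := R.gen c hc fun w => by rw [hact, hone, act5_one]
  have hc' : c = R.el w v a b := by rw [hc']; simp only [el, kk, mul_assoc]
  refine ⟨w, v, a, b, hc', (R.el_commute d (a := a) (b := b) (a' := false) (b' := false)).mp ?_⟩
  rw [← hc']
  exact hu

theorem card_E0 : Nat.card ↥(Dzy z u₀ ⊓ centralizer ({y} : Set G)) = 256 := by
  classical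
  have hval : ∀ p : {p : W × W // cy p.1 p.2 e4 e3 = false ∧ cz p.1 p.2 e4 e3 = false} × Bool × Bool,
      R.el p.1.1.1 p.1.1.2 p.2.1 p.2.2 ∈ Dzy z u₀ ⊓ centralizer ({y} : Set G) := by
    rintro ⟨⟨⟨w, v⟩, h1, h2⟩, a, b⟩
    obtain ⟨k1, k2⟩ := mem_Dzy.mp (R.el_mem d w v a b)
    exact Subgroup.mem_inf.mpr ⟨mem_Dzy.mpr ⟨k1, (R.el_commute d).mpr ⟨h1, h2⟩⟩, mem_cz.mpr k2⟩
  rw [← Nat.card_congr (Equiv.ofBijective (fun p => (⟨_, hval p⟩ :
    ↥(Dzy z u₀ ⊓ centralizer ({y} : Set G)))) ⟨?_, ?_⟩)]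
  · rw [Nat.card_prod, Nat.card_prod, Nat.card_eq_fintype_card, Fintype.card_subtype, count_e0]
    simp
  · rintro ⟨⟨⟨w, v⟩, _⟩, a, b⟩ ⟨⟨⟨w', v'⟩, _⟩, a', b'⟩ e
    obtain ⟨h1, h2, h3, h4⟩ := R.el_inj d (congrArg Subtype.val e)
    subst h1 h2 h3 h4
    rfl
  · rintro ⟨c, hc⟩
    obtain ⟨hc1, hc2⟩ := Subgroup.mem_inf.mp hc
    obtain ⟨w, v, a, b, e, h1, h2⟩ := R.d_centralizer d
      (mem_Dzy.mpr ⟨(mem_Dzy.mp hc1).1, mem_cz.mp hc2⟩) (mem_Dzy.mp hc1).2
    exact ⟨(⟨(w, v), h1, h2⟩, a, b), Subtype.ext e.symm⟩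

/-- `C(z, u₀)` fixes `{y, yz}`. -/
theorem orbit_y {c : G} (hc : c ∈ Dzy z u₀) : c * y * c⁻¹ = y ∨ c * y * c⁻¹ = y * z := by
  obtain ⟨hcz, hcu⟩ := mem_Dzy.mp hc
  obtain ⟨hu2, -, -, huz, -⟩ := R.u_facts d
  have hk := R.el_act d e4 e3 false false
  have hv : F.vof u₀ = e3 := R.el_vof d _ _ _ _
  have hD := R.el_mem d e4 e3 false false
  obtain ⟨ex, hex⟩ := F.conj_x d hD
  rw [hv, F.minus_true d, show q true e3 = true by decide] at hex
  -- singular noncentral commutators with `u₀`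
  have hcomm : ∀ p ∈ Q, Sing z Q (u₀ * p * u₀⁻¹ * p⁻¹) →
      u₀ * p * u₀⁻¹ * p⁻¹ = y ∨ u₀ * p * u₀⁻¹ * p⁻¹ = y * z := by
    intro p hp hs
    have h := d.hub
    set t := u₀ * p * u₀⁻¹ * p⁻¹
    have htQ : t ∈ Q := hs.1
    have hup : u₀ * p * u₀⁻¹ ∈ Q := h.normalizes _ huz _ hp
    obtain ⟨e, he⟩ := F.exists_elem d htQ
    have hty : fl t y = false := by
      rw [fl_mul h hup (inv_mem hp) F.sing.1, fl_inv h hp F.sing.1,
        fl_conj_of_commute (mem_Dzy.mp hD).2]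
      simp
    have hwt : F.wof t = smul (fl p y) e3 := by
      have h1 : F.wof (t * p) = SuzType.add (smul (fl p y) e3) (F.wof p) := by
        rw [show t * p = u₀ * p * u₀⁻¹ by simp [t], F.wof_conj d hD hp, hv, hk]
      rw [F.wof_mul h htQ hp] at h1
      have h2 := congrArg (fun s => SuzType.add s (F.wof p)) h1
      rwa [add_assoc', add_self, (add_zero' _).1, add_assoc', add_self, (add_zero' _).1] at h2
    rw [hty, hwt] at he
    have hsq := hs.2.1
    rw [he, F.elem_sq h, F.minus_true d, ← pw_false z] at hsq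
    have hfy : fl p y = false := by
      have := pw_inj h.ne_one hsq
      revert this; cases fl p y <;> simp [smul, q, e3]
    rw [hfy] at he
    obtain ⟨-, -, ht1, htz⟩ := hs
    generalize fl t F.x = s1 at he
    have hsimp : t = pw y s1 * pw z e := by rw [he]; simp [Frame.elem, smul, F.zero]
    revert hsimp
    cases s1 <;> cases e
    · intro hh; exact absurd (by simpa using hh) ht1
    · intro hh; exact absurd (by simpa using hh) htz
    · intro hh; exact Or.inl (by simpa using hh)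
    · intro hh; exact Or.inr (by simpa using hh)
  obtain ⟨w₁, hw₁⟩ : ∃ w₁, B w₁ e3 = true := ⟨e4, by decide⟩
  obtain ⟨e₁, he₁⟩ := F.conj_m_ker d hD hk w₁
  rw [hv, hw₁] at he₁
  have hy0 : u₀ * F.m w₁ * u₀⁻¹ * (F.m w₁)⁻¹ = y * pw z e₁ := by
    rw [he₁, Frame.elem, pw_false, pw_true, one_mul]
    have hcm : Commute (F.m w₁) (pw z e₁) := pw_commute (d.hub.central _ (F.mem w₁)) e₁
    calc y * F.m w₁ * pw z e₁ * (F.m w₁)⁻¹ = y * (F.m w₁ * pw z e₁ * (F.m w₁)⁻¹) := by group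
      _ = _ := by rw [conj_of_commute hcm]
  have hsy : Sing z Q (y * pw z e₁) := by
    cases e₁
    · simpa using F.sing
    · exact F.sing.mul_z d.hub
  have hp' : c * F.m w₁ * c⁻¹ ∈ Q := d.hub.normalizes c hcz _ (F.mem w₁)
  have key := hcomm _ hp'
  have e1 : u₀ * (c * F.m w₁ * c⁻¹) * u₀⁻¹ * (c * F.m w₁ * c⁻¹)⁻¹ = c * (y * pw z e₁) * c⁻¹ := by
    rw [← hy0]
    have hu' : c * u₀ * c⁻¹ = u₀ := conj_of_commute hcu
    conv_lhs => rw [← hu']
    group
  rw [e1] at key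
  have e2 : c * (y * pw z e₁) * c⁻¹ = c * y * c⁻¹ * pw z e₁ := by
    rw [show c * (y * pw z e₁) * c⁻¹ = c * y * c⁻¹ * (c * pw z e₁ * c⁻¹) by group,
      conj_of_commute (pw_commute hcz _)]
  have hz2 : pw z e₁ * pw z e₁ = 1 := by rw [pw_mul d.hub.sq]; simp
  rcases key (e2 ▸ Sing.conj d.hub hcz hsy |> fun h' => by rw [e2]; exact h') with h' | h'
  · rw [e2] at h'
    cases e₁
    · exact Or.inl (by simpa using h')
    · right
      calc c * y * c⁻¹ = c * y * c⁻¹ * pw z true * pw z true := by rw [mul_assoc (c * y * c⁻¹), hz2, mul_one]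
        _ = _ := by rw [h', pw_true]
  · rw [e2] at h'
    cases e₁
    · exact Or.inr (by simpa using h')
    · exact Or.inl (mul_right_cancel h')

theorem card_E : 256 ≤ Nat.card (Dzy z u₀) ∧ Nat.card (Dzy z u₀) ≤ 512 := by
  refine ⟨R.card_E0 d ▸ Subgroup.card_le_of_le inf_le_left, ?_⟩
  have h := card_le_conj (Dzy z u₀) y {y, y * z} (Set.toFinite _) (fun c hc => by
    rcases R.orbit_y d hc with e | e <;> simp [e])
  rw [R.card_E0 d] at h
  have : Nat.card ↥({y, y * z} : Set G) ≤ 2 := by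
    rw [Nat.card_coe_set_eq]
    exact (Set.ncard_insert_le _ _).trans (by simp)
  nlinarith

theorem card_a : 3072 ≤ Nat.card (Dzy z (R.n (pt 0))) := by
  classical
  obtain ⟨-, hD, -, -, hP⟩ := F.orders d
  let T : Set G := Set.range fun t : Fin 5 × Bool × Bool => R.n (pt t.1) * pw y t.2.1 * pw z t.2.2
  have h := card_le_conj (Dzy z y) (R.n (pt 0)) T (Set.finite_range _) (fun c hc => by
    obtain ⟨π, -, hact⟩ := hP c hc
    obtain ⟨a, b, e⟩ := R.conj c hc (pt 0)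
    rw [hact, (act5_spec π).2.2] at e
    exact ⟨(π 0, a, b), e.symm⟩)
  have h20 : Nat.card T ≤ 20 := by
    refine (Finite.card_range_le _).trans ?_
    simp
  have hle : Dzy z y ⊓ centralizer ({R.n (pt 0)} : Set G) ≤ Dzy z (R.n (pt 0)) := fun c hc =>
    mem_Dzy.mpr ⟨(mem_Dzy.mp (Subgroup.mem_inf.mp hc).1).1, mem_cz.mp (Subgroup.mem_inf.mp hc).2⟩
  have := Subgroup.card_le_of_le hle
  rw [hD] at h
  nlinarith

theorem not_conj_in_cz : ¬ ∃ g, Commute g z ∧ g * R.n (pt 0) * g⁻¹ * u₀⁻¹ ∈ Q := by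
  rintro ⟨g, hg, hm⟩
  set a := R.n (pt 0)
  set t := g * a * g⁻¹
  have ha2 : a * a = 1 := by rw [R.sq, (pt_spec.1 0).1]; rfl
  have ht2 : t * t = 1 := conj_sq ha2
  obtain ⟨hu2, -, -, huz, -⟩ := R.u_facts d
  have hp : u₀⁻¹ * (t * u₀⁻¹) * u₀ ∈ Q := by
    have := d.hub.normalizes u₀⁻¹ huz.inv_left _ hm
    rwa [inv_inv] at this
  have htp : t = u₀ * (u₀⁻¹ * (t * u₀⁻¹) * u₀) := by group
  obtain ⟨w', a', b', he⟩ := R.coset d hp false false (by decide : e3 ≠ w0)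
    (by rw [← htp]; exact ht2)
  rw [← htp] at he
  have hinv : R.el w' e3 a' b' * R.el w' e3 a' b' = 1 := by rw [← he]; exact ht2
  rcases R.el_cases d (by decide) hinv with ⟨hq, -⟩ | ⟨c, hc, hc'⟩
  · exact absurd hq (by decide)
  have hk : (g⁻¹ * c) * u₀ * (g⁻¹ * c)⁻¹ = a := by
    rw [show (g⁻¹ * c) * u₀ * (g⁻¹ * c)⁻¹ = g⁻¹ * (c * u₀ * c⁻¹) * g by group, hc', ← he]
    simp [t, mul_assoc]
  have hkz : Commute (g⁻¹ * c) z := hg.inv_left.mul_left (mem_Dzy.mp hc).1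
  have h1 : 3072 ≤ Nat.card (Dzy z a) := R.card_a d
  have h2 : Nat.card (Dzy z a) ≤ Nat.card (Dzy z u₀) := by
    have hkz' : (g⁻¹ * c)⁻¹ * z * (g⁻¹ * c) = z := by
      rw [mul_assoc, ← hkz.eq, ← mul_assoc, inv_mul_cancel, one_mul]
    refine Nat.card_le_card_of_injective
      (fun r => ⟨(g⁻¹ * c)⁻¹ * (r : G) * (g⁻¹ * c), mem_Dzy.mpr ⟨?_, ?_⟩⟩) fun r r' e => ?_
    · have := commute_conj (g⁻¹ * c)⁻¹ (mem_Dzy.mp r.2).1
      rwa [inv_inv, hkz'] at this
    · have := commute_conj (g⁻¹ * c)⁻¹ (mem_Dzy.mp r.2).2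
      rw [inv_inv] at this
      have hu' : (g⁻¹ * c)⁻¹ * a * (g⁻¹ * c) = u₀ := by rw [← hk]; group
      rwa [hu'] at this
    · have e' : (g⁻¹ * c)⁻¹ * (r : G) * (g⁻¹ * c) = (g⁻¹ * c)⁻¹ * (r' : G) * (g⁻¹ * c) :=
        congrArg Subtype.val e
      exact Subtype.ext (mul_left_cancel (mul_right_cancel e'))
  have := (R.card_E d).2
  omega

/-- The involutions of `C(z)` outside `Q`. -/
theorem cases_cz {t : G} (ht : t * t = 1) (htz : Commute t z) (htQ : t ∉ Q) :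
    (∃ c, Commute c z ∧ c * R.n (pt 0) * c⁻¹ = t) ∨ ∃ c, Commute c z ∧ c * u₀ * c⁻¹ = t := by
  obtain ⟨hu2, -, huQ, huz, -⟩ := R.u_facts d
  have hv0 : pt 0 ≠ w0 := (pt_spec.1 0).2
  have ha : R.n (pt 0) = R.el w0 (pt 0) false false := by simp [el, kk, F.zero]
  have ha2 : R.n (pt 0) * R.n (pt 0) = 1 := by rw [R.sq, (pt_spec.1 0).1]; rfl
  have haz : Commute (R.n (pt 0)) z := (mem_Dzy.mp (R.mem _)).1
  have main : ∀ w v, v ≠ w0 → ∀ g, Commute g z → g * R.el w v false false * g⁻¹ * t⁻¹ ∈ Q →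
      (∃ c, Commute c z ∧ c * R.n (pt 0) * c⁻¹ = t) ∨ ∃ c, Commute c z ∧ c * u₀ * c⁻¹ = t := by
    intro w v hv g hg hm
    set o := R.el w v false false
    set t' := g⁻¹ * t * g
    have ht' : t' * t' = 1 := by
      rw [show t' * t' = g⁻¹ * (t * t) * g by simp only [t']; group, ht]; group
    have hp : o⁻¹ * t' ∈ Q := by
      have h1 := d.hub.normalizes g⁻¹ hg.inv_left _ (inv_mem hm)
      have h2 := d.hub.normalizes o⁻¹ (mem_Dzy.mp (R.el_mem d w v false false)).1.inv_left _ h1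
      have e : o⁻¹ * (g⁻¹ * (g * o * g⁻¹ * t⁻¹)⁻¹ * g⁻¹⁻¹) * o⁻¹⁻¹ = o⁻¹ * t' := by
        simp only [t']; group
      rwa [e] at h2
    obtain ⟨w', a', b', he⟩ := R.coset d hp false false hv (by rw [mul_inv_cancel_left]; exact ht')
    rw [mul_inv_cancel_left] at he
    have hinv : R.el w' v a' b' * R.el w' v a' b' = 1 := by rw [← he]; exact ht'
    rcases R.el_cases d hv hinv with ⟨-, c, hc, hc'⟩ | ⟨c, hc, hc'⟩
    · left
      refine ⟨g * c, hg.mul_left hc, ?_⟩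
      rw [show g * c * R.n (pt 0) * (g * c)⁻¹ = g * (c * R.n (pt 0) * c⁻¹) * g⁻¹ by group, hc', ← he]
      simp only [t']; group
    · right
      refine ⟨g * c, hg.mul_left (mem_Dzy.mp hc).1, ?_⟩
      rw [show g * c * u₀ * (g * c)⁻¹ = g * (c * u₀ * c⁻¹) * g⁻¹ by group, hc', ← he]
      simp only [t']; group
  rcases d.classes (R.n (pt 0)) u₀ t
    ⟨haz, by rw [ha]; exact R.el_not_mem d hv0 _ _, by rw [ha2]; exact one_mem _⟩
    ⟨huz, huQ, by rw [hu2]; exact one_mem _⟩ ⟨htz, htQ, by rw [ht]; exact one_mem _⟩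
    with hh | ⟨g, hg, hm⟩ | ⟨g, hg, hm⟩
  · exact absurd hh (R.not_conj_in_cz d)
  · exact main w0 (pt 0) hv0 g hg (ha ▸ hm)
  · exact main e4 e3 (by decide) g hg hm

/-- No element interchanges `z` and `u₀`. -/
theorem swap_false {h : G} (hz : h * z * h⁻¹ = u₀) (hu : h * u₀ * h⁻¹ = z) : False := by
  obtain ⟨hu2, -, huQ, huz, huy⟩ := R.u_facts d
  obtain ⟨hE1, hE2⟩ := R.card_E d
  have hE0 := R.card_E0 d
  set E := Dzy z u₀
  have hconj : ∀ k, k * z * k⁻¹ = u₀ → k * u₀ * k⁻¹ = z → ∀ r ∈ E, k * r * k⁻¹ ∈ E := by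
    intro k k1 k2 r hr
    have r1 := commute_conj k (mem_Dzy.mp hr).1
    have r2 := commute_conj k (mem_Dzy.mp hr).2
    rw [k1] at r1
    rw [k2] at r2
    exact mem_Dzy.mpr ⟨r2, r1⟩
  -- the elements with large centraliser in `E`
  let S : G → Prop := fun f => f ∈ E ∧ 256 ≤ Nat.card ↥(E ⊓ centralizer ({f} : Set G))
  have hyE : y ∈ E := mem_Dzy.mpr ⟨d.hub.central y F.sing.1, huy.symm⟩
  have hyS : S y := ⟨hyE, le_of_eq hE0.symm⟩
  have hroot : ∀ {w v : W}, cy w v e4 e3 = false → cz w v e4 e3 = false → ∀ a b,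
      R.el w v a b ∈ E ∧ Commute (R.el w v a b) y := fun {w v} h1 h2 a b =>
    ⟨mem_Dzy.mpr ⟨(mem_Dzy.mp (R.el_mem d w v a b)).1, (R.el_commute d).mpr ⟨h1, h2⟩⟩,
      (mem_Dzy.mp (R.el_mem d w v a b)).2⟩
  obtain ⟨⟨wy, vy, hy1, hy2, hy3, hy4⟩, ⟨wz, vz, hz1, hz2, hz3, hz4⟩⟩ := roots
  have hS : ∀ f, S f → Commute f y ∧ ∀ r ∈ E, Commute r y → Commute r f := by
    rintro f ⟨hfE, hf⟩
    have hidx : Nat.card E ≤ 2 * Nat.card ↥(E ⊓ centralizer ({f} : Set G)) := by omega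
    have hfy : Commute f y := by
      have := commute_sq_of_index_two E (hroot hy1 hy2 false false).1 hidx
      rw [R.el_sq d, hy3, hy4, kk, pw_true, pw_false, mul_one] at this
      exact this.symm
    refine ⟨hfy, fun r hr hry => ?_⟩
    obtain ⟨w, v, a, b, rfl, h1, h2⟩ := R.d_centralizer d
      (mem_Dzy.mpr ⟨(mem_Dzy.mp hfE).1, hfy⟩) (mem_Dzy.mp hfE).2
    obtain ⟨w', v', a', b', rfl, k1, k2⟩ := R.d_centralizer d
      (mem_Dzy.mpr ⟨(mem_Dzy.mp hr).1, hry⟩) (mem_Dzy.mp hr).2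
    rcases centre_or w v h1 h2 with hc | ⟨⟨wa, va, a1, a2, a3, a4⟩, ⟨wb, vb, b1, b2, b3, b4⟩⟩
    · exact (R.el_commute d).mpr (hc w' v' k1 k2)
    exfalso
    set f := R.el w v a b
    set ra := R.el wa va false false
    set rb := R.el wb vb false false
    have na : ¬ Commute ra f := fun hh => by
      have := ((R.el_commute d).mp hh).1; rw [a3] at this; exact Bool.false_ne_true this.symm
    have nb : ¬ Commute rb f := fun hh => by
      have := ((R.el_commute d).mp hh).2; rw [b4] at this; exact Bool.false_ne_true this.symm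
    have hab := commute_mul_of_index_two E (hroot a1 a2 false false).1 (hroot b1 b2 false false).1 hidx na nb
    have e1 : ra * f * ra⁻¹ = f * R.kk true false := by rw [R.el_conj d, a3, a4]
    have e2 : rb * f * rb⁻¹ = f * R.kk false true := by rw [R.el_conj d, b3, b4]
    have e3 : ra * rb * f * (ra * rb)⁻¹ = f * R.kk true true := by
      calc ra * rb * f * (ra * rb)⁻¹ = ra * (rb * f * rb⁻¹) * ra⁻¹ := by group
        _ = ra * f * ra⁻¹ * (ra * R.kk false true * ra⁻¹) := by rw [e2]; group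
        _ = _ := by
          rw [e1, conj_of_commute (R.commute_kk d (R.el_mem d _ _ _ _) _ _), mul_assoc, R.kk_mul d]
          rfl
    rw [conj_of_commute hab, left_eq_mul] at e3
    exact Bool.false_ne_true (pw_yz_inj d.hub F.sing (e3.trans (by simp) : R.kk true true =
      pw y false * pw z false)).1.symm
  -- `h` preserves the subgroup `E ∩ C(y)`
  have hzi : h⁻¹ * z * h⁻¹⁻¹ = u₀ := by
    calc h⁻¹ * z * h⁻¹⁻¹ = h⁻¹ * (h * u₀ * h⁻¹) * h⁻¹⁻¹ := congrArg (fun t => h⁻¹ * t * h⁻¹⁻¹) hu.symm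
      _ = u₀ := by group
  have hui : h⁻¹ * u₀ * h⁻¹⁻¹ = z := by
    calc h⁻¹ * u₀ * h⁻¹⁻¹ = h⁻¹ * (h * z * h⁻¹) * h⁻¹⁻¹ := congrArg (fun t => h⁻¹ * t * h⁻¹⁻¹) hz.symm
      _ = z := by group
  have hf : S (h⁻¹ * y * h) := by
    have hk : ∀ r ∈ E, h⁻¹ * r * h⁻¹⁻¹ ∈ E := hconj h⁻¹ hzi hui
    have := card_inf_conj E y h⁻¹ hk
    rw [inv_inv] at this
    exact ⟨by simpa using hk y hyE, hE0 ▸ this⟩
  obtain ⟨hrE, hry⟩ := hroot hz1 hz2 false false
  set r := R.el wz vz false false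
  have hr2 : r * r = z := by rw [R.el_sq d, hz3, hz4]; simp [kk]
  have hr'E : h * r * h⁻¹ ∈ E := hconj h hz hu r hrE
  have hr'y : Commute (h * r * h⁻¹) y := by
    have := commute_conj h ((hS _ hf).2 r hrE hry)
    rwa [show h * (h⁻¹ * y * h) * h⁻¹ = y by group] at this
  obtain ⟨w, v, a, b, e, -, -⟩ := R.d_centralizer d
    (mem_Dzy.mpr ⟨(mem_Dzy.mp hr'E).1, hr'y⟩) (mem_Dzy.mp hr'E).2
  have : u₀ = R.el w0 w0 (xor (q true v) (B w v)) (xor (q true w) (B w v)) := by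
    calc u₀ = h * z * h⁻¹ := hz.symm
      _ = h * (r * r) * h⁻¹ := by rw [hr2]
      _ = h * r * h⁻¹ * (h * r * h⁻¹) := by group
      _ = _ := by rw [e, R.el_sq d]; simp [el, F.zero, R.zero]
  exact absurd (R.el_inj d this).2.1 (by decide)

theorem not_isConj : ¬ IsConj z u₀ := by
  intro hzu
  obtain ⟨g, hg⟩ := isConj_iff.mp hzu
  obtain ⟨hu2, hu1, huQ, huz, huy⟩ := R.u_facts d
  set z₂ := g⁻¹ * z * g with hz₂
  have hgz : g * z₂ * g⁻¹ = z := by simp only [hz₂]; group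
  have hz2 : z₂ * z₂ = 1 := by
    rw [show z₂ * z₂ = g⁻¹ * (z * z) * g by simp only [hz₂]; group, d.hub.sq]; group
  have hzz : Commute z₂ z := by
    have := commute_conj g⁻¹ (huz.symm)
    rwa [inv_inv, ← hg, show g⁻¹ * (g * z * g⁻¹) * g = z by group] at this
  have hnQ : z₂ ∉ Q := fun hQ => by
    have hne : z₂ ≠ z := fun e => huQ (by
      rw [← hg]
      rw [e] at hgz
      rw [hgz]
      exact d.hub.mem)
    have e0 : g⁻¹ * z * g⁻¹⁻¹ = z₂ := by simp [hz₂]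
    have h1 := d.hub.self_mem_conj g⁻¹ (e0 ▸ hQ) (e0 ▸ hne)
      (e0 ▸ d.hub.exists_noncommuting_pair (by rw [d.cardQ]; norm_num) hQ hz2)
    rw [LargeExtraspecial.mem_conj_iff, inv_inv, hg] at h1
    exact huQ h1
  rcases R.cases_cz d hz2 hzz hnQ with ⟨c, hc, hc'⟩ | ⟨c, hc, hc'⟩
  · have h1 := R.card_a d
    have h2 : Nat.card (Dzy z (R.n (pt 0))) ≤ Nat.card (Dzy z u₀) := by
      have k1 : g * c * z * (g * c)⁻¹ = u₀ := by
        rw [show g * c * z * (g * c)⁻¹ = g * (c * z * c⁻¹) * g⁻¹ by group, conj_of_commute hc, hg]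
      have k2 : g * c * R.n (pt 0) * (g * c)⁻¹ = z := by
        rw [show g * c * R.n (pt 0) * (g * c)⁻¹ = g * (c * R.n (pt 0) * c⁻¹) * g⁻¹ by group, hc', hgz]
      refine Nat.card_le_card_of_injective
        (fun r => ⟨g * c * (r : G) * (g * c)⁻¹, mem_Dzy.mpr ⟨?_, ?_⟩⟩) fun r r' e => ?_
      · have := commute_conj (g * c) (mem_Dzy.mp r.2).2
        rwa [k2] at this
      · have := commute_conj (g * c) (mem_Dzy.mp r.2).1
        rwa [k1] at this
      · have e' : g * c * (r : G) * (g * c)⁻¹ = g * c * (r' : G) * (g * c)⁻¹ := congrArg Subtype.val e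
        exact Subtype.ext (mul_left_cancel (mul_right_cancel e'))
    have := (R.card_E d).2
    omega
  · exact R.swap_false d (h := g * c) (by
        rw [show g * c * z * (g * c)⁻¹ = g * (c * z * c⁻¹) * g⁻¹ by group, conj_of_commute hc, hg]) (by
        rw [show g * c * u₀ * (g * c)⁻¹ = g * (c * u₀ * c⁻¹) * g⁻¹ by group, hc', hgz])

end Radical

/-- Exactly two classes of involutions. -/
theorem Data.two_classes (d : Data z Q) : ∃ u : G, u * u = 1 ∧ u ≠ 1 ∧ ¬ IsConj z u ∧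
    ∀ t : G, t * t = 1 → t ≠ 1 → IsConj t z ∨ IsConj t u := by
  obtain ⟨g, hgQ, hgz⟩ := d.out
  have h := d.hub
  have hsing : Sing z Q (g * z * g⁻¹) := ⟨hgQ, conj_sq h.sq, fun e => h.ne_one (by simpa using e), hgz⟩
  obtain ⟨F⟩ := exists_frame d hsing
  obtain ⟨R⟩ := exists_radical F d rfl
  obtain ⟨htrans, -⟩ := F.orders d
  have hcl : ∀ p, Sing z Q p → IsConj z p := fun p hp => by
    obtain ⟨c, -, hc⟩ := htrans p hp
    exact (isConj_iff.mpr ⟨g, rfl⟩).trans (isConj_iff.mpr ⟨c, hc⟩)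
  obtain ⟨hu2, hu1, -, -, -⟩ := R.u_facts d
  refine ⟨_, hu2, hu1, R.not_isConj d, fun t ht ht1 => ?_⟩
  obtain ⟨k, hk⟩ := d.exists_conj_cz ht
  have hkt : IsConj t (k * t * k⁻¹) := isConj_iff.mpr ⟨k, rfl⟩
  have hk1 : k * t * k⁻¹ ≠ 1 := fun e => ht1 (by simpa using e)
  by_cases hQ : k * t * k⁻¹ ∈ Q
  · left
    by_cases hzz : k * t * k⁻¹ = z
    · rw [← hzz]; exact hkt
    · exact hkt.trans (hcl _ ⟨hQ, conj_sq ht, hk1, hzz⟩).symm
  rcases R.cases_cz d (conj_sq ht) hk hQ with ⟨c, -, hc⟩ | ⟨c, -, hc⟩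
  · left
    exact hkt.trans ((R.sing _ (pt_spec.1 0).2 (pt_spec.1 0).1).trans (isConj_iff.mpr ⟨c, hc⟩)).symm
  · exact Or.inr (hkt.trans (IsConj.symm (isConj_iff.mpr ⟨c, hc⟩)))

end Cfsg.Agent.SuzType
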