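import Cfsg.Agent.Lib.SuzType.Frame
import Mathlib.GroupTheory.Index
import Mathlib.GroupTheory.Perm.Cycle.Type

/-!
# `C(z) ∩ C(y)` in a frame: the maps `actW` and `vof`, orders
-/

set_option autoImplicit false
set_option maxHeartbeats 400000
set_option synthInstance.maxSize 2048

namespace Cfsg.Agent.SuzType

open Subgroup
open Cfsg.Agent.LargeExtraspecial (Hub)

variable {G : Type*} [Group G] {z y : G} {Q : Subgroup G}

/-- `C(z) ∩ C(y)`. -/
def Dzy (z y : G) : Subgroup G := centralizer ({z} : Set G) ⊓ centralizer ({y} : Set G)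

theorem mem_Dzy {c : G} : c ∈ Dzy z y ↔ Commute c z ∧ Commute c y := by
  rw [Dzy, Subgroup.mem_inf, mem_cz, mem_cz]

theorem Dzy_le : Dzy z y ≤ centralizer ({z} : Set G) := inf_le_left

theorem fl_conj_of_commute {c p r : G} (h : Commute c r) : fl (c * p * c⁻¹) r = fl p r := by
  conv_lhs => rw [← conj_of_commute h]
  exact fl_conj

theorem vcoord : ∀ l1 l2 l3 l4 : Bool, B (l2, l1, l4, l3) e1 = l1 ∧ B (l2, l1, l4, l3) e2 = l2 ∧
    B (l2, l1, l4, l3) e3 = l3 ∧ B (l2, l1, l4, l3) e4 = l4 := by decide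

theorem B_w0 : ∀ w : W, B w w0 = false := by decide

/-- Translation of `W`. -/
def trans (v : W) : Equiv.Perm W where
  toFun := add v
  invFun := add v
  left_inv w := by rw [← add_assoc', add_self, (add_zero' w).2]
  right_inv w := by rw [← add_assoc', add_self, (add_zero' w).2]

theorem trans_apply (v w : W) : trans v w = add v w := rfl

theorem act5_e : ∀ π : Equiv.Perm (Fin 5), act5 π e1 = pt (π 0) ∧ act5 π e2 = pt (π 1) ∧
    act5 π e3 = add (add (pt (π 0)) (pt (π 1))) (pt (π 2)) ∧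
    act5 π e4 = add (add (pt (π 0)) (pt (π 1))) (pt (π 3)) := by decide +kernel

theorem act5_mul (π ρ : Equiv.Perm (Fin 5)) (w : W) : act5 (π * ρ) w = act5 π (act5 ρ w) := by
  have ha : ∀ u v, act5 π (act5 ρ (add u v)) = add (act5 π (act5 ρ u)) (act5 π (act5 ρ v)) := fun u v => by
    rw [(act5_spec ρ).1, (act5_spec π).1]
  obtain ⟨r1, r2, r3, r4⟩ := act5_e ρ
  rw [lin_of_additive (f := fun u => act5 π (act5 ρ u)) ha w,
    lin_of_additive (act5_spec (π * ρ)).1 w]
  simp only [r1, r2, r3, r4, act5_e, (act5_spec π).1, (act5_spec π).2.2, Equiv.Perm.mul_apply]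

/-- The isometries of minus type, from permutations of the five points. -/
def rho5 : Equiv.Perm (Fin 5) →* Equiv.Perm W where
  toFun π :=
    { toFun := act5 π
      invFun := act5 π⁻¹
      left_inv := fun w => by rw [← act5_mul, inv_mul_cancel]; revert w; decide +kernel
      right_inv := fun w => by rw [← act5_mul, mul_inv_cancel]; revert w; decide +kernel }
  map_one' := Equiv.ext (by decide +kernel)
  map_mul' π ρ := Equiv.ext fun w => act5_mul π ρ w

theorem rho5_inj : Function.Injective rho5 := fun π ρ e =>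
  act5_inj π ρ fun w => congrArg (fun σ : Equiv.Perm W => σ w) e

theorem card_rho5 : Nat.card rho5.range = 120 := by
  rw [← Nat.card_congr (MonoidHom.ofInjective rho5_inj).toEquiv, Nat.card_eq_fintype_card,
    Fintype.card_perm, Fintype.card_fin]
  rfl

theorem iso_le_rho5 : iso true ≤ rho5.range := fun _ h => by
  obtain ⟨π, hπ⟩ := exists_eq_act5 h
  exact ⟨π, Equiv.ext fun w => (hπ w).symm⟩

/-- An element of order five generates `W` from each nonzero vector. -/
theorem five_spans : ∀ π : Equiv.Perm (Fin 5), π * (π * (π * (π * π))) = 1 → π ≠ 1 →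
    ∀ v : W, v ≠ w0 → ∀ w : W, ∃ u : W,
      lin v (act5 π v) (act5 π (act5 π v)) (act5 π (act5 π (act5 π v))) u = w := by
  decide +kernel

theorem even_card_of_involution {α : Type*} [Finite α] (f : α → α) (hf : ∀ a, f (f a) = a)
    (hne : ∀ a, f a ≠ a) : Even (Nat.card α) := by
  classical
  cases nonempty_fintype α
  rw [Nat.card_eq_fintype_card, ← Finset.card_univ, ← ZMod.natCast_eq_zero_iff_even,
    Finset.cast_card]
  exact Finset.sum_involution (fun a _ => f a) (fun _ _ => by decide) (fun a _ _ => hne a)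
    (fun _ _ => Finset.mem_univ _) fun a _ => hf a

namespace Frame

variable (F : Frame z y Q)

/-- The action on `W`. -/
noncomputable def actW (c : G) (w : W) : W := F.wof (c * F.m w * c⁻¹)

/-- The `W`-coordinate of `x ^ c`. -/
noncomputable def vof (c : G) : W := F.wof (c * F.x * c⁻¹)

variable (d : Data z Q)
include d

theorem conj_m {c : G} (hc : c ∈ Dzy z y) (w : W) :
    ∃ b e, c * F.m w * c⁻¹ = F.elem false b (F.actW c w) e := by
  obtain ⟨hcz, hcy⟩ := mem_Dzy.mp hc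
  have hp := d.hub.normalizes c hcz _ (F.mem w)
  obtain ⟨e, he⟩ := F.exists_elem d hp
  have h0 : fl (c * F.m w * c⁻¹) y = false := by
    rw [fl_conj_of_commute hcy, fl_eq_false]; exact F.comm_y w
  exact ⟨_, e, by rw [h0] at he; exact he⟩

theorem conj_x {c : G} (hc : c ∈ Dzy z y) :
    ∃ e, c * F.x * c⁻¹ = F.elem true (q F.minus (F.vof c)) (F.vof c) e := by
  obtain ⟨hcz, hcy⟩ := mem_Dzy.mp hc
  have hp := d.hub.normalizes c hcz _ F.hx
  obtain ⟨e, he⟩ := F.exists_elem d hp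
  have h0 : fl (c * F.x * c⁻¹) y = true := by
    rw [fl_conj_of_commute hcy]; exact F.x_y
  rw [h0, show F.wof (c * F.x * c⁻¹) = F.vof c from rfl] at he
  have hs := conj_sq (c := c) F.x_sq
  rw [he, F.elem_sq d.hub, ← pw_false z, Bool.true_and] at hs
  have hb := pw_inj d.hub.ne_one hs
  refine ⟨e, ?_⟩
  have hb' : fl (c * F.x * c⁻¹) F.x = q F.minus (F.vof c) := by
    revert hb; cases fl (c * F.x * c⁻¹) F.x <;> cases q F.minus (F.vof c) <;> simp
  rwa [hb'] at he

theorem wof_conj {c p : G} (hc : c ∈ Dzy z y) (hp : p ∈ Q) :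
    F.wof (c * p * c⁻¹) = add (smul (fl p y) (F.vof c)) (F.actW c (F.wof p)) := by
  have h := d.hub
  obtain ⟨hcz, hcy⟩ := mem_Dzy.mp hc
  obtain ⟨e, he⟩ := F.exists_elem d hp
  have hmem : ∀ r ∈ Q, c * r * c⁻¹ ∈ Q := h.normalizes c hcz
  have e0 : c * p * c⁻¹ = (c * pw F.x (fl p y) * c⁻¹) * pw y (fl p F.x) *
      (c * F.m (F.wof p) * c⁻¹) * pw z e := by
    conv_lhs => rw [he, elem]
    calc c * (pw F.x (fl p y) * pw y (fl p F.x) * F.m (F.wof p) * pw z e) * c⁻¹
        = (c * pw F.x (fl p y) * c⁻¹) * (c * pw y (fl p F.x) * c⁻¹) *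
          (c * F.m (F.wof p) * c⁻¹) * (c * pw z e * c⁻¹) := by group
      _ = _ := by rw [conj_of_commute (pw_commute hcy _), conj_of_commute (pw_commute hcz _)]
  have m1 := hmem _ (pw_mem F.hx (fl p y))
  have m2 := mul_mem m1 (pw_mem F.sing.1 (fl p F.x))
  have m3 := hmem _ (F.mem (F.wof p))
  rw [e0, F.wof_mul h (mul_mem m2 m3) (pw_mem h.mem e), F.wof_mul h m2 m3,
    F.wof_mul h m1 (pw_mem F.sing.1 _), F.wof_z h, F.wof_y h, (add_zero' _).1, (add_zero' _).1]
  congr 1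
  cases fl p y
  · simp only [pw_false, mul_one, mul_inv_cancel]
    exact F.wof_z h false
  · rfl

theorem actW_mul {c c' : G} (hc : c ∈ Dzy z y) (hc' : c' ∈ Dzy z y) (w : W) :
    F.actW (c * c') w = F.actW c (F.actW c' w) := by
  obtain ⟨hcz', hcy'⟩ := mem_Dzy.mp hc'
  have h0 : fl (c' * F.m w * c'⁻¹) y = false := by
    rw [fl_conj_of_commute hcy', fl_eq_false]; exact F.comm_y w
  show F.wof (c * c' * F.m w * (c * c')⁻¹) = _
  rw [show c * c' * F.m w * (c * c')⁻¹ = c * (c' * F.m w * c'⁻¹) * c⁻¹ by group,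
    F.wof_conj d hc (d.hub.normalizes c' hcz' _ (F.mem w)), h0]
  exact (add_zero' _).2

theorem vof_mul {c c' : G} (hc : c ∈ Dzy z y) (hc' : c' ∈ Dzy z y) :
    F.vof (c * c') = add (F.vof c) (F.actW c (F.vof c')) := by
  obtain ⟨hcz', hcy'⟩ := mem_Dzy.mp hc'
  have h0 : fl (c' * F.x * c'⁻¹) y = true := by
    rw [fl_conj_of_commute hcy']; exact F.x_y
  show F.wof (c * c' * F.x * (c * c')⁻¹) = _
  rw [show c * c' * F.x * (c * c')⁻¹ = c * (c' * F.x * c'⁻¹) * c⁻¹ by group,
    F.wof_conj d hc (d.hub.normalizes c' hcz' _ F.hx), h0]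
  rfl

theorem actW_one (w : W) : F.actW 1 w = w := by
  simp only [actW, one_mul, inv_one, mul_one]; exact F.wof_m d.hub w

theorem vof_one : F.vof 1 = w0 := by
  simp only [vof, one_mul, inv_one, mul_one]
  have e : F.x = F.elem true false w0 false := by simp [elem, F.zero]
  rw [e, F.wof_elem d.hub]

theorem actW_add {c : G} (hc : c ∈ Dzy z y) (u v : W) :
    F.actW c (add u v) = add (F.actW c u) (F.actW c v) := by
  have h := d.hub
  obtain ⟨hcz, -⟩ := mem_Dzy.mp hc
  obtain ⟨e, he⟩ := F.m_add u v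
  have key : c * F.m u * c⁻¹ * (c * F.m v * c⁻¹) = c * F.m (add u v) * c⁻¹ * pw z e := by
    rw [show c * F.m u * c⁻¹ * (c * F.m v * c⁻¹) = c * (F.m u * F.m v) * c⁻¹ by group, he,
      show c * (F.m (add u v) * pw z e) * c⁻¹ = c * F.m (add u v) * c⁻¹ * (c * pw z e * c⁻¹) by group,
      conj_of_commute (pw_commute hcz _)]
  have := congrArg F.wof key
  rw [F.wof_mul h (h.normalizes c hcz _ (F.mem u)) (h.normalizes c hcz _ (F.mem v)),
    F.wof_mul h (h.normalizes c hcz _ (F.mem _)) (pw_mem h.mem e), F.wof_z h, (add_zero' _).1] at this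
  exact this.symm

theorem actW_q {c : G} (hc : c ∈ Dzy z y) (w : W) : q F.minus (F.actW c w) = q F.minus w := by
  obtain ⟨b, e, he⟩ := F.conj_m d hc w
  have key : c * F.m w * c⁻¹ * (c * F.m w * c⁻¹) = c * (F.m w * F.m w) * c⁻¹ := by group
  rw [F.m_sq, conj_of_commute (pw_commute (mem_Dzy.mp hc).1 _), he, F.elem_sq d.hub] at key
  simpa using pw_inj d.hub.ne_one key

/-- The action as a homomorphism. -/
noncomputable def permHom : Dzy z y →* Equiv.Perm W where
  toFun c :=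
    { toFun := F.actW c
      invFun := F.actW (c : G)⁻¹
      left_inv := fun w => by rw [← F.actW_mul d (inv_mem c.2) c.2, inv_mul_cancel, F.actW_one d]
      right_inv := fun w => by rw [← F.actW_mul d c.2 (inv_mem c.2), mul_inv_cancel, F.actW_one d] }
  map_one' := Equiv.ext fun w => F.actW_one d w
  map_mul' c c' := Equiv.ext fun w => F.actW_mul d c.2 c'.2 w

theorem permHom_apply (c : Dzy z y) (w : W) : F.permHom d c w = F.actW c w := rfl

theorem permHom_le : (F.permHom d).range ≤ iso F.minus := by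
  rintro _ ⟨c, rfl⟩
  exact ⟨F.actW_add d c.2, F.actW_q d c.2⟩

theorem mem_ker {c : Dzy z y} : c ∈ (F.permHom d).ker ↔ ∀ w, F.actW c w = w := by
  rw [MonoidHom.mem_ker]
  exact ⟨fun e w => congrArg (fun σ : Equiv.Perm W => σ w) e, fun e => Equiv.ext e⟩

theorem conj_m_ker {k : G} (hk : k ∈ Dzy z y) (hk' : ∀ w, F.actW k w = w) (w : W) :
    ∃ e, k * F.m w * k⁻¹ = F.elem false (B w (F.vof k)) w e := by
  obtain ⟨b, e, he⟩ := F.conj_m d hk w
  obtain ⟨e', he'⟩ := F.conj_x d hk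
  rw [hk' w] at he
  have h1 : fl (k * F.m w * k⁻¹) (k * F.x * k⁻¹) = false := by rw [fl_conj, fl_symm, F.x_m]
  rw [he, he', F.fl_elem_elem d.hub, B_symm] at h1
  refine ⟨e, ?_⟩
  rw [he]
  congr 1
  revert h1; cases b <;> cases B w (F.vof k) <;> simp

theorem mem_of_vof {k : G} (hk : k ∈ Dzy z y) (hk' : ∀ w, F.actW k w = w) (hv : F.vof k = w0) :
    k ∈ Q := by
  have h := d.hub
  obtain ⟨hkz, hky⟩ := mem_Dzy.mp hk
  obtain ⟨ex, hex⟩ := F.conj_x d hk
  rw [hv, show q F.minus w0 = false by cases F.minus <;> rfl] at hex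
  have hx' : k * F.x * k⁻¹ = F.x * pw z ex := by simpa [elem, F.zero] using hex
  have hm' : ∀ w, ∃ e, k * F.m w * k⁻¹ = F.m w * pw z e := fun w => by
    obtain ⟨e, he⟩ := F.conj_m_ker d hk hk' w
    rw [hv, B_w0] at he
    exact ⟨e, by simpa [elem] using he⟩
  obtain ⟨l1, hl1⟩ := hm' e1
  obtain ⟨l2, hl2⟩ := hm' e2
  obtain ⟨l3, hl3⟩ := hm' e3
  obtain ⟨l4, hl4⟩ := hm' e4
  let u : W := (l2, l1, l4, l3)
  let q₁ := F.elem false ex u false
  have hq₁ : q₁ ∈ Q := F.elem_mem h _ _ _ _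
  have fix : ∀ r ∈ Q, ∀ e, k * r * k⁻¹ = r * pw z e → fl q₁ r = e → Commute (q₁⁻¹ * k) r := by
    intro r hr e he hfl
    have h2 := fl_spec h hq₁ hr
    rw [hfl, ← he] at h2
    show q₁⁻¹ * k * r = r * (q₁⁻¹ * k)
    calc q₁⁻¹ * k * r = q₁⁻¹ * (k * r * k⁻¹) * k := by group
      _ = q₁⁻¹ * (q₁ * r * q₁⁻¹) * k := by rw [h2]
      _ = r * (q₁⁻¹ * k) := by group
  have cx : Commute (q₁⁻¹ * k) F.x := fix _ F.hx ex hx' (F.fl_x h _ _ _ _)
  have c1 := fix _ (F.mem e1) l1 hl1 ((F.fl_m h _ _ _ _ _).trans (vcoord l1 l2 l3 l4).1)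
  have c2 := fix _ (F.mem e2) l2 hl2 ((F.fl_m h _ _ _ _ _).trans (vcoord l1 l2 l3 l4).2.1)
  have c3 := fix _ (F.mem e3) l3 hl3 ((F.fl_m h _ _ _ _ _).trans (vcoord l1 l2 l3 l4).2.2.1)
  have c4 := fix _ (F.mem e4) l4 hl4 ((F.fl_m h _ _ _ _ _).trans (vcoord l1 l2 l3 l4).2.2.2)
  have cy : Commute (q₁⁻¹ * k) y :=
    fix _ F.sing.1 false (by rw [conj_of_commute hky]; simp) (F.fl_y h _ _ _ _)
  have cz : Commute (q₁⁻¹ * k) z := ((h.central _ (inv_mem hq₁))).mul_left hkz
  have add_comm_m : ∀ u v, Commute (q₁⁻¹ * k) (F.m u) → Commute (q₁⁻¹ * k) (F.m v) →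
      Commute (q₁⁻¹ * k) (F.m (add u v)) := by
    intro u v hu hv'
    obtain ⟨e, he⟩ := F.m_add u v
    have he' : F.m (add u v) = F.m u * F.m v * (pw z e)⁻¹ := by rw [he, mul_inv_cancel_right]
    rw [he']
    exact (hu.mul_right hv').mul_right (pw_commute cz _).inv_right
  have cs : ∀ (b : Bool) (u : W), Commute (q₁⁻¹ * k) (F.m u) → Commute (q₁⁻¹ * k) (F.m (smul b u)) := by
    intro b u hu
    cases b
    · show Commute _ (F.m w0); rw [F.zero]; exact Commute.one_right _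
    · exact hu
  have cm : ∀ w, Commute (q₁⁻¹ * k) (F.m w) := fun w => by
    rw [decomp w]
    exact add_comm_m _ _ (add_comm_m _ _ (cs _ _ c1) (cs _ _ c2)) (add_comm_m _ _ (cs _ _ c3) (cs _ _ c4))
  have call : ∀ r ∈ Q, Commute (q₁⁻¹ * k) r := fun r hr => by
    obtain ⟨e, he⟩ := F.exists_elem d hr
    rw [he, elem]
    exact (((pw_commute cx _).mul_right (pw_commute cy _)).mul_right (cm _)).mul_right (pw_commute cz _)
  have hQ : q₁⁻¹ * k ∈ Q := by
    rcases h.self _ call with e | e <;> rw [e]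
    exacts [one_mem _, h.mem]
  simpa using mul_mem hq₁ hQ

theorem of_mem_Q {p : G} (hp : p ∈ Q) (hy : Commute p y) :
    p ∈ Dzy z y ∧ (∀ w, F.actW p w = w) ∧ F.vof p = w0 := by
  have h := d.hub
  refine ⟨mem_Dzy.mpr ⟨h.central p hp, hy⟩, fun w => ?_, ?_⟩
  · show F.wof _ = w
    rw [fl_spec h hp (F.mem w), F.wof_mul h (F.mem w) (pw_mem h.mem _), F.wof_z h, (add_zero' _).1,
      F.wof_m h]
  · show F.wof _ = w0
    rw [fl_spec h hp F.hx, F.wof_mul h F.hx (pw_mem h.mem _), F.wof_z h, (add_zero' _).1]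
    have e : F.x = F.elem true false w0 false := by simp [elem, F.zero]
    rw [e, F.wof_elem h]

/-- The translation by `vof` on the kernel of the action. -/
noncomputable def vHom : (F.permHom d).ker →* Equiv.Perm W where
  toFun k := trans (F.vof ((k : Dzy z y) : G))
  map_one' := Equiv.ext fun w => by
    show add (F.vof 1) w = w
    rw [F.vof_one d]; exact (add_zero' w).2
  map_mul' k k' := Equiv.ext fun w => by
    show add (F.vof (((k : Dzy z y) : G) * ((k' : Dzy z y) : G))) w =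
      add (F.vof ((k : Dzy z y) : G)) (add (F.vof ((k' : Dzy z y) : G)) w)
    rw [F.vof_mul d (k : Dzy z y).2 (k' : Dzy z y).2, (F.mem_ker d).mp k.2, add_assoc']

theorem card_cQy (F : Frame z y Q) : Nat.card {p // p ∈ Q ∧ Commute p y} = 64 := by
  have h := d.hub
  rw [← Nat.card_congr (Equiv.ofBijective
    (fun t : Bool × W × Bool => (⟨F.elem false t.1 t.2.1 t.2.2,
      F.elem_mem h _ _ _ _, fl_eq_false.mp (F.fl_y h _ _ _ _)⟩ : {p // p ∈ Q ∧ Commute p y})) ⟨?_, ?_⟩)]
  · simp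
  · intro s t e
    obtain ⟨-, h2, h3, h4⟩ := F.elem_inj h (congrArg Subtype.val e)
    exact Prod.ext h2 (Prod.ext h3 h4)
  · rintro ⟨p, hp, hy⟩
    obtain ⟨e, he⟩ := F.exists_elem d hp
    rw [fl_eq_false.mpr hy] at he
    exact ⟨(_, _, e), Subtype.ext he.symm⟩

theorem card_ker [Finite G] :
    Nat.card (F.permHom d).ker = 64 * Nat.card (F.vHom d).range ∧ Nat.card (F.vHom d).range ∣ 16 := by
  constructor
  · rw [card_eq_card_quotient_mul_card_subgroup (F.vHom d).ker,
      Nat.card_congr (QuotientGroup.quotientKerEquivRange _).toEquiv, mul_comm]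
    congr 1
    rw [← F.card_cQy d]
    refine Nat.card_congr (Equiv.ofBijective (fun k => (⟨((k : (F.permHom d).ker) : Dzy z y), ?_, ?_⟩ :
      {p // p ∈ Q ∧ Commute p y})) ⟨?_, ?_⟩)
    · have hk := MonoidHom.mem_ker.mp k.2
      have hv : add (F.vof ((k : (F.permHom d).ker) : Dzy z y)) w0 = w0 :=
        congrArg (fun σ : Equiv.Perm W => σ w0) hk
      rw [(add_zero' _).1] at hv
      exact F.mem_of_vof d (k : (F.permHom d).ker).1.2 ((F.mem_ker d).mp (k : (F.permHom d).ker).2) hv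
    · exact (mem_Dzy.mp (k : (F.permHom d).ker).1.2).2
    · intro a b e
      simp only [Subtype.mk.injEq] at e
      exact Subtype.ext (Subtype.ext (Subtype.ext e))
    · rintro ⟨p, hp, hy⟩
      obtain ⟨h1, h2, h3⟩ := F.of_mem_Q d hp hy
      refine ⟨⟨⟨⟨p, h1⟩, (F.mem_ker d).mpr h2⟩, MonoidHom.mem_ker.mpr (Equiv.ext fun w => ?_)⟩, rfl⟩
      show add (F.vof p) w = w
      rw [h3]; exact (add_zero' w).2
  · have hle : Nat.card (F.vHom d).range ≤ 16 := by
      refine (Nat.card_le_card_of_injective (fun σ : (F.vHom d).range => (σ : Equiv.Perm W) w0) ?_).trans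
        (by simp)
      rintro ⟨_, ⟨a, rfl⟩⟩ ⟨_, ⟨b, rfl⟩⟩ e
      change add (F.vof ((a : Dzy z y) : G)) w0 = add (F.vof ((b : Dzy z y) : G)) w0 at e
      rw [(add_zero' _).1, (add_zero' _).1] at e
      exact Subtype.ext (congrArg trans e)
    have hp : IsPGroup 2 (F.vHom d).range := by
      rintro ⟨_, ⟨a, rfl⟩⟩
      refine ⟨1, Subtype.ext (Equiv.ext fun w => ?_)⟩
      show (((F.vHom d a) ^ (2 ^ 1) : Equiv.Perm W)) w = w
      rw [pow_one, pow_two, Equiv.Perm.mul_apply]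
      show add (F.vof ((a : Dzy z y) : G)) (add (F.vof ((a : Dzy z y) : G)) w) = w
      rw [← add_assoc', add_self, (add_zero' w).2]
    have : Fact (Nat.Prime 2) := ⟨Nat.prime_two⟩
    obtain ⟨n, hn⟩ := hp.exists_card_eq
    rw [hn] at hle ⊢
    have : n ≤ 4 := (Nat.pow_le_pow_iff_right (le_refl 2)).mp (le_of_le_of_eq hle (by norm_num))
    exact (Nat.pow_dvd_pow 2 this).trans (by norm_num)

theorem card_D [Finite G] : Nat.card (Dzy z y) =
    Nat.card (F.permHom d).range * (64 * Nat.card (F.vHom d).range) := by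
  rw [card_eq_card_quotient_mul_card_subgroup (F.permHom d).ker,
    Nat.card_congr (QuotientGroup.quotientKerEquivRange _).toEquiv, (F.card_ker d).1]

end Frame

/-- The conjugation action of `C(z)` on `Sing`. -/
@[reducible] def singAction (h : Hub Q z) :
    MulAction (centralizer ({z} : Set G)) {p // Sing z Q p} where
  smul c p := ⟨(c : G) * p * (c : G)⁻¹, Sing.conj h (mem_cz.mp c.2) p.2⟩
  one_smul p := Subtype.ext (by show (1 : G) * p * (1 : G)⁻¹ = p; simp)
  mul_smul c c' p := Subtype.ext (by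
    show (c : G) * c' * p * ((c : G) * c')⁻¹ = c * (c' * p * (c' : G)⁻¹) * (c : G)⁻¹
    group)

variable [Finite G]

theorem orbit_card (d : Data z Q) (hy : Sing z Q y) :
    letI := singAction d.hub
    Nat.card (MulAction.orbit (centralizer ({z} : Set G)) (⟨y, hy⟩ : {p // Sing z Q p})) *
      Nat.card (Dzy z y) = 3317760 := by
  letI := singAction d.hub
  classical
  have hstab : MulAction.stabilizer (centralizer ({z} : Set G)) (⟨y, hy⟩ : {p // Sing z Q p}) =
      (Dzy z y).subgroupOf (centralizer ({z} : Set G)) := by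
    ext c
    rw [MulAction.mem_stabilizer_iff, mem_subgroupOf, mem_Dzy]
    refine ⟨fun e => ⟨mem_cz.mp c.2, ?_⟩, fun e => Subtype.ext (conj_of_commute e.2)⟩
    exact mul_inv_eq_iff_eq_mul.mp (congrArg Subtype.val e)
  rw [← d.cardC, ← Nat.card_congr (subgroupOfEquivOfLe (Dzy_le (z := z) (y := y))).toEquiv, ← hstab,
    card_eq_card_quotient_mul_card_subgroup
      (MulAction.stabilizer (centralizer ({z} : Set G)) (⟨y, hy⟩ : {p // Sing z Q p})),
    Nat.card_congr (MulAction.orbitEquivQuotientStabilizer _ _)]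

theorem orbit_even (d : Data z Q) (hy : Sing z Q y) :
    letI := singAction d.hub
    Even (Nat.card (MulAction.orbit (centralizer ({z} : Set G)) (⟨y, hy⟩ : {p // Sing z Q p}))) := by
  letI := singAction d.hub
  have h := d.hub
  have hclosed : ∀ p : MulAction.orbit (centralizer ({z} : Set G)) (⟨y, hy⟩ : {p // Sing z Q p}),
      (⟨_, (p : {p // Sing z Q p}).2.mul_z h⟩ : {p // Sing z Q p}) ∈
        MulAction.orbit (centralizer ({z} : Set G)) (⟨y, hy⟩ : {p // Sing z Q p}) := by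
    rintro ⟨⟨p, hp⟩, hmem⟩
    obtain ⟨r, hr, hr'⟩ := h.exists_not_commute hp.2.2.1 hp.2.2.2
    obtain ⟨c, hc⟩ := hmem
    refine ⟨⟨r, mem_cz.mpr (h.central r hr)⟩ * c, Subtype.ext ?_⟩
    have hc' : (c : G) * y * (c : G)⁻¹ = p := congrArg Subtype.val hc
    show r * (c : G) * y * (r * (c : G))⁻¹ = p * z
    rw [show r * (c : G) * y * (r * (c : G))⁻¹ = r * ((c : G) * y * (c : G)⁻¹) * r⁻¹ by group, hc']
    exact (h.comm r hr p hp.1).resolve_left fun e => hr' (mul_inv_eq_iff_eq_mul.mp e).symm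
  refine even_card_of_involution (fun p => ⟨_, hclosed p⟩) (fun p => Subtype.ext (Subtype.ext ?_))
    fun p e => h.ne_one ?_
  · show (p : {p // Sing z Q p}).1 * z * z = (p : {p // Sing z Q p}).1
    rw [mul_assoc, h.sq, mul_one]
  · have e' : (p : {p // Sing z Q p}).1 * z = (p : {p // Sing z Q p}).1 :=
      congrArg Subtype.val (congrArg Subtype.val e)
    simpa using e'

theorem Frame.minus_true (F : Frame z y Q) (d : Data z Q) : F.minus = true := by
  by_contra hne
  have hcard : Nat.card {p // Sing z Q p} = 70 := by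
    rw [F.card_sing d, Bool.eq_false_iff.mpr hne]; rfl
  letI := singAction d.hub
  have horb : ∀ p : {p // Sing z Q p},
      3 ∣ Nat.card (MulAction.orbit (centralizer ({z} : Set G)) p) := by
    rintro ⟨y', hy'⟩
    obtain ⟨F'⟩ := exists_frame d hy'
    have hm : F'.minus = false := by
      have e := F'.card_sing d
      rw [hcard] at e
      revert e; cases F'.minus <;> simp
    have hc := orbit_card d hy'
    have hr : Nat.card (F'.permHom d).range ≤ 72 :=
      (Subgroup.card_le_of_le (hm ▸ F'.permHom_le d)).trans card_iso_plus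
    obtain ⟨-, hv⟩ := F'.card_ker d
    rw [F'.card_D d] at hc
    by_contra h3
    have hcop : (Nat.card (MulAction.orbit (centralizer ({z} : Set G))
        (⟨y', hy'⟩ : {p // Sing z Q p}))).Coprime 81 := by
      rw [show (81 : ℕ) = 3 ^ 4 by norm_num]
      exact (((Nat.prime_three.coprime_iff_not_dvd).mpr h3).symm).pow_right 4
    have h81 : 81 ∣ Nat.card (F'.permHom d).range * (64 * Nat.card (F'.vHom d).range) :=
      hcop.symm.dvd_of_dvd_mul_left (by rw [hc]; norm_num)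
    have hcop2 : Nat.Coprime 81 (64 * Nat.card (F'.vHom d).range) :=
      Nat.Coprime.of_dvd_right (Nat.mul_dvd_mul_left 64 hv) (by norm_num)
    have h81' := hcop2.dvd_of_dvd_mul_right h81
    have := Nat.le_of_dvd Nat.card_pos h81'
    omega
  have h3 : 3 ∣ Nat.card {p // Sing z Q p} := by
    classical
    cases nonempty_fintype {p // Sing z Q p}
    rw [Nat.card_congr (MulAction.selfEquivSigmaOrbits (centralizer ({z} : Set G)) _), Nat.card_sigma]
    exact Finset.dvd_sum fun i _ => horb _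
  rw [hcard] at h3
  norm_num at h3

theorem Frame.orders (F : Frame z y Q) (d : Data z Q) :
    (∀ p, Sing z Q p → ∃ c, Commute c z ∧ c * y * c⁻¹ = p) ∧ Nat.card (Dzy z y) = 61440 ∧
      (∀ v, ∃ k ∈ Dzy z y, (∀ w, F.actW k w = w) ∧ F.vof k = v) ∧
      (∀ π : Equiv.Perm (Fin 5), Equiv.Perm.sign π = 1 → ∃ c ∈ Dzy z y, ∀ w, F.actW c w = act5 π w) ∧
      (∀ c ∈ Dzy z y, ∃ π : Equiv.Perm (Fin 5), Equiv.Perm.sign π = 1 ∧ ∀ w, F.actW c w = act5 π w) := by
  have hm := F.minus_true d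
  letI := singAction d.hub
  have hcardS : Nat.card {p // Sing z Q p} = 54 := by rw [F.card_sing d, hm]; rfl
  have hc := orbit_card d F.sing
  have he := orbit_even d F.sing
  set n := Nat.card (MulAction.orbit (centralizer ({z} : Set G)) (⟨y, F.sing⟩ : {p // Sing z Q p}))
  have hn : n ≤ 54 := hcardS ▸ Finite.card_subtype_le _
  have hle : (F.permHom d).range ≤ rho5.range :=
    (hm ▸ F.permHom_le d).trans iso_le_rho5
  have hj : Nat.card (F.permHom d).range ∣ 120 := card_rho5 ▸ card_dvd_of_le hle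
  obtain ⟨hk, hv⟩ := F.card_ker d
  rw [F.card_D d] at hc
  have hn27 : 27 ∣ n := by
    have hd : Nat.card (F.permHom d).range * (64 * Nat.card (F.vHom d).range) ∣ 120 * (64 * 16) :=
      Nat.mul_dvd_mul hj (Nat.mul_dvd_mul_left 64 hv)
    obtain ⟨t, ht⟩ := hd
    have h27 : n * 120 * 1024 = 3317760 * t := by
      calc n * 120 * 1024 = n * (120 * (64 * 16)) := by ring
        _ = (n * (Nat.card (F.permHom d).range * (64 * Nat.card (F.vHom d).range))) * t := by
          rw [ht]; ring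
        _ = 3317760 * t := by rw [hc]
    omega
  have hn0 : n ≠ 0 := fun e => by rw [e, zero_mul] at hc; norm_num at hc
  have hn54 : n = 54 := by
    obtain ⟨t, ht⟩ := hn27
    obtain ⟨s, hs⟩ := he
    omega
  rw [hn54] at hc
  have hj5 : 5 ∣ Nat.card (F.permHom d).range := by
    have h1 : (5 : ℕ) ∣ Nat.card (F.permHom d).range * (64 * Nat.card (F.vHom d).range) :=
      ⟨12288, by omega⟩
    refine (Nat.Coprime.dvd_of_dvd_mul_right ?_ h1)
    exact Nat.Coprime.of_dvd_right (Nat.mul_dvd_mul_left 64 hv) (by norm_num)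
  have : Fact (Nat.Prime 5) := ⟨by norm_num⟩
  obtain ⟨⟨σ, hσ⟩, hσ5⟩ := exists_prime_orderOf_dvd_card' (G := (F.permHom d).range) 5 hj5
  obtain ⟨c₀, hc₀⟩ := hσ
  obtain ⟨π, hπ⟩ := hle ⟨c₀, hc₀⟩
  have hπ5 : π * (π * (π * (π * π))) = 1 ∧ π ≠ 1 := by
    have ho : orderOf π = 5 := by
      rw [← orderOf_injective rho5 rho5_inj, hπ, ← Subgroup.orderOf_coe] at *
      exact hσ5
    refine ⟨?_, fun e => by rw [e, orderOf_one] at ho; norm_num at ho⟩
    rw [← pow_orderOf_eq_one π, ho]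
    simp [pow_succ, mul_assoc]
  have hact : ∀ w, F.actW c₀ w = act5 π w := fun w => by
    rw [← F.permHom_apply d, hc₀, ← hπ]; rfl
  have hne : ∃ k ∈ Dzy z y, (∀ w, F.actW k w = w) ∧ F.vof k ≠ w0 := by
    by_contra hno
    push Not at hno
    have h1 : Nat.card (F.vHom d).range = 1 := by
      rw [Nat.card_eq_one_iff_unique]
      refine ⟨⟨?_⟩, ⟨1⟩⟩
      rintro ⟨_, a, rfl⟩ ⟨_, b, rfl⟩
      refine Subtype.ext (congrArg trans ?_)
      rw [hno _ (a : Dzy z y).2 ((F.mem_ker d).mp a.2), hno _ (b : Dzy z y).2 ((F.mem_ker d).mp b.2)]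
    rw [h1] at hc
    have := Nat.le_of_dvd (by norm_num) hj
    omega
  have hclos : ∀ v, ∃ k ∈ Dzy z y, (∀ w, F.actW k w = w) ∧ F.vof k = v := by
    obtain ⟨k, hk₁, hk₂, hk₃⟩ := hne
    have hadd : ∀ a b, (∃ k ∈ Dzy z y, (∀ w, F.actW k w = w) ∧ F.vof k = a) →
        (∃ k ∈ Dzy z y, (∀ w, F.actW k w = w) ∧ F.vof k = b) →
        ∃ k ∈ Dzy z y, (∀ w, F.actW k w = w) ∧ F.vof k = add a b := by
      rintro a b ⟨k, h1, h2, rfl⟩ ⟨k', h1', h2', rfl⟩
      exact ⟨k * k', mul_mem h1 h1', fun w => by rw [F.actW_mul d h1 h1', h2', h2],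
        by rw [F.vof_mul d h1 h1', h2]⟩
    have hsm : ∀ (e : Bool) a, (∃ k ∈ Dzy z y, (∀ w, F.actW k w = w) ∧ F.vof k = a) →
        ∃ k ∈ Dzy z y, (∀ w, F.actW k w = w) ∧ F.vof k = smul e a := by
      intro e a ha
      cases e
      exacts [⟨1, one_mem _, F.actW_one d, F.vof_one d⟩, ha]
    have hpi : ∀ a, (∃ k ∈ Dzy z y, (∀ w, F.actW k w = w) ∧ F.vof k = a) →
        ∃ k ∈ Dzy z y, (∀ w, F.actW k w = w) ∧ F.vof k = act5 π a := by
      rintro a ⟨k, h1, h2, rfl⟩
      have hi : (c₀ : G)⁻¹ ∈ Dzy z y := inv_mem c₀.2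
      refine ⟨c₀ * k * (c₀ : G)⁻¹, mul_mem (mul_mem c₀.2 h1) hi, fun w => ?_, ?_⟩
      · rw [F.actW_mul d (mul_mem c₀.2 h1) hi, F.actW_mul d c₀.2 h1, h2,
          ← F.actW_mul d c₀.2 hi, mul_inv_cancel, F.actW_one d]
      · rw [F.vof_mul d (mul_mem c₀.2 h1) hi, F.vof_mul d c₀.2 h1, F.actW_mul d c₀.2 h1, h2, hact]
        have e0 : add (F.vof c₀) (F.actW c₀ (F.vof (c₀ : G)⁻¹)) = w0 := by
          rw [← F.vof_mul d c₀.2 hi, mul_inv_cancel, F.vof_one d]
        rw [add_comm' (F.vof c₀), add_assoc', e0, (add_zero' _).1]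
    intro v
    obtain ⟨u, hu⟩ := five_spans π hπ5.1 hπ5.2 _ hk₃ v
    rw [← hu]
    have g0 : ∃ k' ∈ Dzy z y, (∀ w, F.actW k' w = w) ∧ F.vof k' = F.vof k := ⟨k, hk₁, hk₂, rfl⟩
    exact hadd _ _ (hadd _ _ (hsm _ _ g0) (hsm _ _ (hpi _ g0)))
      (hadd _ _ (hsm _ _ (hpi _ (hpi _ g0))) (hsm _ _ (hpi _ (hpi _ (hpi _ g0)))))
  have hv16 : Nat.card (F.vHom d).range = 16 := by
    refine le_antisymm (Nat.le_of_dvd (by norm_num) hv) ?_
    refine le_of_eq_of_le (by simp) (Nat.card_le_card_of_surjective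
      (fun σ : (F.vHom d).range => (σ : Equiv.Perm W) w0) fun v => ?_)
    obtain ⟨k, h1, h2, h3⟩ := hclos v
    refine ⟨⟨_, ⟨⟨⟨k, h1⟩, (F.mem_ker d).mpr h2⟩, rfl⟩⟩, ?_⟩
    show add (F.vof k) w0 = v
    rw [h3, (add_zero' v).1]
  rw [hv16] at hc
  have hj60 : Nat.card (F.permHom d).range = 60 := by omega
  have hidx : ((F.permHom d).range.comap rho5).index = 2 := by
      have hcom : Nat.card ((F.permHom d).range.comap rho5) = Nat.card (F.permHom d).range := by
        rw [← card_map_of_injective (K := (F.permHom d).range.comap rho5) rho5_inj, map_comap_eq,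
          inf_eq_right.mpr hle]
      have h1 := ((F.permHom d).range.comap rho5).card_mul_index
      rw [hcom, hj60,
        Nat.card_eq_fintype_card, Fintype.card_perm, Fintype.card_fin] at h1
      norm_num at h1
      omega
  refine ⟨fun p hp => ?_, ?_, hclos, fun τ hτ => ?_, fun c hc => ?_⟩
  · have huniv : MulAction.orbit (centralizer ({z} : Set G)) (⟨y, F.sing⟩ : {p // Sing z Q p}) =
        Set.univ := by
      refine Set.eq_of_subset_of_ncard_le (Set.subset_univ _) ?_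
      rw [Set.ncard_univ, hcardS, ← Nat.card_coe_set_eq]
      exact le_of_eq hn54.symm
    obtain ⟨c, hc'⟩ : (⟨p, hp⟩ : {p // Sing z Q p}) ∈
        MulAction.orbit (centralizer ({z} : Set G)) (⟨y, F.sing⟩ : {p // Sing z Q p}) :=
      huniv ▸ Set.mem_univ _
    exact ⟨c, mem_cz.mp c.2, congrArg Subtype.val hc'⟩
  · rw [F.card_D d, hv16, hj60]
  · have hmem : τ ∈ (F.permHom d).range.comap rho5 := by
      rw [Equiv.Perm.eq_alternatingGroup_of_index_eq_two hidx]
      exact Equiv.Perm.mem_alternatingGroup.mpr hτ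
    obtain ⟨c, hc'⟩ := hmem
    exact ⟨c, c.2, fun w => by rw [← F.permHom_apply d, hc']; rfl⟩
  · obtain ⟨τ, hτ⟩ := hle ⟨⟨c, hc⟩, rfl⟩
    refine ⟨τ, ?_, fun w => by rw [← F.permHom_apply d ⟨c, hc⟩, ← hτ]; rfl⟩
    have hmem : τ ∈ (F.permHom d).range.comap rho5 := ⟨⟨c, hc⟩, hτ.symm⟩
    rwa [Equiv.Perm.eq_alternatingGroup_of_index_eq_two hidx, Equiv.Perm.mem_alternatingGroup] at hmem

end Cfsg.Agent.SuzType
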