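import Cfsg.Agent.Lib.SuzType.Radical

/-!
# Groups of Suzuki type have two classes of involutions
-/

set_option autoImplicit false
set_option maxHeartbeats 400000
set_option synthInstance.maxSize 2048

namespace Cfsg.Agent.SuzType

open Subgroup
open Cfsg.Agent.LargeExtraspecial (Hub)

variable {G : Type*} [Group G] {z y : G} {Q : Subgroup G}

/-- The `y`-part of the commutator. -/
def cy (w v w' v' : W) : Bool := xor (xor (B v v') (B w v')) (B w' v)

/-- The `z`-part of the commutator. -/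
def cz (w v w' v' : W) : Bool := xor (xor (B w w') (B w v')) (B w' v)

theorem inv_pairs : ∀ w v : W, v ≠ w0 → xor (q true v) (B w v) = false →
    xor (q true w) (B w v) = false →
    (q true v = false ∧ (w = w0 ∨ w = v)) ∨ (q true v = true ∧ q true w = true ∧ B w v = true) := by
  decide +kernel

theorem kill : ∀ w v : W, v ≠ w0 → xor (q true v) (B w v) = false →
    xor (q true w) (B w v) = false → ∀ a b : Bool, ∃ w' v', cy w' v' w v = a ∧ cz w' v' w v = b := by
  decide +kernel

theorem c_trans : ∀ w v : W, q true v = true → q true w = true → B w v = true →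
    ∃ π : Equiv.Perm (Fin 5), Equiv.Perm.sign π = 1 ∧ act5 π e4 = w ∧ act5 π e3 = v := by
  decide +kernel

theorem u_stab : ∀ π : Equiv.Perm (Fin 5), Equiv.Perm.sign π = 1 → act5 π e3 = e3 →
    act5 π e4 = e4 → π = 1 := by decide +kernel

theorem act5_one : ∀ w : W, act5 1 w = w := by decide +kernel

theorem centre_or : ∀ w v : W, cy w v e4 e3 = false → cz w v e4 e3 = false →
    (∀ w' v', cy w' v' e4 e3 = false → cz w' v' e4 e3 = false →
      cy w' v' w v = false ∧ cz w' v' w v = false) ∨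
    ((∃ w' v', cy w' v' e4 e3 = false ∧ cz w' v' e4 e3 = false ∧ cy w' v' w v = true ∧
      cz w' v' w v = false) ∧ ∃ w' v', cy w' v' e4 e3 = false ∧ cz w' v' e4 e3 = false ∧
      cy w' v' w v = false ∧ cz w' v' w v = true) := by decide +kernel

theorem roots : (∃ w v, cy w v e4 e3 = false ∧ cz w v e4 e3 = false ∧
      xor (q true v) (B w v) = true ∧ xor (q true w) (B w v) = false) ∧
    ∃ w v, cy w v e4 e3 = false ∧ cz w v e4 e3 = false ∧
      xor (q true v) (B w v) = false ∧ xor (q true w) (B w v) = true := by decide +kernel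

theorem count_e0 : (Finset.univ.filter fun p : W × W =>
    cy p.1 p.2 e4 e3 = false ∧ cz p.1 p.2 e4 e3 = false).card = 64 := by decide +kernel

/-- `S` is at most `|T|` times the centraliser of an element sent into `T`. -/
theorem card_le_conj [Finite G] (S : Subgroup G) (a : G) (T : Set G) (hT : T.Finite)
    (h : ∀ c ∈ S, c * a * c⁻¹ ∈ T) :
    Nat.card S ≤ Nat.card T * Nat.card ↥(S ⊓ centralizer ({a} : Set G)) := by
  classical
  set H := (S ⊓ centralizer ({a} : Set G)).subgroupOf S
  rw [card_eq_card_quotient_mul_card_subgroup H,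
    Nat.card_congr (subgroupOfEquivOfLe (inf_le_left : S ⊓ centralizer ({a} : Set G) ≤ S)).toEquiv]
  refine Nat.mul_le_mul_right _ ?_
  have : Finite T := hT
  refine Nat.card_le_card_of_injective
    (fun c : S ⧸ H => (⟨(Quotient.out c : S) * a * ((Quotient.out c : S) : G)⁻¹, h _ (Quotient.out c).2⟩ : T))
    fun c c' e => ?_
  have e' : ((Quotient.out c : S) : G) * a * ((Quotient.out c : S) : G)⁻¹ =
      ((Quotient.out c' : S) : G) * a * ((Quotient.out c' : S) : G)⁻¹ := congrArg Subtype.val e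
  rw [← Quotient.out_eq' c, ← Quotient.out_eq' c']
  refine QuotientGroup.eq.mpr (mem_subgroupOf.mpr (Subgroup.mem_inf.mpr ⟨SetLike.coe_mem _, mem_cz.mpr ?_⟩))
  show ((Quotient.out c : S) : G)⁻¹ * ((Quotient.out c' : S) : G) * a = a * _
  calc ((Quotient.out c : S) : G)⁻¹ * ((Quotient.out c' : S) : G) * a
      = ((Quotient.out c : S) : G)⁻¹ *
          (((Quotient.out c' : S) : G) * a * ((Quotient.out c' : S) : G)⁻¹) *
          ((Quotient.out c' : S) : G) := by group
    _ = _ := by rw [← e']; simp only [Subgroup.coe_mul, Subgroup.coe_inv]; group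

namespace Radical

variable [Finite G] {F : Frame z y Q} (R : Radical F)

/-- A central pair. -/
def kk (_R : Radical F) (a b : Bool) : G := pw y a * pw z b

/-- The elements of the radical. -/
def el (w v : W) (a b : Bool) : G := F.m w * R.n v * R.kk a b

variable (d : Data z Q)
include d

theorem commute_kk {c : G} (hc : c ∈ Dzy z y) (a b : Bool) : Commute c (R.kk a b) :=
  (pw_commute (mem_Dzy.mp hc).2 a).mul_right (pw_commute (mem_Dzy.mp hc).1 b)

theorem y_mem (F : Frame z y Q) : y ∈ Dzy z y := mem_Dzy.mpr ⟨d.hub.central y F.sing.1, Commute.refl y⟩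

theorem z_mem (F : Frame z y Q) : z ∈ Dzy z y := mem_Dzy.mpr ⟨Commute.refl z, (d.hub.central y F.sing.1).symm⟩

theorem kk_mem (a b : Bool) : R.kk a b ∈ Dzy z y :=
  mul_mem (pw_mem (y_mem d F) a) (pw_mem (z_mem d F) b)

theorem m_mem (w : W) : F.m w ∈ Dzy z y :=
  mem_Dzy.mpr ⟨d.hub.central _ (F.mem w), F.comm_y w⟩

theorem el_mem (w v : W) (a b : Bool) : R.el w v a b ∈ Dzy z y :=
  mul_mem (mul_mem (m_mem d w) (R.mem v)) (R.kk_mem d a b)

theorem kk_mul (a b a' b' : Bool) : R.kk a b * R.kk a' b' = R.kk (xor a a') (xor b b') := by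
  have e : Commute (pw z b) (pw y a') :=
    pw_commute (pw_commute (mem_Dzy.mp (y_mem d F)).1 b).symm a'
  calc R.kk a b * R.kk a' b' = pw y a * (pw z b * pw y a') * pw z b' := by rw [kk, kk]; group
    _ = pw y a * pw y a' * (pw z b * pw z b') := by rw [e.eq]; group
    _ = _ := by rw [pw_mul F.sing.2.1, pw_mul d.hub.sq]; rfl

theorem el_vof (w v : W) (a b : Bool) : F.vof (R.el w v a b) = v := by
  obtain ⟨h1, h2, h3⟩ := F.of_mem_Q d (F.mem w) (F.comm_y w)
  obtain ⟨k1, k2, k3⟩ := F.of_mem_Q d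
    (p := R.kk a b) (mul_mem (pw_mem F.sing.1 a) (pw_mem d.hub.mem b)) (mem_Dzy.mp (R.kk_mem d a b)).2
  rw [el, F.vof_mul d (mul_mem h1 (R.mem v)) k1, k3, F.vof_mul d h1 (R.mem v), h3, h2, R.vof,
    F.actW_mul d h1 (R.mem v), R.act, h2, (add_zero' _).1]
  exact (add_zero' v).2

theorem el_act (w v : W) (a b : Bool) (u : W) : F.actW (R.el w v a b) u = u := by
  obtain ⟨h1, h2, -⟩ := F.of_mem_Q d (F.mem w) (F.comm_y w)
  obtain ⟨k1, k2, -⟩ := F.of_mem_Q d
    (p := R.kk a b) (mul_mem (pw_mem F.sing.1 a) (pw_mem d.hub.mem b)) (mem_Dzy.mp (R.kk_mem d a b)).2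
  rw [el, F.actW_mul d (mul_mem h1 (R.mem v)) k1, k2, F.actW_mul d h1 (R.mem v), R.act, h2]

theorem el_inj {w v w' v' : W} {a b a' b' : Bool} (e : R.el w v a b = R.el w' v' a' b') :
    w = w' ∧ v = v' ∧ a = a' ∧ b = b' := by
  have hv : v = v' := by rw [← R.el_vof d w v a b, e, R.el_vof d]
  subst hv
  have e1 : ∀ w a b, R.el w v a b = F.elem false a w b * R.n v := fun w a b => by
    rw [el, kk, Frame.elem, pw_false, one_mul, (pw_commute (F.comm_y w) a).eq.symm,
      mul_assoc (F.m w) (R.n v), show R.n v * (pw y a * pw z b) = pw y a * pw z b * R.n v from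
        (R.commute_kk d (R.mem v) a b).eq]
    group
  rw [e1, e1] at e
  obtain ⟨-, h2, h3, h4⟩ := F.elem_inj d.hub (mul_right_cancel e)
  exact ⟨h3, rfl, h2, h4⟩

theorem el_conj (w v w' v' : W) (a b a' b' : Bool) :
    R.el w v a b * R.el w' v' a' b' * (R.el w v a b)⁻¹ =
      R.el w' v' a' b' * R.kk (cy w v w' v') (cz w v w' v') := by
  have hm : ∀ u u', F.m u * F.m u' * (F.m u)⁻¹ = F.m u' * R.kk false (B u u') := fun u u' => by
    rw [fl_spec d.hub (F.mem u) (F.mem u'), F.m_m, kk, pw_false, one_mul]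
  have hn : ∀ u u', R.n u * R.n u' * (R.n u)⁻¹ = R.n u' * R.kk (B u u') false := fun u u' => by
    rw [R.swap, kk, pw_false, mul_one]
  have hnm : ∀ u u', R.n u * F.m u' * (R.n u)⁻¹ = F.m u' * R.kk (B u' u) (B u' u) := fun u u' => by
    rw [R.comm, kk, mul_assoc]
  have hmn : ∀ u u', F.m u * R.n u' * (F.m u)⁻¹ = R.n u' * R.kk (B u u') (B u u') := fun u u' => by
    have e1 := hnm u' u
    set n := R.n u'
    set m := F.m u
    set K := R.kk (B u u') (B u u')
    have hK : K * K = 1 := by rw [R.kk_mul d]; simp [kk]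
    have hnK : Commute n K := R.commute_kk d (R.mem u') _ _
    have e2 : n * m = m * n * K := by
      calc n * m = n * m * n⁻¹ * n := by group
        _ = m * (K * n) := by rw [e1]; group
        _ = _ := by rw [hnK.eq.symm]; group
    calc m * n * m⁻¹ = m * n * (K * K) * m⁻¹ := by rw [hK, mul_one]
      _ = n * (m * K) * m⁻¹ := by rw [← mul_assoc (m * n), ← e2]; group
      _ = n * K := by rw [show m * K = K * m from (R.commute_kk d (m_mem d u) _ _).eq]; group
  have step : ∀ {o : G} (_ : o ∈ Dzy z y) {p : G} {s t : Bool} {o' : G} (_ : o' ∈ Dzy z y) {s' t' : Bool},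
      o' * p * o'⁻¹ = p * R.kk s' t' → o * p * o⁻¹ = p * R.kk s t →
      o * o' * p * (o * o')⁻¹ = p * R.kk (xor s s') (xor t t') := by
    intro o ho p s t o' _ s' t' e' e
    calc o * o' * p * (o * o')⁻¹ = o * (o' * p * o'⁻¹) * o⁻¹ := by group
      _ = (o * p * o⁻¹) * (o * R.kk s' t' * o⁻¹) := by rw [e']; group
      _ = _ := by rw [e, conj_of_commute (R.commute_kk d ho _ _), mul_assoc, R.kk_mul d]
  have stepK : ∀ {o p : G} {s t : Bool} (u u' : Bool), Commute p (R.kk u u') →
      o * p * o⁻¹ = p * R.kk s t → Commute o (R.kk u u') →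
      o * R.kk u u' * p * (o * R.kk u u')⁻¹ = p * R.kk s t := by
    intro o p s t u u' hp e _
    calc o * R.kk u u' * p * (o * R.kk u u')⁻¹ = o * (R.kk u u' * p * (R.kk u u')⁻¹) * o⁻¹ := by group
      _ = o * p * o⁻¹ := by rw [conj_of_commute hp.symm]
      _ = _ := e
  have ho : F.m w * R.n v ∈ Dzy z y := mul_mem (m_mem d w) (R.mem v)
  have c1 : R.el w v a b * F.m w' * (R.el w v a b)⁻¹ =
      F.m w' * R.kk (B w' v) (xor (B w w') (B w' v)) := by
    have := stepK a b (R.commute_kk d (m_mem d w') a b)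
      (step (m_mem d w) (R.mem v) (hnm v w') (hm w w')) (R.commute_kk d ho a b)
    simpa [el] using this
  have c2 : R.el w v a b * R.n v' * (R.el w v a b)⁻¹ =
      R.n v' * R.kk (xor (B w v') (B v v')) (B w v') := by
    have := stepK a b (R.commute_kk d (R.mem v') a b)
      (step (m_mem d w) (R.mem v) (hn v v') (hmn w v')) (R.commute_kk d ho a b)
    simpa [el] using this
  set o := R.el w v a b with hoe
  have c3 : o * R.kk a' b' * o⁻¹ = R.kk a' b' := conj_of_commute (R.commute_kk d (R.el_mem d w v a b) _ _)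
  calc o * R.el w' v' a' b' * o⁻¹ = o * F.m w' * o⁻¹ * (o * R.n v' * o⁻¹) * (o * R.kk a' b' * o⁻¹) := by
        rw [el]; group
    _ = F.m w' * (R.kk (B w' v) (xor (B w w') (B w' v)) * R.n v') *
          (R.kk (xor (B w v') (B v v')) (B w v') * R.kk a' b') := by rw [c1, c2, c3]; group
    _ = F.m w' * R.n v' * (R.kk (B w' v) (xor (B w w') (B w' v)) *
          (R.kk (xor (B w v') (B v v')) (B w v') * R.kk a' b')) := by
        rw [← (R.commute_kk d (R.mem v') _ _).eq]; group
    _ = _ := by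
        rw [el, mul_assoc _ (R.kk a' b'), R.kk_mul d, R.kk_mul d, R.kk_mul d]
        congr 1
        simp only [cy, cz]
        cases B w' v <;> cases B w w' <;> cases B w v' <;> cases B v v' <;> cases a' <;> cases b' <;> rfl

theorem el_commute {w v w' v' : W} {a b a' b' : Bool} :
    Commute (R.el w v a b) (R.el w' v' a' b') ↔ cy w v w' v' = false ∧ cz w v w' v' = false := by
  have e := R.el_conj d w v w' v' a b a' b'
  constructor
  · intro hc
    rw [conj_of_commute hc] at e
    have e1 : R.kk (cy w v w' v') (cz w v w' v') = R.kk false false := by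
      rw [left_eq_mul] at e
      rw [e]; simp [kk]
    exact pw_yz_inj d.hub F.sing e1
  · rintro ⟨h1, h2⟩
    rw [h1, h2] at e
    exact mul_inv_eq_iff_eq_mul.mp (by rw [e]; simp [kk])

theorem el_sq (w v : W) (a b : Bool) : R.el w v a b * R.el w v a b =
    R.kk (xor (q true v) (B w v)) (xor (q true w) (B w v)) := by
  have hmn : F.m w * R.n v ∈ Dzy z y := mul_mem (m_mem d w) (R.mem v)
  have h1 : R.kk a b * R.kk a b = 1 := by rw [R.kk_mul d]; simp [kk]
  calc R.el w v a b * R.el w v a b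
      = F.m w * R.n v * (R.kk a b * (F.m w * R.n v)) * R.kk a b := by rw [el]; group
    _ = F.m w * R.n v * (F.m w * R.n v) * (R.kk a b * R.kk a b) := by
        rw [← (R.commute_kk d hmn a b).eq]; group
    _ = F.m w * (R.n v * F.m w * (R.n v)⁻¹) * (R.n v * R.n v) := by rw [h1]; group
    _ = F.m w * F.m w * R.kk (B w v) (B w v) * R.kk (q true v) false := by
        rw [R.comm, R.sq, kk, kk, pw_false, mul_one]; group
    _ = _ := by
        rw [F.m_sq, F.minus_true d, show pw z (q true w) = R.kk false (q true w) by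
          rw [kk, pw_false, one_mul], R.kk_mul d, R.kk_mul d]
        congr 1 <;> cases q true v <;> cases q true w <;> cases B w v <;> rfl

theorem el_conj_D {c : G} (hc : c ∈ Dzy z y) (w v : W) (a b : Bool) :
    ∃ a' b', c * R.el w v a b * c⁻¹ = R.el (F.actW c w) (F.actW c v) a' b' := by
  obtain ⟨b₁, e₁, hm⟩ := F.conj_m d hc w
  obtain ⟨a₂, b₂, hn⟩ := R.conj c hc v
  have hm : c * F.m w * c⁻¹ = F.m (F.actW c w) * R.kk b₁ e₁ := by
    rw [hm, Frame.elem, pw_false, one_mul, ← (pw_commute (F.comm_y _) b₁).eq, kk, mul_assoc]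
  refine ⟨xor b₁ (xor a₂ a), xor e₁ (xor b₂ b), ?_⟩
  calc c * R.el w v a b * c⁻¹ = c * F.m w * c⁻¹ * (c * R.n v * c⁻¹) * (c * R.kk a b * c⁻¹) := by
        rw [el]; group
    _ = F.m (F.actW c w) * (R.kk b₁ e₁ * R.n (F.actW c v)) * (R.kk a₂ b₂ * R.kk a b) := by
        rw [hm, hn, conj_of_commute (R.commute_kk d hc _ _), kk, kk, kk]; group
    _ = _ := by
        rw [← (R.commute_kk d (R.mem _) b₁ e₁).eq, el, R.kk_mul d, ← R.kk_mul d b₁ e₁]
        group

theorem el_not_mem {w v : W} (hv : v ≠ w0) (a b : Bool) : R.el w v a b ∉ Q := fun h => hv (by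
  rw [← R.el_vof d w v a b]
  exact (F.of_mem_Q d h (mem_Dzy.mp (R.el_mem d w v a b)).2).2.2)

theorem el_mul_Q (w v : W) (a b : Bool) {p : G} (hp : p ∈ Q) (hy : Commute p y) :
    ∃ w' a' b', R.el w v a b * p = R.el w' v a' b' := by
  obtain ⟨e, he⟩ := F.exists_elem d hp
  rw [fl_eq_false.mpr hy] at he
  set bx := fl p F.x
  set u := F.wof p
  obtain ⟨e', he'⟩ := F.m_add w u
  refine ⟨SuzType.add w u, xor (B u v) (xor a bx), xor e' (xor (B u v) (xor b e)), ?_⟩
  have hp' : p = F.m u * R.kk bx e := by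
    rw [he, Frame.elem, pw_false, one_mul, ← (pw_commute (F.comm_y _) bx).eq, kk, mul_assoc]
  rw [hp']
  calc R.el w v a b * (F.m u * R.kk bx e)
      = F.m w * R.n v * (R.kk a b * F.m u) * R.kk bx e := by rw [el]; group
    _ = F.m w * (R.n v * F.m u * (R.n v)⁻¹) * R.n v * (R.kk a b * R.kk bx e) := by
        rw [← (R.commute_kk d (m_mem d u) a b).eq]; group
    _ = F.m w * F.m u * (R.kk (B u v) (B u v) * R.n v) * (R.kk a b * R.kk bx e) := by
        rw [R.comm, kk, kk, kk]; group
    _ = F.m (SuzType.add w u) * R.kk false e' * (R.n v * R.kk (B u v) (B u v)) *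
          (R.kk a b * R.kk bx e) := by
        rw [← (R.commute_kk d (R.mem v) _ _).eq, he']; simp [kk]
    _ = F.m (SuzType.add w u) * (R.kk false e' * R.n v) * (R.kk (B u v) (B u v) * (R.kk a b * R.kk bx e)) := by
        group
    _ = F.m (SuzType.add w u) * R.n v * (R.kk false e' * (R.kk (B u v) (B u v) * (R.kk a b * R.kk bx e))) := by
        rw [← (R.commute_kk d (R.mem v) _ _).eq]; group
    _ = _ := by rw [R.kk_mul d, R.kk_mul d, R.kk_mul d, el, Bool.false_xor]

/-- Central part removed by conjugation in the radical. -/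
theorem el_normal {w v : W} (hv : v ≠ w0) {a b : Bool} (h : R.el w v a b * R.el w v a b = 1) :
    (xor (q true v) (B w v) = false ∧ xor (q true w) (B w v) = false) ∧
      ∀ a' b', ∃ c ∈ Dzy z y, c * R.el w v a b * c⁻¹ = R.el w v a' b' := by
  have hs : xor (q true v) (B w v) = false ∧ xor (q true w) (B w v) = false := by
    rw [R.el_sq d] at h
    exact pw_yz_inj d.hub F.sing (h.trans (by simp))
  refine ⟨hs, fun a' b' => ?_⟩
  obtain ⟨w', v', h1, h2⟩ := kill w v hv hs.1 hs.2 (xor a a') (xor b b')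
  refine ⟨R.el w' v' false false, R.el_mem d _ _ _ _, ?_⟩
  rw [R.el_conj d, h1, h2, el, mul_assoc, R.kk_mul d, el]
  congr 1
  cases a <;> cases a' <;> cases b <;> cases b' <;> rfl

end Radical

end Cfsg.Agent.SuzType
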