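import Cfsg.Agent.Lib.SuzType.CodeData
import Cfsg.Agent.Lib.SuzType.Model

/-!
# Codes for the elements of `Q` and their substitutions

An element of `Q` is coded by seven bits (`x`, `y`, `e1`, …, `e4`, `z`); a substitution by the codes of
the images of the six generators. All the finite checks for the count are here.
-/

set_option autoImplicit false
set_option maxHeartbeats 400000
set_option synthInstance.maxSize 2048

namespace Cfsg.Agent.SuzType

/-- Codes of six elements. -/
abbrev Cd := ℕ × ℕ × ℕ × ℕ × ℕ × ℕ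

/-- The correction bit of a product. -/
def cbeta (p q : ℕ) : Bool :=
  xor (xor (xor (xor (p.testBit 4 && q.testBit 4) (p.testBit 5 && q.testBit 5))
    (p.testBit 1 && q.testBit 0)) (p.testBit 3 && q.testBit 2)) (p.testBit 5 && q.testBit 4)

/-- The product of codes. -/
def cmul (p q : ℕ) : ℕ := (p ^^^ q) ^^^ cond (cbeta p q) 64 0

/-- `p` if `e`. -/
def csel (e : Bool) (p : ℕ) : ℕ := cond e p 0

/-- Substitution. -/
def capp : Cd → ℕ → ℕ
  | (a0, a1, a2, a3, a4, a5), p =>
    cmul (cmul (cmul (csel (p.testBit 0) a0) (csel (p.testBit 1) a1))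
      (cmul (cmul (csel (p.testBit 2) a2) (csel (p.testBit 3) a3))
        (cmul (csel (p.testBit 4) a4) (csel (p.testBit 5) a5)))) (csel (p.testBit 6) 64)

/-- Componentwise. -/
def cmap (f : ℕ → ℕ) : Cd → Cd
  | (a0, a1, a2, a3, a4, a5) => (f a0, f a1, f a2, f a3, f a4, f a5)

/-- Composition of substitutions. -/
def ccomp (A C : Cd) : Cd := cmap (capp A) C

/-- The identity substitution. -/
def cid : Cd := (1, 2, 4, 8, 16, 32)

/-- Powers. -/
def cpow (A : Cd) : ℕ → Cd
  | 0 => cid
  | n + 1 => ccomp (cpow A n) A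

/-- The vector with the given number. -/
def wofN (k : ℕ) : W := (k.testBit 0, k.testBit 1, k.testBit 2, k.testBit 3)

/-- The code of the `W`-part in a frame. -/
def cM : Cd → W → ℕ
  | (_, _, a2, a3, a4, a5), (b0, b1, b2, b3) =>
    cmul (cmul (csel b0 a2) (csel b1 a3)) (cmul (csel b2 a4) (csel b3 a5))

/-- The image of a frame vector. -/
def cimgE (y e : ℕ) (u v w : W) : ℕ :=
  cmul (cmul e (csel (B u v) y)) (csel (xor (B u v) (B w u)) 64)

/-- The images of the generators of a frame by an element of the radical. -/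
def cimgs : Cd → W → W → Bool → Cd
  | (x, y, a2, a3, a4, a5), v, w, a =>
    (cmul (cmul (cmul x (csel (q true v) y)) (cM (x, y, a2, a3, a4, a5) v)) (csel a 64), y,
      cimgE y a2 e1 v w, cimgE y a3 e2 v w, cimgE y a4 e3 v w, cimgE y a5 e4 v w)

/-- The frames. -/
def cframe (i : ℕ) : Cd := (frameData.getD i (cid, cid)).1

/-- The inverse substitutions. -/
def cinv (i : ℕ) : Cd := (frameData.getD i (cid, cid)).2

/-- The substitution of an element of the radical of a frame. -/
def cact (i : ℕ) (v w : W) (a : Bool) : Cd := cmap (capp (cimgs (cframe i) v w a)) (cinv i)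

/-- The 207 substitutions. -/
def centry (k : ℕ) : ℕ × ℕ × ℕ × Bool := entryData.getD k (0, 0, 0, false)

/-- The frame of an entry. -/
def eI (k : ℕ) : ℕ := (centry k).1
/-- The vector of an entry. -/
def eV (k : ℕ) : W := wofN (centry k).2.1
/-- The second vector of an entry. -/
def eW (k : ℕ) : W := wofN (centry k).2.2.1
/-- The sign of an entry. -/
def eA (k : ℕ) : Bool := (centry k).2.2.2

/-- The substitution of an entry. -/
def eCode (k : ℕ) : Cd := cact (eI k) (eV k) (eW k) (eA k)

/-- The substitution of the representative of the second class. -/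
def uCode : Cd := cimgs cid e3 e4 false

/-- The certificate of an entry. -/
def ccert (k : ℕ) : ℕ × ℕ × ℕ × ℕ × Bool := certData.getD k (0, 0, 0, 0, false)

/-- The power of an entry. -/
def kM (k : ℕ) : ℕ := (ccert k).1
/-- The frame of the power. -/
def kI (k : ℕ) : ℕ := (ccert k).2.1
/-- The vector of the power. -/
def kV (k : ℕ) : W := wofN (ccert k).2.2.1
/-- The second vector of the power. -/
def kW (k : ℕ) : W := wofN (ccert k).2.2.2.1
/-- The sign of the power. -/
def kA (k : ℕ) : Bool := (ccert k).2.2.2.2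

/-- Whether the product has `z` as a power. -/
def kBit (k : ℕ) : Bool := xor (q true (kW k)) (B (kW k) (kV k))

/-- Valid representatives. -/
def cvalid (v w : W) (a : Bool) : Bool :=
  (decide (v = w0) && decide (w = w0) && a) ||
    (!decide (v = w0) && !q true v && (decide (w = w0) || decide (w = v)))

/-- The options at a frame, in the order of `coverData`. -/
def copts : List (W × W × Bool) :=
  (w0, w0, true) :: (List.range 16).flatMap fun k =>
    cond (!decide (k = 0) && !q true (wofN k))
      [(wofN k, w0, false), (wofN k, w0, true), (wofN k, wofN k, false), (wofN k, wofN k, true)] []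

/-- The number of a substitution. -/
def ckey : Cd → ℕ
  | (a0, a1, a2, a3, a4, a5) =>
    a0 + 128 * (a1 + 128 * (a2 + 128 * (a3 + 128 * (a4 + 128 * a5))))

/-- Codes less than `128`. -/
def cbdd : Cd → Bool
  | (a0, a1, a2, a3, a4, a5) => decide (a0 < 128) && decide (a1 < 128) && decide (a2 < 128) &&
      decide (a3 < 128) && decide (a4 < 128) && decide (a5 < 128)

/-- The commutator bit of codes. -/
def cfl (p q : ℕ) : Bool := xor (cbeta p q) (cbeta q p)

theorem frame_check : ∀ i < 54, cbdd (cframe i) = true ∧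
    cmul (cframe i).1 (cframe i).1 = 0 ∧ cmul (cframe i).2.1 (cframe i).2.1 = 0 ∧
    (cframe i).2.1 ≠ 0 ∧ (cframe i).2.1 ≠ 64 ∧ cfl (cframe i).1 (cframe i).2.1 = true ∧
    cmap (capp (cframe i)) (cinv i) = cid := by
  decide +kernel

theorem frame_m : ∀ i < 54, cM (cframe i) w0 = 0 ∧
    cM (cframe i) e1 = (cframe i).2.2.1 ∧ cM (cframe i) e2 = (cframe i).2.2.2.1 ∧
    cM (cframe i) e3 = (cframe i).2.2.2.2.1 ∧ cM (cframe i) e4 = (cframe i).2.2.2.2.2 ∧
    ∀ u : W, cM (cframe i) u < 128 ∧ cfl (cM (cframe i) u) (cframe i).2.1 = false ∧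
      cfl (cframe i).1 (cM (cframe i) u) = false ∧
      cmul (cM (cframe i) u) (cM (cframe i) u) = csel (q true u) 64 := by
  decide +kernel

theorem frame_mm : ∀ i < 54, ∀ u v : W,
    cfl (cM (cframe i) u) (cM (cframe i) v) = B u v ∧
    (cmul (cM (cframe i) u) (cM (cframe i) v) = cM (cframe i) (add u v) ∨
      cmul (cM (cframe i) u) (cM (cframe i) v) = cM (cframe i) (add u v) ^^^ 64) := by
  decide +kernel

theorem frame_cover : ∀ p < 128, cmul p p = 0 → p ≠ 0 → p ≠ 64 → ∃ i < 54, (cframe i).2.1 = p := by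
  decide +kernel

theorem entry_valid : ∀ k < 207, eI k < 54 ∧ cvalid (eV k) (eW k) (eA k) = true := by
  decide +kernel

theorem entry_key : ∀ k < 207, ckey (eCode k) = keyData.getD k 0 ∧ cbdd (eCode k) = true := by
  decide +kernel

theorem key_inj : ∀ k < 207, ∀ l < 207, keyData.getD k 0 = keyData.getD l 0 → k = l := by
  decide +kernel

theorem key_ne : ∀ k < 207, keyData.getD k 0 ≠ ckey cid := by decide +kernel

theorem eCode_ne {k : ℕ} (hk : k < 207) : eCode k ≠ cid := fun h =>
  key_ne k hk (by rw [← (entry_key k hk).1, h])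

theorem eCode_inj {k l : ℕ} (hk : k < 207) (hl : l < 207) (h : eCode k = eCode l) : k = l :=
  key_inj k hk l hl (by rw [← (entry_key k hk).1, ← (entry_key l hl).1, h])

theorem opts_spec : copts.length = 21 ∧ ∀ v w : W, ∀ a : Bool, cvalid v w a = true →
    ∃ j < 21, copts.getD j (w0, w0, false) = (v, w, a) := by
  decide +kernel

theorem cover_check : ∀ i < 54, ∀ j < 21, (coverData.getD i []).getD j 0 < 207 ∧
    eCode ((coverData.getD i []).getD j 0) = cact i (copts.getD j (w0, w0, false)).1
      (copts.getD j (w0, w0, false)).2.1 (copts.getD j (w0, w0, false)).2.2 := by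
  decide +kernel

theorem exists_entry {i : ℕ} (hi : i < 54) {v w : W} {a : Bool} (h : cvalid v w a = true) :
    ∃ k < 207, eCode k = cact i v w a := by
  obtain ⟨j, hj, e⟩ := opts_spec.2 v w a h
  obtain ⟨h1, h2⟩ := cover_check i hi j hj
  exact ⟨_, h1, by rw [h2, e]⟩

theorem cert_check : ∀ k < 207, 0 < kM k ∧ kI k < 54 ∧
    xor (q true (kV k)) (B (kW k) (kV k)) = false ∧
    cact (kI k) (kV k) (kW k) (kA k) ≠ cid ∧
    cpow (ccomp (eCode k) uCode) (kM k) = cact (kI k) (kV k) (kW k) (kA k) := by
  decide +kernel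

theorem bit_count : ((List.range 207).filter fun k => kBit k).length = 118 := by
  decide +kernel

end Cfsg.Agent.SuzType
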