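import Cfsg.Agent.Lib.SuzType.Basic

/-!
# A frame of `Q` at a noncentral involution `y`

`Q = ⟨x, y⟩ ∘ m(W)`, with `x` an involution moving `y`. Coordinates, the action of `C(z) ∩ C(y)` on
`W`, and its kernel, which is described by `vof c`, the `W`-coordinate of `x ^ c`.
-/

set_option autoImplicit false
set_option maxHeartbeats 400000
set_option synthInstance.maxSize 2048

namespace Cfsg.Agent.SuzType

open Subgroup
open Cfsg.Agent.LargeExtraspecial (Hub)

variable {G : Type*} [Group G] {z y : G} {Q : Subgroup G}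

theorem fl_mul_right (h : Hub Q z) {p p' r : G} (hp : p ∈ Q) (hp' : p' ∈ Q) (hr : r ∈ Q) :
    fl r (p * p') = xor (fl r p) (fl r p') := by
  rw [fl_symm, fl_mul h hp hp' hr, fl_symm p, fl_symm p']

theorem fl_pw_right {x r : G} (e : Bool) : fl r (pw x e) = (e && fl r x) := by
  rw [fl_symm, fl_pw, fl_symm]

theorem fl_conj {c p r : G} : fl (c * p * c⁻¹) (c * r * c⁻¹) = fl p r := by
  refine Bool.eq_iff_iff.mpr ?_
  rw [fl_eq_true, fl_eq_true, not_iff_not]
  constructor
  · intro h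
    have := h.map (MulAut.conj c⁻¹).toMonoidHom
    simpa [mul_assoc] using this
  · exact fun h => h.map (MulAut.conj c).toMonoidHom

theorem conj_of_commute {c a : G} (h : Commute c a) : c * a * c⁻¹ = a := by
  rw [h.eq, mul_inv_cancel_right]

/-- Elements of `Q` with the same commutators differ by a power of `z`. -/
theorem eq_of_fl (h : Hub Q z) {u v : G} (hu : u ∈ Q) (hv : v ∈ Q)
    (he : ∀ r ∈ Q, fl u r = fl v r) : ∃ e, v = u * pw z e := by
  have hc : ∀ r ∈ Q, Commute (u⁻¹ * v) r := fun r hr => fl_eq_false.mp (by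
    rw [fl_mul h (inv_mem hu) hv hr, fl_inv h hu hr, he r hr, Bool.xor_self])
  rcases h.self _ hc with e | e
  exacts [⟨false, by rw [pw_false, mul_one]; exact (inv_mul_eq_one.mp e).symm⟩,
    ⟨true, by rw [pw_true, ← e, mul_inv_cancel_left]⟩]

/-- A frame at `y`. -/
structure Frame (z y : G) (Q : Subgroup G) where
  minus : Bool
  m : W → G
  x : G
  sing : Sing z Q y
  mem : ∀ w, m w ∈ Q
  zero : m w0 = 1
  comm_y : ∀ w, Commute (m w) y
  hx : x ∈ Q
  x_sq : x * x = 1
  x_y : fl x y = true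
  x_m : ∀ w, fl x (m w) = false
  m_m : ∀ u v, fl (m u) (m v) = B u v
  m_sq : ∀ u, m u * m u = pw z (q minus u)
  m_add : ∀ u v, ∃ e, m u * m v = m (add u v) * pw z e

/-- The normalised basis for given squares of a symplectic one. -/
def tbl : Bool → Bool → Bool → Bool → Bool × W × W × W × W := fun i1 i2 i3 i4 =>
  let P : Bool → Bool → W → W → W × W := fun i j e f =>
    cond (i && !j) (add e f, f) (cond (!i && j) (e, add e f) (e, f))
  let a := P i1 i2 e1 e2
  let b := P i3 i4 e3 e4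
  cond (i1 && i2)
    (cond (i3 && i4)
      (false, add e1 e3, add e2 e3, add (add e1 e2) e4, add (add e1 e2) (add e3 e4))
      (true, b.1, b.2, e1, e2))
    (i3 && i4, a.1, a.2, b.1, b.2)

/-- The linear substitution of `tbl`. -/
def sub (i1 i2 i3 i4 : Bool) : W → W :=
  let t := tbl i1 i2 i3 i4
  lin t.2.1 t.2.2.1 t.2.2.2.1 t.2.2.2.2

/-- The square of a product of a symplectic basis with squares `i`. -/
def q0 (i1 i2 i3 i4 : Bool) : W → Bool
  | (a, b, c, d) => xor (xor (xor (a && i1) (b && i2)) (a && b))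
      (xor (xor (c && i3) (d && i4)) (c && d))

theorem tbl_spec : ∀ i1 i2 i3 i4 : Bool, ∀ u : W,
    q0 i1 i2 i3 i4 (sub i1 i2 i3 i4 u) = q (tbl i1 i2 i3 i4).1 u ∧ sub i1 i2 i3 i4 w0 = w0 ∧
      ∀ v : W, sub i1 i2 i3 i4 (add u v) = add (sub i1 i2 i3 i4 u) (sub i1 i2 i3 i4 v) ∧
        B (sub i1 i2 i3 i4 u) (sub i1 i2 i3 i4 v) = B u v := by
  decide +kernel

theorem exists_frame (d : Data z Q) (hy : Sing z Q y) : Nonempty (Frame z y Q) := by
  have h := d.hub
  obtain ⟨hyQ, hy2, hy1, hyz⟩ := hy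
  obtain ⟨x₀, hx₀, hx₀'⟩ := h.exists_not_commute hy1 hyz
  have hx₀y : fl x₀ y = true := fl_eq_true.mpr fun e => hx₀' e.symm
  have hzy : Commute z y := (h.central y hyQ).symm
  have four : ∀ r ∈ Q, (∀ p ∈ Q, Commute p y → Commute r p) → ∃ e f, r = pw z e * pw y f := by
    intro r hr hc
    rcases LargeExtraspecial.mem_four h.sq hy2 hzy (h.centralizer_of_self hyQ hr hc) with e | e | e | e
    exacts [⟨false, false, by simpa using e⟩, ⟨true, false, by simpa using e⟩,
      ⟨false, true, by simpa using e⟩, ⟨true, true, e⟩]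
  have proj : ∀ p ∈ Q, ∃ e, Commute (p * pw x₀ e) y ∧ p * pw x₀ e ∈ Q := fun p hp =>
    ⟨fl p y, fl_eq_false.mp (by rw [fl_mul h hp (pw_mem hx₀ _) hyQ, fl_pw, hx₀y]; simp),
      mul_mem hp (pw_mem hx₀ _)⟩
  have small : ∀ (a b : G), (∀ p ∈ Q, ∃ e f g, ∃ k l, p * pw x₀ e * pw a f * pw b g = pw z k * pw y l) →
      False := by
    intro a b hall
    let g : Bool × Bool × Bool × Bool × Bool → G := fun t =>
      pw z t.1 * pw y t.2.1 * (pw b t.2.2.1)⁻¹ * (pw a t.2.2.2.1)⁻¹ * (pw x₀ t.2.2.2.2)⁻¹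
    have hsub : (Q : Set G) ⊆ Set.range g := by
      intro p hp
      obtain ⟨e, f, g', k, l, hh⟩ := hall p hp
      refine ⟨(k, l, g', f, e), ?_⟩
      simp only [g, ← hh]
      group
    have hle := Nat.card_mono (Set.finite_range g) hsub
    have := (Finite.card_range_le g)
    have : Nat.card Q = 128 := d.cardQ
    simp only [SetLike.coe_sort_coe] at hle
    simp at *
    omega
  obtain ⟨a, ha, hay, b, hb, hby, hab⟩ :
      ∃ a ∈ Q, Commute a y ∧ ∃ b ∈ Q, Commute b y ∧ fl a b = true := by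
    by_contra hno
    push Not at hno
    refine small 1 1 fun p hp => ?_
    obtain ⟨e, he, he'⟩ := proj p hp
    obtain ⟨k, l, hkl⟩ := four _ he' fun r hr hry =>
      fl_eq_false.mp (Bool.eq_false_iff.mpr (hno _ he' he r hr hry))
    exact ⟨e, false, false, k, l, by simpa using hkl⟩
  have hba : fl b a = true := by rw [fl_symm, hab]
  have proj2 : ∀ r ∈ Q, Commute r y → ∃ f g, r * pw a f * pw b g ∈ Q ∧
      Commute (r * pw a f * pw b g) y ∧ fl (r * pw a f * pw b g) a = false ∧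
      fl (r * pw a f * pw b g) b = false := by
    intro r hr hry
    have m1 : r * pw a (fl r b) ∈ Q := mul_mem hr (pw_mem ha _)
    refine ⟨fl r b, fl r a, mul_mem m1 (pw_mem hb _),
      (hry.mul_left (pw_commute hay.symm _).symm).mul_left (pw_commute hby.symm _).symm, ?_, ?_⟩
    · rw [fl_mul h m1 (pw_mem hb _) ha, fl_mul h hr (pw_mem ha _) ha, fl_pw, fl_pw, fl_self, hba]
      simp
    · rw [fl_mul h m1 (pw_mem hb _) hb, fl_mul h hr (pw_mem ha _) hb, fl_pw, fl_pw, fl_self, hab]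
      simp
  obtain ⟨c, hc, hcy, hca, hcb, hcout⟩ : ∃ c ∈ Q, Commute c y ∧ fl c a = false ∧ fl c b = false ∧
      ∀ e f, c ≠ pw z e * pw y f := by
    by_contra hno
    push Not at hno
    refine small a b fun p hp => ?_
    obtain ⟨e, he, he'⟩ := proj p hp
    obtain ⟨f, g, h1, h2, h3, h4⟩ := proj2 _ he' he
    exact ⟨e, f, g, hno _ h1 h2 h3 h4⟩
  obtain ⟨dd, hd, hdy, hda, hdb, hcd⟩ : ∃ dd ∈ Q, Commute dd y ∧ fl dd a = false ∧
      fl dd b = false ∧ fl c dd = true := by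
    by_contra hno
    push Not at hno
    obtain ⟨e, f, hef⟩ := four c hc fun p hp hpy => by
      obtain ⟨f', g', h1, h2, h3, h4⟩ := proj2 p hp hpy
      have e1 := Bool.eq_false_iff.mpr (hno _ h1 h2 h3 h4)
      rw [fl_mul_right h (mul_mem hp (pw_mem ha _)) (pw_mem hb _) hc,
        fl_mul_right h hp (pw_mem ha _) hc, fl_pw_right, fl_pw_right, hca, hcb] at e1
      exact fl_eq_false.mp (by simpa using e1)
    exact hcout e f hef
  have hdc : fl dd c = true := by rw [fl_symm, hcd]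
  let mon : W → G := fun w => pw a w.1 * pw b w.2.1 * pw c w.2.2.1 * pw dd w.2.2.2
  have mab : ∀ s t, pw a s * pw b t ∈ Q := fun s t => mul_mem (pw_mem ha s) (pw_mem hb t)
  have mabc : ∀ s t u, pw a s * pw b t * pw c u ∈ Q := fun s t u => mul_mem (mab s t) (pw_mem hc u)
  have monQ : ∀ w, mon w ∈ Q := fun w => mul_mem (mabc _ _ _) (pw_mem hd _)
  have mony : ∀ w, Commute (mon w) y := fun w =>
    ((((pw_commute hay.symm _).symm.mul_left (pw_commute hby.symm _).symm).mul_left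
      (pw_commute hcy.symm _).symm).mul_left (pw_commute hdy.symm _).symm)
  have flmon : ∀ (w : W) (r : G), r ∈ Q → fl (mon w) r =
      xor (xor (xor (w.1 && fl a r) (w.2.1 && fl b r)) (w.2.2.1 && fl c r)) (w.2.2.2 && fl dd r) :=
    fun w r hr => by
      simp only [mon]
      rw [fl_mul h (mabc _ _ _) (pw_mem hd _) hr, fl_mul h (mab _ _) (pw_mem hc _) hr,
        fl_mul h (pw_mem ha _) (pw_mem hb _) hr, fl_pw, fl_pw, fl_pw, fl_pw]
  have monB : ∀ u v, fl (mon u) (mon v) = B u v := by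
    intro u v
    rw [flmon u _ (monQ v), fl_symm a, fl_symm b, fl_symm c, fl_symm dd, flmon v a ha, flmon v b hb,
      flmon v c hc, flmon v dd hd, fl_self, fl_self, fl_self, fl_self, hab, hba, hca, hcb, hcd, hdc,
      hda, hdb, fl_symm a c, hca, fl_symm b c, hcb, fl_symm a dd, hda, fl_symm b dd, hdb]
    obtain ⟨u1, u2, u3, u4⟩ := u
    obtain ⟨v1, v2, v3, v4⟩ := v
    revert u1 u2 u3 u4 v1 v2 v3 v4
    decide
  have monadd : ∀ u v, ∃ e, mon u * mon v = mon (add u v) * pw z e := fun u v =>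
    eq_of_fl h (monQ _) (mul_mem (monQ u) (monQ v)) fun r hr => by
      rw [fl_mul h (monQ u) (monQ v) hr, flmon _ r hr, flmon u r hr, flmon v r hr]
      obtain ⟨u1, u2, u3, u4⟩ := u
      obtain ⟨v1, v2, v3, v4⟩ := v
      simp only [add]
      generalize fl a r = A; generalize fl b r = B'; generalize fl c r = C; generalize fl dd r = D
      revert A B' C D u1 u2 u3 u4 v1 v2 v3 v4
      decide
  obtain ⟨i1, hi1⟩ := exists_sq h ha
  obtain ⟨i2, hi2⟩ := exists_sq h hb
  obtain ⟨i3, hi3⟩ := exists_sq h hc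
  obtain ⟨i4, hi4⟩ := exists_sq h hd
  have monsq : ∀ w, mon w * mon w = pw z (q0 i1 i2 i3 i4 w) := by
    have sqp : ∀ {p : G} {i : Bool} (e : Bool), p * p = pw z i → pw p e * pw p e = pw z (e && i) := by
      intro p i e hp'
      cases e <;> simp [hp']
    intro w
    obtain ⟨w1, w2, w3, w4⟩ := w
    show pw a w1 * pw b w2 * pw c w3 * pw dd w4 * (pw a w1 * pw b w2 * pw c w3 * pw dd w4) = _
    rw [sq_mul h (mabc _ _ _) (pw_mem hd _) (sq_mul h (mab _ _) (pw_mem hc _)
      (sq_mul h (pw_mem ha _) (pw_mem hb _) (sqp w1 hi1) (sqp w2 hi2)) (sqp w3 hi3)) (sqp w4 hi4)]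
    congr 1
    rw [fl_pw, fl_pw_right, hba, fl_pw, fl_mul_right h (pw_mem ha _) (pw_mem hb _) hc, fl_pw_right,
      fl_pw_right, hca, hcb, fl_pw, fl_mul_right h (mab _ _) (pw_mem hc _) hd,
      fl_mul_right h (pw_mem ha _) (pw_mem hb _) hd, fl_pw_right, fl_pw_right, fl_pw_right, hda, hdb, hdc]
    simp only [q0]
    clear hi1 hi2 hi3 hi4
    revert i1 i2 i3 i4 w1 w2 w3 w4
    decide
  let wx : W := (fl x₀ b, fl x₀ a, fl x₀ dd, fl x₀ c)
  let x₁ := x₀ * mon wx
  have hx₁ : x₁ ∈ Q := mul_mem hx₀ (monQ _)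
  have hx₁y : fl x₁ y = true := by
    rw [fl_mul h hx₀ (monQ _) hyQ, hx₀y, fl_eq_false.mpr (mony wx)]; rfl
  have key : ∀ p ∈ Q, fl x₁ p = xor (fl x₀ p) (fl (mon wx) p) := fun p hp =>
    fl_mul h hx₀ (monQ _) hp
  have k1 : fl x₁ a = false := by
    rw [key a ha, flmon _ a ha]; simp [wx, fl_self, hba, hca, hda]
  have k2 : fl x₁ b = false := by
    rw [key b hb, flmon _ b hb]; simp [wx, fl_self, hab, hcb, hdb]
  have k3 : fl x₁ c = false := by
    rw [key c hc, flmon _ c hc]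
    simp [wx, fl_self, fl_symm a c, fl_symm b c, hca, hcb, hdc]
  have k4 : fl x₁ dd = false := by
    rw [key dd hd, flmon _ dd hd]
    simp [wx, fl_self, fl_symm a dd, fl_symm b dd, hda, hdb, hcd]
  have hx₁mon : ∀ w, fl x₁ (mon w) = false := fun w => by
    rw [fl_symm, flmon w _ hx₁, fl_symm a, fl_symm b, fl_symm c, fl_symm dd,
      k1, k2, k3, k4]
    simp
  obtain ⟨i, hi⟩ := exists_sq h hx₁
  let x := x₁ * pw y i
  have hxQ : x ∈ Q := mul_mem hx₁ (pw_mem hyQ _)
  refine ⟨{ minus := (tbl i1 i2 i3 i4).1, m := fun w => mon (sub i1 i2 i3 i4 w), x := x,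
            sing := ⟨hyQ, hy2, hy1, hyz⟩, mem := fun w => monQ _, zero := ?_,
            comm_y := fun w => mony _, hx := hxQ, x_sq := ?_, x_y := ?_, x_m := ?_,
            m_m := fun u v => ?_, m_sq := fun u => ?_, m_add := fun u v => ?_ }⟩
  · simp only [(tbl_spec i1 i2 i3 i4 w0).2.1]; simp [mon, w0]
  · have hyy : pw y i * pw y i = pw z false := by cases i <;> simp [hy2]
    show x₁ * pw y i * (x₁ * pw y i) = 1
    rw [sq_mul h hx₁ (pw_mem hyQ _) hi hyy, fl_pw, fl_symm y, hx₁y]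
    simp
  · rw [fl_mul h hx₁ (pw_mem hyQ _) hyQ, hx₁y, fl_pw, fl_self]; simp
  · intro w
    rw [fl_mul h hx₁ (pw_mem hyQ _) (monQ _), hx₁mon, fl_pw, fl_symm y,
      fl_eq_false.mpr (mony _)]; simp
  · rw [monB, ((tbl_spec i1 i2 i3 i4 u).2.2 v).2]
  · rw [monsq, (tbl_spec i1 i2 i3 i4 u).1]
  · obtain ⟨e, he⟩ := monadd (sub i1 i2 i3 i4 u) (sub i1 i2 i3 i4 v)
    exact ⟨e, by rw [he, ((tbl_spec i1 i2 i3 i4 u).2.2 v).1]⟩

theorem elem_count : ∀ m : Bool, (Finset.univ.filter fun t : Bool × Bool × W × Bool =>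
    (xor (t.1 && t.2.1) (q m t.2.2.1) = false) ∧ (t.1, t.2.1, t.2.2.1) ≠ (false, false, w0)).card =
      cond m 54 70 := by decide +kernel

namespace Frame

variable (F : Frame z y Q)

/-- Coordinates of `Q`. -/
def elem (a b : Bool) (w : W) (e : Bool) : G := pw F.x a * pw y b * F.m w * pw z e

/-- The `W`-coordinate. -/
noncomputable def wof (p : G) : W := (fl p (F.m e2), fl p (F.m e1), fl p (F.m e4), fl p (F.m e3))

variable (h : Hub Q z)
include h

theorem elem_mem (a b : Bool) (w : W) (e : Bool) : F.elem a b w e ∈ Q :=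
  mul_mem (mul_mem (mul_mem (pw_mem F.hx a) (pw_mem F.sing.1 b)) (F.mem w)) (pw_mem h.mem e)

theorem fl_elem (a b : Bool) (w : W) (e : Bool) {r : G} (hr : r ∈ Q) : fl (F.elem a b w e) r =
    xor (xor (a && fl F.x r) (b && fl y r)) (fl (F.m w) r) := by
  have h1 : pw F.x a * pw y b ∈ Q := mul_mem (pw_mem F.hx a) (pw_mem F.sing.1 b)
  rw [elem, fl_mul h (mul_mem h1 (F.mem w)) (pw_mem h.mem e) hr, fl_mul h h1 (F.mem w) hr,
    fl_mul h (pw_mem F.hx a) (pw_mem F.sing.1 b) hr, fl_pw, fl_pw, fl_pw, fl_z h hr]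
  simp

theorem fl_y (a b : Bool) (w : W) (e : Bool) : fl (F.elem a b w e) y = a := by
  rw [F.fl_elem h a b w e F.sing.1, F.x_y, fl_self, fl_eq_false.mpr (F.comm_y w)]
  simp

theorem fl_x (a b : Bool) (w : W) (e : Bool) : fl (F.elem a b w e) F.x = b := by
  rw [F.fl_elem h a b w e F.hx, fl_self, fl_symm y, F.x_y, fl_symm (F.m w), F.x_m]
  simp

theorem fl_m (a b : Bool) (w : W) (e : Bool) (u : W) : fl (F.elem a b w e) (F.m u) = B w u := by
  rw [F.fl_elem h a b w e (F.mem u), F.x_m, fl_symm y, fl_eq_false.mpr (F.comm_y u), F.m_m]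
  simp

theorem fl_elem_elem (a b : Bool) (w : W) (e a' b' : Bool) (w' : W) (e' : Bool) :
    fl (F.elem a b w e) (F.elem a' b' w' e') = xor (xor (a' && b) (b' && a)) (B w' w) := by
  rw [fl_symm, F.fl_elem h a' b' w' e' (F.elem_mem h a b w e), fl_symm F.x, F.fl_x h, fl_symm y,
    F.fl_y h, fl_symm (F.m w'), F.fl_m h, B_symm]

theorem wof_elem (a b : Bool) (w : W) (e : Bool) : F.wof (F.elem a b w e) = w := by
  simp only [wof, F.fl_m h]
  revert w
  decide

omit h in
theorem wof_coord : ∀ u v : W, add u v = (xor u.1 v.1, xor u.2.1 v.2.1, xor u.2.2.1 v.2.2.1,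
    xor u.2.2.2 v.2.2.2) := by decide

theorem wof_mul {p p' : G} (hp : p ∈ Q) (hp' : p' ∈ Q) :
    F.wof (p * p') = add (F.wof p) (F.wof p') := by
  rw [wof_coord]
  simp only [wof, fl_mul h hp hp' (F.mem _)]

theorem wof_z (e : Bool) : F.wof (pw z e) = w0 := by
  simp only [wof, fl_pw, fl_z h (F.mem _), Bool.and_false]
  rfl

theorem wof_m (w : W) : F.wof (F.m w) = w := by
  have e : F.m w = F.elem false false w false := by simp [elem]
  rw [e, F.wof_elem h]

theorem wof_y (b : Bool) : F.wof (pw y b) = w0 := by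
  simp only [wof, fl_pw, fl_symm y, fl_eq_false.mpr (F.comm_y _), Bool.and_false]
  rfl

theorem elem_inj {a b : Bool} {w : W} {e a' b' : Bool} {w' : W} {e' : Bool}
    (he : F.elem a b w e = F.elem a' b' w' e') : a = a' ∧ b = b' ∧ w = w' ∧ e = e' := by
  have ha := F.fl_y h a b w e
  have hb := F.fl_x h a b w e
  have hw := F.wof_elem h a b w e
  rw [he, F.fl_y h] at ha
  rw [he, F.fl_x h] at hb
  rw [he, F.wof_elem h] at hw
  subst ha hb hw
  exact ⟨rfl, rfl, rfl, pw_inj h.ne_one (mul_left_cancel he)⟩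

omit h in
theorem exists_elem (d : Data z Q) {p : G} (hp : p ∈ Q) :
    ∃ e, p = F.elem (fl p y) (fl p F.x) (F.wof p) e := by
  have h := d.hub
  let f : Bool × Bool × W × Bool → Q := fun t => ⟨F.elem t.1 t.2.1 t.2.2.1 t.2.2.2, F.elem_mem h _ _ _ _⟩
  have hf : Function.Injective f := fun s t e => by
    obtain ⟨h1, h2, h3, h4⟩ := F.elem_inj h (congrArg Subtype.val e)
    exact Prod.ext h1 (Prod.ext h2 (Prod.ext h3 h4))
  have : Finite Q := Nat.finite_of_card_ne_zero (by rw [d.cardQ]; norm_num)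
  have hb := (Nat.bijective_iff_injective_and_card f).mpr ⟨hf, by rw [d.cardQ]; simp⟩
  obtain ⟨⟨a, b, w, e⟩, he⟩ := hb.2 ⟨p, hp⟩
  have he' : F.elem a b w e = p := congrArg Subtype.val he
  exact ⟨e, by rw [← he', F.fl_y h, F.fl_x h, F.wof_elem h]⟩

theorem elem_sq (a b : Bool) (w : W) (e : Bool) :
    F.elem a b w e * F.elem a b w e = pw z (xor (a && b) (q F.minus w)) := by
  have hx : pw F.x a * pw F.x a = pw z false := by cases a <;> simp [F.x_sq]
  have hy : pw y b * pw y b = pw z false := by cases b <;> simp [F.sing.2.1]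
  have hzz : pw z e * pw z e = pw z false := by cases e <;> simp [h.sq]
  have h1 : pw F.x a * pw y b ∈ Q := mul_mem (pw_mem F.hx a) (pw_mem F.sing.1 b)
  rw [elem, sq_mul h (mul_mem h1 (F.mem w)) (pw_mem h.mem e)
    (sq_mul h h1 (F.mem w) (sq_mul h (pw_mem F.hx a) (pw_mem F.sing.1 b) hx hy) (F.m_sq w)) hzz,
    fl_pw (x := z), fl_z h (mul_mem h1 (F.mem w)), fl_mul_right h (pw_mem F.hx a) (pw_mem F.sing.1 b) (F.mem w)]
  have q1 : fl (F.m w) F.x = false := by rw [fl_symm, F.x_m]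
  have q2 : fl (F.m w) y = false := fl_eq_false.mpr (F.comm_y w)
  have q3 : fl y F.x = true := by rw [fl_symm, F.x_y]
  simp only [fl_pw, fl_pw_right, q1, q2, q3]
  congr 1
  cases a <;> cases b <;> simp

omit h in
theorem card_sing (d : Data z Q) :
    Nat.card {p // Sing z Q p} = cond F.minus 54 70 := by
  have h := d.hub
  classical
  rw [← elem_count F.minus, ← Nat.card_eq_finsetCard]
  refine (Nat.card_congr (Equiv.ofBijective (fun t => (⟨F.elem t.1.1 t.1.2.1 t.1.2.2.1 t.1.2.2.2, ?_⟩ :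
    {p // Sing z Q p})) ⟨?_, ?_⟩)).symm
  · obtain ⟨⟨a, b, w, e⟩, ht⟩ := t
    simp only [Finset.mem_filter, Finset.mem_univ, true_and] at ht
    refine ⟨F.elem_mem h _ _ _ _, by rw [F.elem_sq h, ht.1]; rfl, fun e' => ht.2 ?_, fun e' => ht.2 ?_⟩
    · obtain ⟨r1, r2, r3, -⟩ := F.elem_inj h (e'.trans (show (1 : G) = F.elem false false w0 false by
        simp [elem, F.zero]))
      exact Prod.ext r1 (Prod.ext r2 r3)
    · obtain ⟨r1, r2, r3, -⟩ := F.elem_inj h (e'.trans (show z = F.elem false false w0 true by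
        simp [elem, F.zero]))
      exact Prod.ext r1 (Prod.ext r2 r3)
  · rintro ⟨s, _⟩ ⟨t, _⟩ e
    obtain ⟨h1, h2, h3, h4⟩ := F.elem_inj h (congrArg Subtype.val e)
    exact Subtype.ext (Prod.ext h1 (Prod.ext h2 (Prod.ext h3 h4)))
  · rintro ⟨p, hp, hp2, hp1, hpz⟩
    obtain ⟨e, he⟩ := F.exists_elem d hp
    refine ⟨⟨(_, _, _, e), ?_⟩, Subtype.ext he.symm⟩
    simp only [Finset.mem_filter, Finset.mem_univ, true_and]
    refine ⟨?_, fun e' => ?_⟩
    · rw [he, F.elem_sq h, ← pw_false z] at hp2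
      exact pw_inj h.ne_one hp2
    · obtain ⟨q1, q23⟩ := Prod.ext_iff.mp e'
      obtain ⟨q2, q3⟩ := Prod.ext_iff.mp q23
      change fl p y = false at q1
      change fl p F.x = false at q2
      change F.wof p = w0 at q3
      rw [q1, q2, q3] at he
      cases e
      exacts [hp1 (by simpa [elem, F.zero] using he), hpz (by simpa [elem, F.zero] using he)]

end Frame

end Cfsg.Agent.SuzType
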