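import Cfsg.Agent.Lib.SuzType.ZCount
import Cfsg.Agent.S0213

/-!
# The order
-/

set_option autoImplicit false

namespace Cfsg.Agent.SuzType

open Subgroup

universe v

variable {G : Type v} [Group G] [Finite G] {z y : G} {Q : Subgroup G}

/-- The order of a group of Suzuki type. -/
theorem Radical.card_G {F : Frame z y Q} (R : Radical F) (d : Data z Q) :
    Nat.card G = 448345497600 := by
  obtain ⟨X⟩ := R.exists_Four d
  obtain ⟨hu2, hu1, -, -, -⟩ := R.u_facts d
  rw [S0213.result z (R.el e4 e3 false false) (orderOf_inv_iff.mpr ⟨d.hub.sq, d.hub.ne_one⟩)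
    (orderOf_inv_iff.mpr ⟨hu2, hu1⟩) (R.not_isConj d)
    (fun t ht => R.all_classes d (orderOf_inv_iff.mp ht).1 (orderOf_inv_iff.mp ht).2),
    R.card_n1 d, X.card_n2, X.card_Cu, d.cardC]

/-- The order. -/
theorem Data.card_G (d : Data z Q) : Nat.card G = 448345497600 := by
  obtain ⟨g, hgQ, hgz⟩ := d.out
  obtain ⟨F⟩ := exists_frame d (⟨hgQ, conj_sq d.hub.sq, fun e => d.hub.ne_one (by simpa using e), hgz⟩ :
    Sing z Q (g * z * g⁻¹))
  obtain ⟨R⟩ := exists_radical F d rfl
  exact R.card_G d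

end Cfsg.Agent.SuzType
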