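import Cfsg.Agent.Lib.SuzType.Code
import Cfsg.Agent.Lib.SuzType.Classes

/-!
# Coordinates of `Q` and substitutions of conjugations
-/

set_option autoImplicit false
set_option maxHeartbeats 400000
set_option synthInstance.maxSize 2048

namespace Cfsg.Agent.SuzType

open Subgroup
open Cfsg.Agent.LargeExtraspecial (Hub)

variable {G : Type*} [Group G] {z y : G} {Q : Subgroup G}

theorem bit_cond (c : Bool) : (cond c 64 0).testBit 0 = false ∧ (cond c 64 0).testBit 1 = false ∧
    (cond c 64 0).testBit 2 = false ∧ (cond c 64 0).testBit 3 = false ∧ (cond c 64 0).testBit 4 = false ∧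
    (cond c 64 0).testBit 5 = false ∧ (cond c 64 0).testBit 6 = c := by
  cases c <;> decide

theorem code_ext : ∀ p < 128, p = cond (p.testBit 0) 1 0 + cond (p.testBit 1) 2 0 + cond (p.testBit 2) 4 0 +
    cond (p.testBit 3) 8 0 + cond (p.testBit 4) 16 0 + cond (p.testBit 5) 32 0 + cond (p.testBit 6) 64 0 := by
  decide +kernel

theorem cbdd_iff {A : Cd} : cbdd A = true ↔ A.1 < 128 ∧ A.2.1 < 128 ∧ A.2.2.1 < 128 ∧ A.2.2.2.1 < 128 ∧
    A.2.2.2.2.1 < 128 ∧ A.2.2.2.2.2 < 128 := by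
  obtain ⟨a0, a1, a2, a3, a4, a5⟩ := A
  simp [cbdd, and_assoc]

theorem cmul_lt {p q : ℕ} (hp : p < 128) (hq : q < 128) : cmul p q < 128 :=
  Nat.xor_lt_two_pow (n := 7) (Nat.xor_lt_two_pow (n := 7) hp hq) (by cases cbeta p q <;> decide)

theorem csel_lt {p : ℕ} (e : Bool) (hp : p < 128) : csel e p < 128 := by
  cases e
  exacts [by show 0 < 128; decide, hp]

theorem capp_lt {A : Cd} (h : cbdd A = true) (p : ℕ) : capp A p < 128 := by
  obtain ⟨h0, h1, h2, h3, h4, h5⟩ := cbdd_iff.mp h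
  obtain ⟨a0, a1, a2, a3, a4, a5⟩ := A
  exact cmul_lt (cmul_lt (cmul_lt (csel_lt _ h0) (csel_lt _ h1)) (cmul_lt (cmul_lt (csel_lt _ h2)
    (csel_lt _ h3)) (cmul_lt (csel_lt _ h4) (csel_lt _ h5)))) (csel_lt _ (by decide))

theorem cM_lt {A : Cd} (h : cbdd A = true) (w : W) : cM A w < 128 := by
  obtain ⟨h0, h1, h2, h3, h4, h5⟩ := cbdd_iff.mp h
  obtain ⟨a0, a1, a2, a3, a4, a5⟩ := A
  obtain ⟨b0, b1, b2, b3⟩ := w
  exact cmul_lt (cmul_lt (csel_lt _ h2) (csel_lt _ h3)) (cmul_lt (csel_lt _ h4) (csel_lt _ h5))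

theorem cimgs_bdd {A : Cd} (h : cbdd A = true) (v w : W) (a : Bool) : cbdd (cimgs A v w a) = true := by
  have hM := cM_lt h v
  obtain ⟨h0, h1, h2, h3, h4, h5⟩ := cbdd_iff.mp h
  obtain ⟨a0, a1, a2, a3, a4, a5⟩ := A
  have hE : ∀ {e : ℕ} (u : W), e < 128 → cimgE a1 e u v w < 128 := fun u he =>
    cmul_lt (cmul_lt he (csel_lt _ h1)) (csel_lt _ (by decide))
  exact cbdd_iff.mpr ⟨cmul_lt (cmul_lt (cmul_lt h0 (csel_lt _ h1)) hM) (csel_lt _ (by decide)), h1,
    hE _ h2, hE _ h3, hE _ h4, hE _ h5⟩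

theorem cact_bdd {i : ℕ} (hi : i < 54) (v w : W) (a : Bool) : cbdd (cact i v w a) = true :=
  cbdd_iff.mpr (by
    have h := capp_lt (cimgs_bdd (frame_check i hi).1 v w a)
    exact ⟨h _, h _, h _, h _, h _, h _⟩)

namespace Frame

variable (F : Frame z y Q)

/-- A pair block. -/
def blk (g h : G) (a b : Bool) : G := pw g a * pw h b

/-- The element with a given code. -/
def evc (p : ℕ) : G := blk F.x y (p.testBit 0) (p.testBit 1) * blk (F.m e1) (F.m e2) (p.testBit 2) (p.testBit 3) *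
  blk (F.m e3) (F.m e4) (p.testBit 4) (p.testBit 5) * pw z (p.testBit 6)

variable (d : Data z Q)
include d

theorem evc_mem (p : ℕ) : F.evc p ∈ Q :=
  mul_mem (mul_mem (mul_mem (mul_mem (pw_mem F.hx _) (pw_mem F.sing.1 _))
    (mul_mem (pw_mem (F.mem _) _) (pw_mem (F.mem _) _)))
    (mul_mem (pw_mem (F.mem _) _) (pw_mem (F.mem _) _))) (pw_mem d.hub.mem _)

omit F in
theorem blk_mul {g h : G} (hg : g ∈ Q) (hh : h ∈ Q) {s t : Bool} (hs : g * g = pw z s)
    (ht : h * h = pw z t) (hfl : fl h g = true) (a b a' b' : Bool) :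
    blk g h a b * blk g h a' b' = blk g h (xor a a') (xor b b') *
      pw z (xor (xor (s && (a && a')) (t && (b && b'))) (b && a')) := by
  have sqe : ∀ {g : G} {s : Bool}, g ∈ Q → g * g = pw z s → ∀ a a' : Bool,
      pw g a * pw g a' = pw g (xor a a') * pw z (s && (a && a')) := by
    intro g s _ hs a a'
    cases a <;> cases a' <;> simp [hs]
  have hc : ∀ (e : Bool) (r : G), r ∈ Q → Commute (pw z e) r := fun e r hr =>
    (pw_commute (d.hub.central r hr) e).symm
  have hmid : pw h b * pw g a' = pw g a' * pw h b * pw z (b && a') := by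
    have h1 := fl_spec d.hub (pw_mem hh b) (pw_mem hg a')
    rw [fl_pw, fl_pw_right, hfl, Bool.and_true] at h1
    rw [mul_inv_eq_iff_eq_mul.mp h1, mul_assoc, (hc _ _ (pw_mem hh b)).eq, mul_assoc]
  calc blk g h a b * blk g h a' b' = pw g a * (pw h b * pw g a') * pw h b' := by simp only [blk]; group
    _ = pw g a * pw g a' * (pw h b * (pw z (b && a') * pw h b')) := by rw [hmid]; group
    _ = pw g a * pw g a' * (pw h b * pw h b') * pw z (b && a') := by
        rw [(hc _ _ (pw_mem hh b')).eq]; group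
    _ = pw g (xor a a') * (pw z (s && (a && a')) * pw h (xor b b')) *
          (pw z (t && (b && b')) * pw z (b && a')) := by
        rw [sqe hg hs, sqe hh ht]; group
    _ = pw g (xor a a') * pw h (xor b b') *
          (pw z (s && (a && a')) * (pw z (t && (b && b')) * pw z (b && a'))) := by
        rw [(hc _ _ (pw_mem hh _)).eq]; group
    _ = _ := by rw [pw_mul d.hub.sq, pw_mul d.hub.sq, Bool.xor_assoc]; rfl

variable [Finite G]

theorem sq_facts : F.x * F.x = pw z false ∧ y * y = pw z false ∧ F.m e1 * F.m e1 = pw z false ∧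
    F.m e2 * F.m e2 = pw z false ∧ F.m e3 * F.m e3 = pw z true ∧ F.m e4 * F.m e4 = pw z true := by
  have hmin := F.minus_true d
  exact ⟨F.x_sq, F.sing.2.1, by rw [F.m_sq, hmin]; rfl, by rw [F.m_sq, hmin]; rfl,
    by rw [F.m_sq, hmin]; rfl, by rw [F.m_sq, hmin]; rfl⟩

theorem evc_xor_z (p : ℕ) (c : Bool) : F.evc (p ^^^ cond c 64 0) = F.evc p * pw z c := by
  obtain ⟨h0, h1, h2, h3, h4, h5, h6⟩ := bit_cond c
  simp only [evc, Nat.testBit_xor, h0, h1, h2, h3, h4, h5, h6, Bool.xor_false]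
  rw [← pw_mul d.hub.sq]
  group

theorem evc_mul (p q : ℕ) : F.evc (cmul p q) = F.evc p * F.evc q := by
  obtain ⟨s0, s1, s2, s3, s4, s5⟩ := F.sq_facts d
  have hc : ∀ (e : Bool) {r : G}, r ∈ Q → Commute (pw z e) r := fun e r hr =>
    (pw_commute (d.hub.central r hr) e).symm
  have f12 : fl (F.m e2) (F.m e1) = true := by rw [F.m_m]; rfl
  have f34 : fl (F.m e4) (F.m e3) = true := by rw [F.m_m]; rfl
  have f01 : fl y F.x = true := by rw [fl_symm]; exact F.x_y
  have cxm : ∀ w, Commute F.x (F.m w) := fun w => fl_eq_false.mp (F.x_m w)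
  have cmm : ∀ u v, B u v = false → Commute (F.m u) (F.m v) := fun u v h => fl_eq_false.mp (by rw [F.m_m, h])
  have cb : ∀ {g h g' h' : G}, Commute g g' → Commute g h' → Commute h g' → Commute h h' →
      ∀ a b a' b', Commute (blk g h a b) (blk g' h' a' b') := by
    intro g h g' h' k1 k2 k3 k4 a b a' b'
    have : ∀ {g g' : G}, Commute g g' → ∀ a a', Commute (pw g a) (pw g' a') := fun k a a' =>
      (pw_commute (pw_commute k a').symm a).symm
    exact ((this k1 _ _).mul_right (this k2 _ _)).mul_left ((this k3 _ _).mul_right (this k4 _ _))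
  set A := blk F.x y (p.testBit 0) (p.testBit 1)
  set A' := blk F.x y (q.testBit 0) (q.testBit 1)
  set C := blk (F.m e1) (F.m e2) (p.testBit 2) (p.testBit 3)
  set C' := blk (F.m e1) (F.m e2) (q.testBit 2) (q.testBit 3)
  set D := blk (F.m e3) (F.m e4) (p.testBit 4) (p.testBit 5)
  set D' := blk (F.m e3) (F.m e4) (q.testBit 4) (q.testBit 5)
  set Z := pw z (p.testBit 6)
  set Z' := pw z (q.testBit 6)
  have hA' : A' ∈ Q := mul_mem (pw_mem F.hx _) (pw_mem F.sing.1 _)
  have hC' : C' ∈ Q := mul_mem (pw_mem (F.mem _) _) (pw_mem (F.mem _) _)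
  have hD' : D' ∈ Q := mul_mem (pw_mem (F.mem _) _) (pw_mem (F.mem _) _)
  have k1 : Commute C A' := cb (cxm e1).symm (F.comm_y e1) (cxm e2).symm (F.comm_y e2) _ _ _ _
  have k2 : Commute D A' := cb (cxm e3).symm (F.comm_y e3) (cxm e4).symm (F.comm_y e4) _ _ _ _
  have k3 : Commute D C' := cb (cmm _ _ (by decide)) (cmm _ _ (by decide)) (cmm _ _ (by decide))
    (cmm _ _ (by decide)) _ _ _ _
  have key : F.evc p * F.evc q = A * A' * (C * C') * (D * D') * (Z * Z') := by
    show A * C * D * Z * (A' * C' * D' * Z') = _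
    calc A * C * D * Z * (A' * C' * D' * Z') = A * C * D * (Z * (A' * C' * D')) * Z' := by group
      _ = A * C * (D * A') * C' * D' * (Z * Z') := by
          rw [(hc _ (mul_mem (mul_mem hA' hC') hD')).eq]; simp only [Z]; group
      _ = A * (C * A') * (D * C') * D' * (Z * Z') := by rw [k2.eq]; group
      _ = _ := by rw [k1.eq, k3.eq]; group
  obtain ⟨h0, h1, h2, h3, h4, h5, h6⟩ := bit_cond (cbeta p q)
  rw [key, blk_mul d F.hx F.sing.1 s0 s1 f01, blk_mul d (F.mem _) (F.mem _) s2 s3 f12,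
    blk_mul d (F.mem _) (F.mem _) s4 s5 f34, pw_mul d.hub.sq]
  simp only [cmul, evc, Nat.testBit_xor, h0, h1, h2, h3, h4, h5, h6, Bool.xor_false]
  set a := blk F.x y (xor (p.testBit 0) (q.testBit 0)) (xor (p.testBit 1) (q.testBit 1))
  set c := blk (F.m e1) (F.m e2) (xor (p.testBit 2) (q.testBit 2)) (xor (p.testBit 3) (q.testBit 3))
  set e := blk (F.m e3) (F.m e4) (xor (p.testBit 4) (q.testBit 4)) (xor (p.testBit 5) (q.testBit 5))
  have hc' : c ∈ Q := mul_mem (pw_mem (F.mem _) _) (pw_mem (F.mem _) _)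
  have he' : e ∈ Q := mul_mem (pw_mem (F.mem _) _) (pw_mem (F.mem _) _)
  have mv : ∀ j k l n : Bool, a * pw z j * (c * pw z k) * (e * pw z l) * pw z n =
      a * c * e * pw z (xor (xor (xor j k) l) n) := fun j k l n => by
    calc a * pw z j * (c * pw z k) * (e * pw z l) * pw z n
        = a * (pw z j * c) * (pw z k * e) * (pw z l * pw z n) := by group
      _ = a * c * ((pw z j * e) * pw z k) * (pw z l * pw z n) := by
          rw [(hc j hc').eq, (hc k he').eq]; group
      _ = a * c * e * (pw z j * pw z k * pw z l * pw z n) := by rw [(hc j he').eq]; group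
      _ = _ := by rw [pw_mul d.hub.sq, pw_mul d.hub.sq, pw_mul d.hub.sq]
  rw [mv]
  congr 2
  simp only [cbeta, Bool.false_and, Bool.true_and, Bool.false_xor]
  generalize p.testBit 6 = u0, q.testBit 6 = v0, (p.testBit 4 && q.testBit 4) = u1,
    (p.testBit 5 && q.testBit 5) = u2, (p.testBit 1 && q.testBit 0) = u3,
    (p.testBit 3 && q.testBit 2) = u4, (p.testBit 5 && q.testBit 4) = u5
  revert u0 v0 u1 u2 u3 u4 u5
  decide

theorem evc_zero : F.evc 0 = 1 := by simp [evc, blk]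

theorem evc_z : F.evc 64 = z := by simp [evc, blk, show Nat.testBit 64 6 = true by decide,
  show ∀ i < 6, Nat.testBit 64 i = false by decide]

theorem evc_csel (p : ℕ) (e : Bool) : F.evc (csel e p) = pw (F.evc p) e := by
  cases e
  exacts [F.evc_zero d, rfl]

theorem evc_csel_z (e : Bool) : F.evc (csel e 64) = pw z e := by rw [F.evc_csel d, F.evc_z d]

theorem evc_gen : F.evc 1 = F.x ∧ F.evc 2 = y ∧ F.evc 4 = F.m e1 ∧ F.evc 8 = F.m e2 ∧
    F.evc 16 = F.m e3 ∧ F.evc 32 = F.m e4 := by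
  have h : ∀ j < 7, ∀ i < 7, Nat.testBit (2 ^ j) i = decide (i = j) := by decide
  refine ⟨?_, ?_, ?_, ?_, ?_, ?_⟩
  · simp [evc, blk, h 0 (by decide) _ _, show Nat.testBit 1 0 = true by decide,
      show ∀ i < 7, i ≠ 0 → Nat.testBit 1 i = false by decide]
  · simp [evc, blk, show Nat.testBit 2 1 = true by decide,
      show ∀ i < 7, i ≠ 1 → Nat.testBit 2 i = false by decide]
  · simp [evc, blk, show Nat.testBit 4 2 = true by decide,
      show ∀ i < 7, i ≠ 2 → Nat.testBit 4 i = false by decide]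
  · simp [evc, blk, show Nat.testBit 8 3 = true by decide,
      show ∀ i < 7, i ≠ 3 → Nat.testBit 8 i = false by decide]
  · simp [evc, blk, show Nat.testBit 16 4 = true by decide,
      show ∀ i < 7, i ≠ 4 → Nat.testBit 16 i = false by decide]
  · simp [evc, blk, show Nat.testBit 32 5 = true by decide,
      show ∀ i < 7, i ≠ 5 → Nat.testBit 32 i = false by decide]

omit [Finite G] in
theorem evc_eq_elem (p : ℕ) : ∃ e, F.evc p = F.elem (p.testBit 0) (p.testBit 1)
    (p.testBit 2, p.testBit 3, p.testBit 4, p.testBit 5) e := by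
  have hp := F.evc_mem d p
  obtain ⟨e, he⟩ := F.exists_elem d hp
  have mA : blk F.x y (p.testBit 0) (p.testBit 1) ∈ Q := mul_mem (pw_mem F.hx _) (pw_mem F.sing.1 _)
  have mC : blk (F.m e1) (F.m e2) (p.testBit 2) (p.testBit 3) ∈ Q :=
    mul_mem (pw_mem (F.mem _) _) (pw_mem (F.mem _) _)
  have mD : blk (F.m e3) (F.m e4) (p.testBit 4) (p.testBit 5) ∈ Q :=
    mul_mem (pw_mem (F.mem _) _) (pw_mem (F.mem _) _)
  have hbl : ∀ {r : G}, r ∈ Q → fl (F.evc p) r =
      xor (xor (xor (p.testBit 0 && fl F.x r) (p.testBit 1 && fl y r))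
        (xor (p.testBit 2 && fl (F.m e1) r) (p.testBit 3 && fl (F.m e2) r)))
        (xor (p.testBit 4 && fl (F.m e3) r) (p.testBit 5 && fl (F.m e4) r)) := fun {r} hr => by
    rw [evc, fl_mul d.hub (mul_mem (mul_mem mA mC) mD) (pw_mem d.hub.mem _) hr,
      fl_mul d.hub (mul_mem mA mC) mD hr, fl_mul d.hub mA mC hr, blk, blk, blk,
      fl_mul d.hub (pw_mem F.hx _) (pw_mem F.sing.1 _) hr,
      fl_mul d.hub (pw_mem (F.mem _) _) (pw_mem (F.mem _) _) hr,
      fl_mul d.hub (pw_mem (F.mem _) _) (pw_mem (F.mem _) _) hr]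
    simp only [fl_pw, fl_z d.hub hr, Bool.and_false, Bool.xor_false]
  refine ⟨e, ?_⟩
  have mx : ∀ w, fl (F.m w) F.x = false := fun w => by rw [fl_symm, F.x_m]
  have my : ∀ w, fl (F.m w) y = false := fun w => fl_eq_false.mpr (F.comm_y w)
  have ym : ∀ w, fl y (F.m w) = false := fun w => by rw [fl_symm, my]
  have yx : fl y F.x = true := by rw [fl_symm, F.x_y]
  rw [hbl F.sing.1, hbl F.hx, Frame.wof, hbl (F.mem e2), hbl (F.mem e1), hbl (F.mem e4), hbl (F.mem e3)] at he
  simpa [F.x_y, F.x_m, fl_self, mx, my, ym, yx, F.m_m, show B e1 e1 = false by decide,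
    show B e1 e2 = true by decide, show B e1 e3 = false by decide, show B e1 e4 = false by decide,
    show B e2 e1 = true by decide, show B e2 e2 = false by decide, show B e2 e3 = false by decide,
    show B e2 e4 = false by decide, show B e3 e1 = false by decide, show B e3 e2 = false by decide,
    show B e3 e3 = false by decide, show B e3 e4 = true by decide, show B e4 e1 = false by decide,
    show B e4 e2 = false by decide, show B e4 e3 = true by decide, show B e4 e4 = false by decide] using he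

theorem evc_inj {p q : ℕ} (hp : p < 128) (hq : q < 128) (h : F.evc p = F.evc q) : p = q := by
  obtain ⟨e, he⟩ := F.evc_eq_elem d p
  obtain ⟨e', he'⟩ := F.evc_eq_elem d q
  obtain ⟨h0, h1, h25, -⟩ := F.elem_inj d.hub (he.symm.trans (h.trans he'))
  simp only [Prod.mk.injEq] at h25
  have h6 : p.testBit 6 = q.testBit 6 := by
    have := h
    simp only [evc, h0, h1, h25] at this
    exact pw_inj d.hub.ne_one (mul_left_cancel this)
  rw [code_ext p hp, code_ext q hq, h0, h1, h25.1, h25.2.1, h25.2.2.1, h25.2.2.2, h6]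

theorem evc_surj {r : G} (hr : r ∈ Q) : ∃ p < 128, F.evc p = r := by
  have : Finite Q := inferInstance
  have hb := (Nat.bijective_iff_injective_and_card
    (fun p : Fin 128 => (⟨F.evc p, F.evc_mem d p⟩ : Q))).mpr
    ⟨fun p q e => Fin.ext (F.evc_inj d p.2 q.2 (congrArg Subtype.val e)), by rw [d.cardQ]; simp⟩
  obtain ⟨p, hp⟩ := hb.2 ⟨r, hr⟩
  exact ⟨p, p.2, congrArg Subtype.val hp⟩

theorem fl_evc (p q : ℕ) : fl (F.evc p) (F.evc q) = cfl p q := by
  refine fl_eq d.hub (F.evc_mem d p) (F.evc_mem d q) (mul_inv_eq_iff_eq_mul.mpr ?_)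
  have hc : Commute (pw z (cfl p q)) (F.evc p) := (pw_commute (d.hub.central _ (F.evc_mem d p)) _).symm
  rw [mul_assoc, hc.eq, ← mul_assoc, ← F.evc_mul d, ← F.evc_mul d]
  simp only [cmul, F.evc_xor_z d, cfl, mul_assoc, pw_mul d.hub.sq]
  rw [Nat.xor_comm p q]
  congr 2
  cases cbeta p q <;> cases cbeta q p <;> rfl

/-- Conjugation by `c` acts by the substitution `A`. -/
def Acts (c : G) (A : Cd) : Prop :=
  c * F.evc 1 * c⁻¹ = F.evc A.1 ∧ c * F.evc 2 * c⁻¹ = F.evc A.2.1 ∧
    c * F.evc 4 * c⁻¹ = F.evc A.2.2.1 ∧ c * F.evc 8 * c⁻¹ = F.evc A.2.2.2.1 ∧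
    c * F.evc 16 * c⁻¹ = F.evc A.2.2.2.2.1 ∧ c * F.evc 32 * c⁻¹ = F.evc A.2.2.2.2.2

theorem evc_capp (A : Cd) (p : ℕ) : F.evc (capp A p) =
    pw (F.evc A.1) (p.testBit 0) * pw (F.evc A.2.1) (p.testBit 1) *
      (pw (F.evc A.2.2.1) (p.testBit 2) * pw (F.evc A.2.2.2.1) (p.testBit 3) *
        (pw (F.evc A.2.2.2.2.1) (p.testBit 4) * pw (F.evc A.2.2.2.2.2) (p.testBit 5))) *
      pw z (p.testBit 6) := by
  obtain ⟨a0, a1, a2, a3, a4, a5⟩ := A
  simp only [capp, F.evc_mul d, F.evc_csel d, F.evc_z d]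

/-- Conjugation of a substituted code. -/
theorem conj_capp {c : G} (hc : Commute c z) {A I : Cd}
    (h0 : c * F.evc A.1 * c⁻¹ = F.evc I.1) (h1 : c * F.evc A.2.1 * c⁻¹ = F.evc I.2.1)
    (h2 : c * F.evc A.2.2.1 * c⁻¹ = F.evc I.2.2.1) (h3 : c * F.evc A.2.2.2.1 * c⁻¹ = F.evc I.2.2.2.1)
    (h4 : c * F.evc A.2.2.2.2.1 * c⁻¹ = F.evc I.2.2.2.2.1)
    (h5 : c * F.evc A.2.2.2.2.2 * c⁻¹ = F.evc I.2.2.2.2.2) (p : ℕ) :
    c * F.evc (capp A p) * c⁻¹ = F.evc (capp I p) := by
  rw [F.evc_capp d, F.evc_capp d, ← pw_conj h0, ← pw_conj h1, ← pw_conj h2, ← pw_conj h3, ← pw_conj h4,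
    ← pw_conj h5]
  conv_rhs => rw [← pw_conj (conj_of_commute hc) (p.testBit 6)]
  group

theorem evc_capp_id (p : ℕ) : F.evc (capp cid p) = F.evc p := by
  obtain ⟨g0, g1, g2, g3, g4, g5⟩ := F.evc_gen d
  rw [F.evc_capp d]
  simp only [cid]
  rw [g0, g1, g2, g3, g4, g5]
  simp only [evc, blk]
  group

theorem Acts.apply {c : G} {A : Cd} (h : F.Acts c A) (hc : Commute c z) (p : ℕ) :
    c * F.evc p * c⁻¹ = F.evc (capp A p) := by
  rw [← F.evc_capp_id d p]
  exact F.conj_capp d hc (A := cid) (I := A) h.1 h.2.1 h.2.2.1 h.2.2.2.1 h.2.2.2.2.1 h.2.2.2.2.2 p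

theorem Acts.comp {c c' : G} {A C : Cd} (h : F.Acts c A) (h' : F.Acts c' C) (hc : Commute c z) :
    F.Acts (c * c') (ccomp A C) := by
  have step : ∀ j a, c' * F.evc j * c'⁻¹ = F.evc a → c * c' * F.evc j * (c * c')⁻¹ = F.evc (capp A a) :=
    fun j a e => by
      rw [← Acts.apply F d h hc a, ← e]; group
  obtain ⟨a0, a1, a2, a3, a4, a5⟩ := C
  exact ⟨step _ _ h'.1, step _ _ h'.2.1, step _ _ h'.2.2.1, step _ _ h'.2.2.2.1, step _ _ h'.2.2.2.2.1,
    step _ _ h'.2.2.2.2.2⟩

omit [Finite G] in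
theorem acts_one : F.Acts (1 : G) cid := by
  simp [Acts, cid]

theorem Acts.pow {c : G} {A : Cd} (h : F.Acts c A) (hc : Commute c z) :
    ∀ n : ℕ, F.Acts (c ^ n) (cpow A n)
  | 0 => by rw [pow_zero]; exact F.acts_one d
  | n + 1 => by rw [pow_succ]; exact Acts.comp F d (Acts.pow h hc n) h (hc.pow_left n)

theorem acts_z : F.Acts z cid := by
  have h : ∀ j, z * F.evc j * z⁻¹ = F.evc j := fun j =>
    conj_of_commute (d.hub.central _ (F.evc_mem d j)).symm
  exact ⟨h _, h _, h _, h _, h _, h _⟩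

theorem Acts.code_eq {c : G} {A A' : Cd} (h : F.Acts c A) (h' : F.Acts c A') (hA : cbdd A = true)
    (hA' : cbdd A' = true) : A = A' := by
  obtain ⟨a0, a1, a2, a3, a4, a5⟩ := cbdd_iff.mp hA
  obtain ⟨b0, b1, b2, b3, b4, b5⟩ := cbdd_iff.mp hA'
  exact Prod.ext (F.evc_inj d a0 b0 (h.1.symm.trans h'.1))
    (Prod.ext (F.evc_inj d a1 b1 (h.2.1.symm.trans h'.2.1))
      (Prod.ext (F.evc_inj d a2 b2 (h.2.2.1.symm.trans h'.2.2.1))
        (Prod.ext (F.evc_inj d a3 b3 (h.2.2.2.1.symm.trans h'.2.2.2.1))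
          (Prod.ext (F.evc_inj d a4 b4 (h.2.2.2.2.1.symm.trans h'.2.2.2.2.1))
            (F.evc_inj d a5 b5 (h.2.2.2.2.2.symm.trans h'.2.2.2.2.2))))))

/-- Elements with the same substitution differ by `z`. -/
theorem Acts.unique {c c' : G} {A : Cd} (h : F.Acts c A) (h' : F.Acts c' A) (hc : Commute c z)
    (hc' : Commute c' z) : c = c' ∨ c = c' * z := by
  have hall : ∀ r ∈ Q, Commute (c'⁻¹ * c) r := fun r hr => by
    obtain ⟨p, -, rfl⟩ := F.evc_surj d hr
    show c'⁻¹ * c * F.evc p = F.evc p * (c'⁻¹ * c)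
    calc c'⁻¹ * c * F.evc p = c'⁻¹ * (c * F.evc p * c⁻¹) * c := by group
      _ = c'⁻¹ * (c' * F.evc p * c'⁻¹) * c := by rw [Acts.apply F d h hc, Acts.apply F d h' hc']
      _ = _ := by group
  rcases d.hub.self _ hall with e | e
  · exact Or.inl (inv_mul_eq_one.mp e).symm
  · exact Or.inr (inv_mul_eq_iff_eq_mul.mp e)

/-- The frame at a coded noncentral involution. -/
def frameAt {i : ℕ} (hi : i < 54) : Frame z (F.evc (cframe i).2.1) Q where
  minus := true
  m u := F.evc (cM (cframe i) u)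
  x := F.evc (cframe i).1
  sing := by
    obtain ⟨hb, h0, h1, h2, h3, -, -⟩ := frame_check i hi
    have hy := (cbdd_iff.mp hb).2.1
    refine ⟨F.evc_mem d _, by rw [← F.evc_mul d, h1, F.evc_zero d], fun e => h2 ?_, fun e => h3 ?_⟩
    · exact F.evc_inj d hy (by decide) (e.trans (F.evc_zero d).symm)
    · exact F.evc_inj d hy (by decide) (e.trans (F.evc_z d).symm)
  mem u := F.evc_mem d _
  zero := by rw [(frame_m i hi).1, F.evc_zero d]
  comm_y u := fl_eq_false.mp (by rw [F.fl_evc d]; exact ((frame_m i hi).2.2.2.2.2 u).2.1)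
  hx := F.evc_mem d _
  x_sq := by rw [← F.evc_mul d, (frame_check i hi).2.1, F.evc_zero d]
  x_y := by rw [F.fl_evc d]; exact (frame_check i hi).2.2.2.2.2.1
  x_m u := by rw [F.fl_evc d]; exact ((frame_m i hi).2.2.2.2.2 u).2.2.1
  m_m u v := by rw [F.fl_evc d]; exact (frame_mm i hi u v).1
  m_sq u := by rw [← F.evc_mul d, ((frame_m i hi).2.2.2.2.2 u).2.2.2, F.evc_csel_z d]
  m_add u v := by
    rcases (frame_mm i hi u v).2 with e | e
    · exact ⟨false, by rw [← F.evc_mul d, e, pw_false, mul_one]⟩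
    · exact ⟨true, by rw [← F.evc_mul d, e, show (64 : ℕ) = cond true 64 0 from rfl, F.evc_xor_z d]⟩

end Frame

namespace Radical

variable [Finite G] {F : Frame z y Q} (d : Data z Q)
include d

/-- The substitution by an element of the radical at a frame. -/
theorem acts_el {i : ℕ} (hi : i < 54) (R : Radical (F.frameAt d hi)) (w v : W) :
    ∃ e, ∀ t b, F.Acts (R.el w v t b) (cact i v w (xor e t)) := by
  obtain ⟨e, he⟩ := (F.frameAt d hi).conj_x d (R.el_mem d w v false false)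
  rw [R.el_vof d, show q (F.frameAt d hi).minus v = q true v from rfl] at he
  refine ⟨e, fun t b => ?_⟩
  have hD := R.el_mem d w v t b
  obtain ⟨hz, hy⟩ := mem_Dzy.mp hD
  obtain ⟨hb, -, -, -, -, -, hinv⟩ := frame_check i hi
  obtain ⟨-, hm1, hm2, hm3, hm4, -⟩ := frame_m i hi
  have hxy : (F.evc (cframe i).2.1) * (F.frameAt d hi).x * (F.evc (cframe i).2.1)⁻¹ = (F.frameAt d hi).x * pw z true := by
    rw [fl_spec d.hub (F.frameAt d hi).sing.1 (F.frameAt d hi).hx, fl_symm, (F.frameAt d hi).x_y]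
  have hx : R.el w v t b * (F.frameAt d hi).x * (R.el w v t b)⁻¹ =
      (F.frameAt d hi).x * pw (F.evc (cframe i).2.1) (q true v) * (F.frameAt d hi).m v * pw z (xor e t) := by
    have e1 : R.el w v t b = R.el w v false false * R.kk t b := by
      simp [el, kk]
    have e2 : R.kk t b * (F.frameAt d hi).x * (R.kk t b)⁻¹ = (F.frameAt d hi).x * pw z t := by
      have hzx : pw z b * (F.frameAt d hi).x * (pw z b)⁻¹ = (F.frameAt d hi).x :=
        conj_of_commute (pw_commute (d.hub.central _ (F.frameAt d hi).hx) b).symm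
      calc R.kk t b * (F.frameAt d hi).x * (R.kk t b)⁻¹ = pw (F.evc (cframe i).2.1) t * (pw z b * (F.frameAt d hi).x * (pw z b)⁻¹) * (pw (F.evc (cframe i).2.1) t)⁻¹ := by
            rw [kk]; group
        _ = _ := by
            rw [hzx]
            cases t
            · simp
            · exact hxy
    calc R.el w v t b * (F.frameAt d hi).x * (R.el w v t b)⁻¹
        = R.el w v false false * (R.kk t b * (F.frameAt d hi).x * (R.kk t b)⁻¹) * (R.el w v false false)⁻¹ := by
          rw [e1]; group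
      _ = R.el w v false false * (F.frameAt d hi).x * (R.el w v false false)⁻¹ *
            (R.el w v false false * pw z t * (R.el w v false false)⁻¹) := by rw [e2]; group
      _ = _ := by
          rw [he, conj_of_commute (pw_commute (mem_Dzy.mp (R.el_mem d w v false false)).1 t),
            Frame.elem, pw_true, mul_assoc _ (pw z e), pw_mul d.hub.sq]
  have hm : ∀ u, R.el w v t b * (F.frameAt d hi).m u * (R.el w v t b)⁻¹ =
      (F.frameAt d hi).m u * pw (F.evc (cframe i).2.1) (B u v) * pw z (xor (B u v) (B w u)) := fun u => by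
    have e1 : R.el u w0 false false = (F.frameAt d hi).m u := by simp [el, kk, R.zero]
    have h := R.el_conj d w v u w0 t b false false
    rw [e1, show cy w v u w0 = B u v by simp [cy, B_w0], show cz w v u w0 = xor (B u v) (B w u) by
      simp [cz, B_w0]; cases B u v <;> cases B w u <;> rfl, kk, ← mul_assoc] at h
    exact h
  have hI : ∀ (u : W) (f : ℕ), cM (cframe i) u = f →
      R.el w v t b * F.evc f * (R.el w v t b)⁻¹ = F.evc (cimgE (cframe i).2.1 f u v w) := by
    rintro u f rfl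
    rw [show F.evc (cM (cframe i) u) = (F.frameAt d hi).m u from rfl, hm u, cimgE, F.evc_mul d, F.evc_mul d,
      F.evc_csel d, F.evc_csel_z d]
    rfl
  have hI0 : R.el w v t b * F.evc (cframe i).1 * (R.el w v t b)⁻¹ =
      F.evc (cimgs (cframe i) v w (xor e t)).1 := by
    show R.el w v t b * (F.frameAt d hi).x * (R.el w v t b)⁻¹ = _
    rw [hx, show (cimgs (cframe i) v w (xor e t)).1 = cmul (cmul (cmul (cframe i).1
      (csel (q true v) (cframe i).2.1)) (cM (cframe i) v)) (csel (xor e t) 64) from rfl, F.evc_mul d,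
      F.evc_mul d, F.evc_mul d, F.evc_csel d, F.evc_csel_z d]
    rfl
  have key := F.conj_capp d hz (A := cframe i) (I := cimgs (cframe i) v w (xor e t)) hI0
    (conj_of_commute hy) (hI _ _ hm1) (hI _ _ hm2) (hI _ _ hm3) (hI _ _ hm4)
  have k : ∀ (j p : ℕ), capp (cframe i) p = j → R.el w v t b * F.evc j * (R.el w v t b)⁻¹ =
      F.evc (capp (cimgs (cframe i) v w (xor e t)) p) := by
    rintro j p rfl
    exact key p
  simp only [cid, cmap, Prod.mk.injEq] at hinv
  exact ⟨k _ _ hinv.1, k _ _ hinv.2.1, k _ _ hinv.2.2.1, k _ _ hinv.2.2.2.1, k _ _ hinv.2.2.2.2.1,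
    k _ _ hinv.2.2.2.2.2⟩

/-- The substitution by the representative of the second class. -/
theorem acts_u (R : Radical F) : ∃ t, F.Acts (R.el e4 e3 t false) uCode := by
  obtain ⟨g0, g1, g2, g3, g4, g5⟩ := F.evc_gen d
  obtain ⟨e, he⟩ := F.conj_x d (R.el_mem d e4 e3 false false)
  rw [R.el_vof d, F.minus_true d, show q true e3 = true by decide, Frame.elem, pw_true, pw_true] at he
  refine ⟨e, ?_⟩
  obtain ⟨hz, hy⟩ := mem_Dzy.mp (R.el_mem d e4 e3 e false)
  have hm : ∀ u, R.el e4 e3 e false * F.m u * (R.el e4 e3 e false)⁻¹ =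
      F.m u * R.kk (B u e3) (xor (B u e3) (B e4 u)) := fun u => by
    have e1 : R.el u w0 false false = F.m u := by simp [el, kk, R.zero]
    have h := R.el_conj d e4 e3 u w0 e false false false
    rw [e1, show cy e4 e3 u w0 = B u e3 by simp [cy, B_w0], show cz e4 e3 u w0 = xor (B u e3) (B e4 u) by
      simp [cz, B_w0]; cases B u e3 <;> cases B e4 u <;> rfl] at h
    exact h
  have hx : R.el e4 e3 e false * F.x * (R.el e4 e3 e false)⁻¹ = F.x * y * F.m e3 := by
    have e1 : R.el e4 e3 e false = R.el e4 e3 false false * pw y e := by simp [el, kk]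
    have e2 : pw y e * F.x * (pw y e)⁻¹ = F.x * pw z e := by
      cases e
      · simp
      · simp only [pw_true]
        rw [fl_spec d.hub F.sing.1 F.hx, fl_symm, F.x_y, pw_true]
    calc R.el e4 e3 e false * F.x * (R.el e4 e3 e false)⁻¹
        = R.el e4 e3 false false * (pw y e * F.x * (pw y e)⁻¹) * (R.el e4 e3 false false)⁻¹ := by
          rw [e1]; group
      _ = R.el e4 e3 false false * F.x * (R.el e4 e3 false false)⁻¹ *
            (R.el e4 e3 false false * pw z e * (R.el e4 e3 false false)⁻¹) := by rw [e2]; group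
      _ = _ := by
          rw [he, conj_of_commute (pw_commute (mem_Dzy.mp (R.el_mem d e4 e3 false false)).1 e),
            mul_assoc _ (pw z e), pw_mul d.hub.sq, Bool.xor_self, pw_false, mul_one]
  refine ⟨?_, ?_, ?_, ?_, ?_, ?_⟩
  · rw [g0, hx, show uCode.1 = cmul (cmul 1 2) 16 by decide, F.evc_mul d, F.evc_mul d, g0, g1, g4]
  · rw [g1, conj_of_commute hy, show uCode.2.1 = 2 by decide, g1]
  · rw [g2, hm, show uCode.2.2.1 = 4 by decide, g2]
    simp [kk, show B e1 e3 = false by decide, show B e4 e1 = false by decide]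
  · rw [g3, hm, show uCode.2.2.2.1 = 8 by decide, g3]
    simp [kk, show B e2 e3 = false by decide, show B e4 e2 = false by decide]
  · rw [g4, hm, show uCode.2.2.2.2.1 = cmul 16 64 by decide, F.evc_mul d, g4, F.evc_z d]
    simp [kk, show B e3 e3 = false by decide, show B e4 e3 = true by decide]
  · rw [g5, hm, show uCode.2.2.2.2.2 = cmul (cmul 32 2) 64 by decide, F.evc_mul d, F.evc_mul d, g5, g1,
      F.evc_z d]
    simp [kk, show B e4 e3 = true by decide, show B e4 e4 = false by decide, mul_assoc]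

end Radical

end Cfsg.Agent.SuzType
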