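import Cfsg.Agent.S5379

/-!
# The hypotheses of Suzuki type as `Data`
-/

set_option autoImplicit false
open Cfsg

namespace Cfsg.Agent.SuzType

open Cfsg.Agent.S5379 (card_omega three_involutions)

/-- The data from the hypotheses of the statements. -/
theorem exists_data {G : Type*} [Group G] [Finite G] (z : G) (hz : orderOf z = 2) (Q : Subgroup (Subgroup.centralizer ({z} : Set G))) [Q.Normal] (hF : Cfsg.generalizedFittingSubgroup (Subgroup.centralizer ({z} : Set G)) = Q) (hQ : Cfsg.IsExtraspecial 2 Q) (hcard : Nat.card Q = 2 ^ 7) (e : (Subgroup.centralizer ({z} : Set G)) ⧸ Q ≃* Cfsg.Omega (ZMod 2) (Cfsg.quadFormMinus 2 (ZMod 2) 1 1)) (hnwc : ∃ g : G, (∃ hq : g * z * g⁻¹ ∈ Subgroup.centralizer ({z} : Set G), (⟨g * z * g⁻¹, hq⟩ : Subgroup.centralizer ({z} : Set G)) ∈ Q) ∧ g * z * g⁻¹ ≠ z) : ∃ P : Subgroup G, Data z P := by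
  classical
  let P : Subgroup G := Q.map (Subgroup.centralizer ({z} : Set G)).subtype
  have hle : P ≤ Subgroup.centralizer ({z} : Set G) := Subgroup.map_subtype_le _
  obtain ⟨hub, -, -⟩ := LargeExtraspecial.Hub.of_setting (Q := P) hz hle (by rw [hF])
    (TI.isExtraspecial_congr (Q.equivMapOfInjective _ (Subgroup.subtype_injective _)) hQ)
  have hmem : ∀ {x : Subgroup.centralizer ({z} : Set G)}, (x : G) ∈ P ↔ x ∈ Q := fun {x} =>
    Subgroup.mem_map_iff_mem (Subgroup.subtype_injective _)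
  obtain ⟨g, ⟨hq, hgQ⟩, hgz⟩ := hnwc
  have d : SuzType.Data z P := by
    refine ⟨hub, hle, ?_, ?_, ⟨g, hmem.mpr hgQ, hgz⟩, ?_⟩
    · rw [Subgroup.card_map_of_injective (Subgroup.subtype_injective _), hcard]; norm_num
    · rw [Subgroup.card_eq_card_quotient_mul_card_subgroup Q, Nat.card_congr e.toEquiv, card_omega,
        hcard]; norm_num
    · intro a b c ha hb hc
      have cv : ∀ {x : G}, Commute x z ∧ x ∉ P ∧ x * x ∈ P → ∃ x' : Subgroup.centralizer ({z} : Set G), (x' : G) = x ∧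
          orderOf (e (x' : _ ⧸ Q)) = 2 := by
        rintro x ⟨h1, h2, h3⟩
        refine ⟨⟨x, SuzType.mem_cz.mpr h1⟩, rfl, ?_⟩
        rw [e.orderOf_eq]
        refine orderOf_eq_prime ?_ fun h => h2 (hmem.mpr ((QuotientGroup.eq_one_iff _).mp h))
        rw [pow_two, ← QuotientGroup.mk_mul, QuotientGroup.eq_one_iff]
        exact hmem.mp h3
      obtain ⟨a', rfl, ha'⟩ := cv ha
      obtain ⟨b', rfl, hb'⟩ := cv hb
      obtain ⟨c', rfl, hc'⟩ := cv hc
      have back : ∀ {x y : Subgroup.centralizer ({z} : Set G)},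
          IsConj (e (x : _ ⧸ Q)) (e (y : _ ⧸ Q)) →
          ∃ g, Commute g z ∧ g * (x : G) * g⁻¹ * (y : G)⁻¹ ∈ P := by
        intro x y h
        obtain ⟨w, hw⟩ := isConj_iff.mp h
        obtain ⟨k, hk⟩ := QuotientGroup.mk_surjective (e.symm w)
        refine ⟨k, SuzType.mem_cz.mp k.2, ?_⟩
        have : k * x * k⁻¹ * y⁻¹ ∈ Q := by
          rw [← QuotientGroup.eq_one_iff, QuotientGroup.mk_mul, QuotientGroup.mk_mul,
            QuotientGroup.mk_mul, QuotientGroup.mk_inv, QuotientGroup.mk_inv, hk]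
          apply e.injective
          rw [map_mul, map_mul, map_mul, map_inv, map_inv, map_one, e.apply_symm_apply, hw,
            mul_inv_cancel]
        exact hmem.mpr this
      rcases three_involutions ha' hb' hc' with h | h | h
      exacts [Or.inl (back h), Or.inr (Or.inl (back h)), Or.inr (Or.inr (back h))]
  exact ⟨P, d⟩

end Cfsg.Agent.SuzType
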