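import Cfsg.Prelude
import Cfsg.Agent.Lib.SmallSimple.Tools
import Cfsg.Agent.Lib.SmallSimple.Basic
import Cfsg.Agent.Lib.Transfer.Burnside
import Cfsg.Agent.Lib.BSW.FourCent
import Cfsg.Agent.Lib.TICentralisers.Rigid
import Mathlib.GroupTheory.SpecificGroups.Cyclic
import Mathlib.GroupTheory.Sylow

/-!
# Sylow subgroups of order seven: elementary arithmetic

`|N/C| ∣ p - 1`; the Sylow 7-normaliser of a simple group of order 20160 with 2-groups as centralisers
of involutions has order 21.
-/

set_option autoImplicit false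
set_option maxHeartbeats 400000
set_option linter.style.haveILetI false

namespace Cfsg.Agent.SuzType

open Subgroup

variable {H : Type*} [Group H] [Finite H]

/-- `N/C` of a subgroup of prime order. -/
theorem card_normalizer_prime {p : ℕ} [hp : Fact p.Prime] {P : Subgroup H} (hP : Nat.card P = p) :
    ∃ k, k ∣ p - 1 ∧
      Nat.card (normalizer (P : Set H)) = Nat.card (centralizer (P : Set H)) * k := by
  haveI : IsCyclic P := isCyclic_of_prime_card hP
  refine ⟨Nat.card P.normalizerMonoidHom.range, ?_, ?_⟩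
  · have h := card_dvd_of_le_aux (P.normalizerMonoidHom.range)
    rwa [Nat.card_congr (IsCyclic.mulAutMulEquiv P).toEquiv, hP, Nat.card_eq_fintype_card (α := (ZMod p)ˣ),
      ZMod.card_units_eq_totient, Nat.totient_prime hp.out] at h
  · rw [← Subgroup.index_ker, normalizerMonoidHom_ker, ← Nat.card_congr
      (subgroupOfEquivOfLe (centralizer_le_normalizer (P : Set H))).toEquiv, Subgroup.card_mul_index]
where
  card_dvd_of_le_aux {A : Type _} [Group A] (S : Subgroup A) : Nat.card S ∣ Nat.card A :=
    Subgroup.card_subgroup_dvd_card S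

omit [Finite H] in
theorem centralizer_zpowers (b : H) :
    centralizer ((zpowers b : Subgroup H) : Set H) = centralizer ({b} : Set H) := by
  rw [zpowers_eq_closure, centralizer_closure]

theorem sylow_mod (p : ℕ) [Fact p.Prime] (P : Sylow p H) : ∃ n, n % p = 1 % p ∧
    n * Nat.card (normalizer ((P : Subgroup H) : Set H)) = Nat.card H :=
  ⟨_, card_sylow_modEq_one p H, SmallSimple.card_sylow_mul_card_normalizer P⟩

/-- The Sylow 7-subgroup of a group like `L₃(4)`. -/
theorem seven_normalizer [IsSimpleGroup H] (hcard : Nat.card H = 20160)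
    (hinv : ∀ t : H, t * t = 1 → t ≠ 1 → IsPGroup 2 (centralizer ({t} : Set H)))
    {B : Subgroup H} (hB : Nat.card B = 7) :
    centralizer (B : Set H) = B ∧ Nat.card (normalizer (B : Set H)) = 21 := by
  haveI : Fact (Nat.Prime 7) := ⟨by norm_num⟩
  haveI : Fact (Nat.Prime 5) := ⟨by norm_num⟩
  haveI : Fact (Nat.Prime 2) := ⟨Nat.prime_two⟩
  haveI : IsCyclic B := isCyclic_of_prime_card hB
  have hG : ¬ IsMulCommutative H := fun hc => by
    obtain ⟨t, ht⟩ := exists_prime_orderOf_dvd_card' (G := H) 2 (by rw [hcard]; norm_num)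
    have h2 := hinv t (by rw [← pow_two, ← ht, pow_orderOf_eq_one])
      (fun e => by rw [e, orderOf_one] at ht; omega)
    obtain ⟨n, hn⟩ := IsPGroup.iff_card.mp h2
    have htop : centralizer ({t} : Set H) = ⊤ := eq_top_iff.mpr fun x _ =>
      mem_centralizer_singleton_iff.mpr (hc.is_comm.comm _ _)
    rw [htop, Subgroup.card_top, hcard] at hn
    have h5 : 5 ∣ 2 ^ n := ⟨4032, by rw [← hn]⟩
    exact absurd (Nat.Prime.dvd_of_dvd_pow (by norm_num) h5) (by norm_num)
  -- `B` is a Sylow subgroup
  have h7 : (20160 : ℕ).factorization 7 = 1 := by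
    rw [show (20160 : ℕ) = 7 * 2880 by norm_num, Nat.factorization_mul (by norm_num) (by norm_num),
      Finsupp.add_apply, Nat.Prime.factorization_self (by norm_num),
      Nat.factorization_eq_zero_of_not_dvd (by norm_num)]
  let P : Sylow 7 H := Sylow.ofCard B (by rw [hB, hcard, h7, pow_one])
  have hPB : (P : Subgroup H) = B := rfl
  -- the centraliser has odd order
  set C := centralizer (B : Set H) with hC
  have hodd : ¬ 2 ∣ Nat.card C := fun h2 => by
    obtain ⟨⟨t, htC⟩, ht⟩ := exists_prime_orderOf_dvd_card' (G := C) 2 h2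
    rw [Subgroup.orderOf_mk] at ht
    obtain ⟨n, hn⟩ := IsPGroup.iff_card.mp (hinv t (by rw [← pow_two, ← ht, pow_orderOf_eq_one])
      (fun e => by rw [e, orderOf_one] at ht; omega))
    have hle : B ≤ centralizer ({t} : Set H) := fun b hb =>
      mem_centralizer_singleton_iff.mpr (mem_centralizer_iff.mp htC b hb)
    have := Subgroup.card_dvd_of_le hle
    rw [hB, hn] at this
    exact absurd (Nat.Prime.dvd_of_dvd_pow (by norm_num) this) (by norm_num)
  obtain ⟨k, hk, hNk⟩ := card_normalizer_prime hB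
  obtain ⟨n, hn1, hn⟩ := sylow_mod 7 P
  rw [hPB, hcard, hNk] at hn
  have hBC : B ≤ C := fun b hb => mem_centralizer_iff.mpr fun a ha =>
    congrArg Subtype.val ((IsCyclic.commGroup (α := B)).mul_comm ⟨a, ha⟩ ⟨b, hb⟩)
  obtain ⟨c, hc⟩ : 7 ∣ Nat.card C := hB ▸ Subgroup.card_dvd_of_le hBC
  have hk2 : k ≠ 1 := fun e => SmallSimple.not_hasNormalPComplement hG (p := 7)
    (by rw [hcard]; norm_num) (Transfer.hasNormalPComplement_of_normalizer_le_centralizer P (by
      show normalizer (B : Set H) ≤ centralizer (B : Set H)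
      exact (Subgroup.eq_of_le_of_card_ge (centralizer_le_normalizer _) (by rw [hNk, e, mul_one])).ge))
  have hcd : c ∣ 45 := by
    have h1 : c ∣ 2880 := by
      have := Subgroup.card_subgroup_dvd_card C
      rw [hc, hcard, show (20160 : ℕ) = 7 * 2880 by norm_num] at this
      exact Nat.dvd_of_mul_dvd_mul_left (by norm_num) this
    have h2 : Nat.Coprime c 64 := by
      rw [show (64 : ℕ) = 2 ^ 6 by norm_num]
      refine Nat.Coprime.pow_right _ ((Nat.prime_two.coprime_iff_not_dvd.mpr fun h => hodd ?_).symm)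
      rw [hc]; exact h.mul_left 7
    exact h2.dvd_of_dvd_mul_left (by simpa using h1)
  have hk6 : k = 2 ∨ k = 3 ∨ k = 6 := by
    have := Nat.le_of_dvd (by norm_num) hk
    interval_cases k <;> simp_all
  have hcs : c = 1 ∨ c = 3 ∨ c = 5 ∨ c = 9 ∨ c = 15 ∨ c = 45 := by
    have := Nat.le_of_dvd (by norm_num) hcd
    interval_cases c <;> simp_all
  rw [hc] at hn
  -- two exceptional cases with a central element of order five
  have hc5 : ¬ 5 ∣ c := by
    intro h5
    obtain ⟨⟨f, hfC⟩, hf⟩ := exists_prime_orderOf_dvd_card' (G := C) 5 (by rw [hc]; exact h5.mul_left 7)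
    rw [Subgroup.orderOf_mk] at hf
    have hFcard : Nat.card (zpowers f) = 5 := by rw [Nat.card_zpowers, hf]
    haveI : IsCyclic (zpowers f) := isCyclic_of_prime_card hFcard
    let S : Sylow 5 H := Sylow.ofCard (zpowers f) (by
      rw [hFcard, hcard, show (20160 : ℕ) = 5 * 4032 by norm_num,
        Nat.factorization_mul (by norm_num) (by norm_num), Finsupp.add_apply,
        Nat.Prime.factorization_self (by norm_num), Nat.factorization_eq_zero_of_not_dvd (by norm_num),
        Nat.add_zero, pow_one])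
    set D := centralizer ((zpowers f : Subgroup H) : Set H) with hD
    obtain ⟨k', hk', hNk'⟩ := card_normalizer_prime hFcard
    obtain ⟨n', hn1', hn'⟩ := sylow_mod 5 S
    rw [show ((S : Subgroup H)) = zpowers f from rfl, hcard, hNk'] at hn'
    have hk2' : k' ≠ 1 := fun e => SmallSimple.not_hasNormalPComplement hG (p := 5)
      (by rw [hcard]; norm_num) (Transfer.hasNormalPComplement_of_normalizer_le_centralizer S (by
        show normalizer ((zpowers f : Subgroup H) : Set H) ≤ centralizer ((zpowers f : Subgroup H) : Set H)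
        exact (Subgroup.eq_of_le_of_card_ge (centralizer_le_normalizer _) (by rw [hNk', e, mul_one])).ge))
    have hBD : B ≤ D := fun b hb => by
      rw [hD, centralizer_zpowers]
      exact mem_centralizer_singleton_iff.mpr (mem_centralizer_iff.mp hfC b hb)
    have hFD : zpowers f ≤ D := fun b hb => mem_centralizer_iff.mpr fun a ha =>
      congrArg Subtype.val ((IsCyclic.commGroup (α := zpowers f)).mul_comm ⟨a, ha⟩ ⟨b, hb⟩)
    have hoddD : ¬ 2 ∣ Nat.card D := fun h2 => by
      obtain ⟨⟨t, htD⟩, ht⟩ := exists_prime_orderOf_dvd_card' (G := D) 2 h2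
      rw [Subgroup.orderOf_mk] at ht
      obtain ⟨m, hm⟩ := IsPGroup.iff_card.mp (hinv t (by rw [← pow_two, ← ht, pow_orderOf_eq_one])
        (fun e => by rw [e, orderOf_one] at ht; omega))
      have hle : zpowers f ≤ centralizer ({t} : Set H) := fun b hb =>
        mem_centralizer_singleton_iff.mpr (mem_centralizer_iff.mp htD b hb)
      have := Subgroup.card_dvd_of_le hle
      rw [hFcard, hm] at this
      exact absurd (Nat.Prime.dvd_of_dvd_pow (by norm_num) this) (by norm_num)
    obtain ⟨e, he⟩ : 35 ∣ Nat.card D := by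
      have h1 := hB ▸ Subgroup.card_dvd_of_le hBD
      have h2 := hFcard ▸ Subgroup.card_dvd_of_le hFD
      exact Nat.Coprime.mul_dvd_of_dvd_of_dvd (m := 7) (n := 5) (by norm_num) h1 h2
    have hed : e ∣ 9 := by
      have h1 : e ∣ 576 := by
        have := Subgroup.card_subgroup_dvd_card D
        rw [he, hcard, show (20160 : ℕ) = 35 * 576 by norm_num] at this
        exact Nat.dvd_of_mul_dvd_mul_left (by norm_num) this
      have h2 : Nat.Coprime e 64 := by
        rw [show (64 : ℕ) = 2 ^ 6 by norm_num]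
        refine Nat.Coprime.pow_right _ ((Nat.prime_two.coprime_iff_not_dvd.mpr fun h => hoddD ?_).symm)
        rw [he]; exact h.mul_left 35
      exact h2.dvd_of_dvd_mul_left (by simpa using h1)
    -- `B` is normal in `C(f)`
    let PD : Sylow 7 D := Sylow.ofCard (B.subgroupOf D) (by
      rw [Nat.card_congr (subgroupOfEquivOfLe hBD).toEquiv, hB, he,
        show 35 * e = 7 * (5 * e) by ring]
      have he0 : 5 * e ≠ 0 := by
        intro h0; have : e = 0 := by omega
        subst this; simp at hed
      rw [Nat.factorization_mul (by norm_num) he0, Finsupp.add_apply,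
        Nat.Prime.factorization_self (by norm_num), Nat.factorization_eq_zero_of_not_dvd (fun h => by
          have := Nat.le_of_dvd (by norm_num) hed
          interval_cases e <;> omega), Nat.add_zero, pow_one])
    obtain ⟨nD, hnD1, hnD⟩ := sylow_mod 7 PD
    have h35 : 35 ∣ Nat.card (normalizer ((PD : Subgroup D) : Set D)) := by
      have hfn : (⟨f, hFD (mem_zpowers f)⟩ : D) ∈ normalizer ((PD : Subgroup D) : Set D) :=
        centralizer_le_normalizer _ (mem_centralizer_iff.mpr fun b hb => Subtype.ext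
          (mem_centralizer_iff.mp hfC (b : H) (mem_subgroupOf.mp hb)))
      have h5' : 5 ∣ Nat.card (normalizer ((PD : Subgroup D) : Set D)) := by
        have := Subgroup.orderOf_dvd_natCard (normalizer ((PD : Subgroup D) : Set D)) hfn
        rwa [Subgroup.orderOf_mk, hf] at this
      have h7' : 7 ∣ Nat.card (normalizer ((PD : Subgroup D) : Set D)) := by
        have := Subgroup.card_dvd_of_le (le_normalizer (H := (PD : Subgroup D)))
        rwa [show Nat.card (PD : Subgroup D) = 7 from
          (Nat.card_congr (subgroupOfEquivOfLe hBD).toEquiv).trans hB] at this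
      exact Nat.Coprime.mul_dvd_of_dvd_of_dvd (m := 7) (n := 5) (by norm_num) h7' h5'
    have hnD' : nD = 1 := by
      obtain ⟨j, hj⟩ := h35
      rw [hj, he, mul_left_comm] at hnD
      have hprod : nD * j = e := Nat.eq_of_mul_eq_mul_left (by norm_num) hnD
      have hd : nD ∣ 9 := (Dvd.intro j hprod).trans hed
      have := Nat.le_of_dvd (by norm_num) hd
      interval_cases nD <;> omega
    have hnorm : (PD : Subgroup D).Normal := by
      rw [← Subgroup.normalizer_eq_top_iff]
      refine Subgroup.eq_top_of_card_eq _ ?_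
      rw [hnD', one_mul] at hnD
      exact hnD
    -- so `N(F) ≤ N(B)`
    have hNN : normalizer ((zpowers f : Subgroup H) : Set H) ≤ normalizer (B : Set H) := by
      intro g hg
      have hgD : ∀ x ∈ D, g * x * g⁻¹ ∈ D := fun x hx => mem_centralizer_iff.mpr fun a ha => by
        have ha' : g⁻¹ * a * g ∈ (zpowers f : Subgroup H) := by
          have := (mem_normalizer_iff.mp (inv_mem hg) a).mp ha
          rwa [inv_inv] at this
        calc a * (g * x * g⁻¹) = g * ((g⁻¹ * a * g) * x) * g⁻¹ := by group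
          _ = g * (x * (g⁻¹ * a * g)) * g⁻¹ := by rw [mem_centralizer_iff.mp hx _ ha']
          _ = _ := by group
      refine mem_normalizer_of_map_le fun x hx => ?_
      obtain ⟨b, hb, rfl⟩ := hx
      -- the conjugate is in the unique Sylow subgroup
      have hbD : g * b * g⁻¹ ∈ D := hgD b (hBD hb)
      have hp : IsPGroup 7 (zpowers (⟨g * b * g⁻¹, hbD⟩ : D)) := by
        rintro ⟨w, i, rfl⟩
        refine ⟨1, Subtype.ext ?_⟩
        have h7b : (⟨g * b * g⁻¹, hbD⟩ : D) ^ 7 = 1 := Subtype.ext (by
          have hb7 : b ^ 7 = 1 :=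
            orderOf_dvd_iff_pow_eq_one.mp (hB ▸ Subgroup.orderOf_dvd_natCard B hb)
          show (g * b * g⁻¹) ^ 7 = 1
          rw [conj_pow, hb7, mul_one, mul_inv_cancel])
        show ((⟨g * b * g⁻¹, hbD⟩ : D) ^ i) ^ 7 ^ 1 = 1
        rw [pow_one, ← zpow_natCast, ← zpow_mul, mul_comm i, zpow_mul, zpow_natCast, h7b, one_zpow]
      obtain ⟨Q', hQ'⟩ := hp.exists_le_sylow
      haveI := Sylow.unique_of_normal PD hnorm
      exact mem_subgroupOf.mp (Subsingleton.elim Q' PD ▸ hQ' (mem_zpowers _))
    have hle := Subgroup.card_dvd_of_le hNN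
    rw [hNk', he, hNk, hc] at hle
    rw [he] at hn'
    have := Nat.le_of_dvd (by norm_num) hed
    have := Nat.le_of_dvd (by norm_num) hk'
    have hnle : n' ≤ 20160 := Nat.le_of_dvd (by norm_num) (Dvd.intro _ hn')
    have hn5 : n' % 5 = 1 := by simpa using hn1'
    have hk7 : n % 7 = 1 := by simpa using hn1
    rcases hk6 with rfl | rfl | rfl <;> rcases hcs with rfl | rfl | rfl | rfl | rfl | rfl <;>
      interval_cases e <;> interval_cases k' <;> first | omega | (norm_num at hle)
  have hk7 : n % 7 = 1 := by simpa using hn1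
  have hkey : c = 1 ∧ k = 3 := by
    rcases hk6 with rfl | rfl | rfl <;> rcases hcs with rfl | rfl | rfl | rfl | rfl | rfl <;>
      first | omega | (exfalso; exact hc5 (by norm_num))
  refine ⟨(Subgroup.eq_of_le_of_card_ge hBC (by rw [hB, hc, hkey.1])).symm, ?_⟩
  rw [hNk, hc, hkey.1, hkey.2]
where
  mem_normalizer_of_map_le {g : H} {B : Subgroup H}
      (h : B.map (MulAut.conj g).toMonoidHom ≤ B) : g ∈ normalizer (B : Set H) := by
    have he := Subgroup.eq_of_le_of_card_ge h
      (le_of_eq (card_map_of_injective (MulAut.conj g).injective).symm)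
    refine mem_normalizer_iff.mpr fun x => ⟨fun hx => h ⟨x, hx, rfl⟩, fun hx => ?_⟩
    rw [← he] at hx
    obtain ⟨b, hb, e⟩ := hx
    rwa [(MulAut.conj g).injective e] at hb

/-- A group with three involutions each having the four-group `V` as centralizer. -/
theorem four_self_centralizing {M : Type*} [Group M] [Finite M] {a b : M} (ha : a * a = 1)
    (hb : b * b = 1) (ha1 : a ≠ 1) (hb1 : b ≠ 1) (hab : a ≠ b) (hcomm : Commute a b)
    (hC : ∀ w, w = a ∨ w = b ∨ w = a * b → Nat.card (centralizer ({w} : Set M)) = 4) :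
    Nat.card M = 4 ∨ Nat.card M = 60 ∨ (Nat.card M = 12 ∧ Nonempty (M ≃* alternatingGroup (Fin 4))) := by
  classical
  haveI : Fact (Nat.Prime 2) := ⟨Nat.prime_two⟩
  haveI : Fact (Nat.Prime 3) := ⟨Nat.prime_three⟩
  set V := centralizer ({a} : Set M) with hVdef
  have hV4 : Nat.card V = 4 := hC a (Or.inl rfl)
  have haV : a ∈ V := mem_centralizer_singleton_iff.mpr rfl
  have hbV : b ∈ V := mem_centralizer_singleton_iff.mpr hcomm.symm.eq
  have hab1 : a * b ≠ 1 := fun e => hab (by rw [← mul_one b, ← e, ← mul_assoc, ← hcomm.eq, mul_assoc, hb, mul_one])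
  have hmem : ∀ x ∈ V, x = 1 ∨ x = a ∨ x = b ∨ x = a * b := by
    have hs : ({1, a, b, a * b} : Finset M).card = 4 := by
      have h1 : a ≠ a * b := fun e => hb1 (by simpa using e.symm)
      have h2 : b ≠ a * b := fun e => ha1 (by simpa using e.symm)
      rw [Finset.card_insert_of_notMem (by simp [ha1.symm, hb1.symm, hab1.symm]),
        Finset.card_insert_of_notMem (by simp [hab, h1]), Finset.card_pair h2]
    haveI := Fintype.ofFinite M
    have hV : (V : Set M).toFinset = {1, a, b, a * b} := by
      refine (Finset.eq_of_subset_of_card_le ?_ ?_).symm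
      · intro x hx
        simp only [Finset.mem_insert, Finset.mem_singleton] at hx
        rw [Set.mem_toFinset]
        rcases hx with rfl | rfl | rfl | rfl
        exacts [one_mem V, haV, hbV, mul_mem haV hbV]
      · rw [hs, Set.toFinset_card, ← Nat.card_eq_fintype_card]
        exact le_of_eq hV4
    intro x hx
    have : x ∈ ({1, a, b, a * b} : Finset M) := hV ▸ Set.mem_toFinset.mpr hx
    simpa using this
  have hVsq : ∀ x ∈ V, x * x = 1 := by
    intro x hx
    rcases hmem x hx with rfl | rfl | rfl | rfl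
    exacts [one_mul 1, ha, hb, by rw [hcomm.symm.mul_mul_mul_comm, ha, hb, one_mul]]
  have hVcomm : ∀ x ∈ V, ∀ w ∈ V, Commute x w := by
    intro x hx w hw
    have h := hVsq _ (mul_mem hx hw)
    calc x * w = (x * w)⁻¹ := (inv_eq_of_mul_eq_one_right h).symm
      _ = w * x := by
        rw [mul_inv_rev, inv_eq_of_mul_eq_one_right (hVsq x hx), inv_eq_of_mul_eq_one_right (hVsq w hw)]
  have hcent : ∀ w ∈ V, w ≠ 1 → centralizer ({w} : Set M) = V := by
    intro w hw hw1
    have h4 : Nat.card (centralizer ({w} : Set M)) = 4 := by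
      rcases hmem w hw with rfl | h
      exacts [absurd rfl hw1, hC w h]
    exact (Subgroup.eq_of_le_of_card_ge (fun x hx => mem_centralizer_singleton_iff.mpr (hVcomm x hx w hw).eq)
      (le_of_eq (h4.trans hV4.symm))).symm
  have hV2 : IsPGroup 2 V := IsPGroup.of_card (n := 2) (by rw [hV4]; norm_num)
  have hPV : ∀ P : Sylow 2 M, V ≤ (P : Subgroup M) → (P : Subgroup M) = V := by
    intro P hle
    refine le_antisymm ?_ hle
    haveI : Nontrivial (P : Subgroup M) := ⟨⟨⟨a, hle haV⟩, 1, fun e => ha1 (congrArg Subtype.val e)⟩⟩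
    haveI := P.2.center_nontrivial
    obtain ⟨⟨c, hc⟩, hc1⟩ := exists_ne (1 : center (P : Subgroup M))
    have hcV : (c : M) ∈ V := mem_centralizer_singleton_iff.mpr
      (congrArg Subtype.val (mem_center_iff.mp hc ⟨a, hle haV⟩)).symm
    have hc1' : (c : M) ≠ 1 := fun e => hc1 (Subtype.ext (Subtype.ext e))
    rw [← hcent _ hcV hc1']
    exact fun x hx => mem_centralizer_singleton_iff.mpr
      (congrArg Subtype.val (mem_center_iff.mp hc ⟨x, hx⟩))
  obtain ⟨P₀, hP₀⟩ := hV2.exists_le_sylow
  have hP₀V := hPV P₀ hP₀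
  -- conjugation in a normal subgroup of odd order
  have hOdd : ∀ N : Subgroup M, N.Normal → Odd (Nat.card N) → N = ⊥ := by
    intro N hN hNo
    rw [Subgroup.eq_bot_iff_forall]
    have hinv : ∀ w ∈ V, w ≠ 1 → ∀ x ∈ N, w * x * w = x⁻¹ := by
      intro w hw hw1 x hx
      have hwi : w⁻¹ = w := inv_eq_of_mul_eq_one_right (hVsq w hw)
      refine TICentralisers.inverts_of_fpf (hVsq w hw) _ (fun x hx => by
        have := hN.conj_mem x hx w; rwa [hwi] at this) (fun x hx hcm => ?_) x hx
      have hxV : x ∈ V := hcent w hw hw1 ▸ mem_centralizer_singleton_iff.mpr hcm.eq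
      have h2 : orderOf x ∣ 2 := orderOf_dvd_of_pow_eq_one (by rw [pow_two]; exact hVsq x hxV)
      have h3 : orderOf x ∣ Nat.card N := Subgroup.orderOf_dvd_natCard N hx
      have : orderOf x ∣ 1 := by
        rw [← Nat.coprime_two_left.mpr hNo]; exact Nat.dvd_gcd h2 h3
      exact orderOf_eq_one_iff.mp (Nat.dvd_one.mp this)
    intro x hx
    have e1 := hinv a haV ha1 x hx
    have e2 := hinv b hbV hb1 x⁻¹ (inv_mem hx)
    have e3 := hinv (a * b) (mul_mem haV hbV) hab1 x hx
    have hfix : a * b * x * (a * b) = x := by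
      calc a * b * x * (a * b) = b * (a * x * a) * b := by
            conv_lhs => arg 1; rw [hcomm.eq]
            group
        _ = x := by rw [e1, e2, inv_inv]
    have hx2 : x ^ 2 = 1 := by
      rw [pow_two, ← eq_inv_iff_mul_eq_one]
      exact hfix.symm.trans e3
    have h3 : orderOf x ∣ Nat.card N := Subgroup.orderOf_dvd_natCard N hx
    have : orderOf x ∣ 1 := by
      rw [← Nat.coprime_two_left.mpr hNo]; exact Nat.dvd_gcd (orderOf_dvd_of_pow_eq_one hx2) h3
    exact orderOf_eq_one_iff.mp (Nat.dvd_one.mp this)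
  by_cases hnc : Cfsg.HasNormalPComplement 2 M
  · left
    obtain ⟨P, N, hN, hc⟩ := hnc
    obtain ⟨g, hg⟩ := MulAction.exists_smul_eq M P₀ P
    have hPc : Nat.card (P : Subgroup M) = 4 := by
      rw [Sylow.card_eq_multiplicity, ← Sylow.card_eq_multiplicity P₀, hP₀V, hV4]
    have hno : Odd (Nat.card N) := by
      rw [Nat.odd_iff, ← Nat.not_even_iff, even_iff_two_dvd]
      intro h2
      have h8 : 2 ^ 3 ∣ Nat.card M := by
        rw [← hc.card_mul]
        obtain ⟨j, hj⟩ := h2
        rw [hPc, hj]
        exact ⟨j, by ring⟩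
      have := (Nat.Prime.pow_dvd_iff_le_factorization Nat.prime_two Nat.card_pos.ne').mp h8
      have h4 : Nat.card (P₀ : Subgroup M) = 2 ^ (Nat.card M).factorization 2 := Sylow.card_eq_multiplicity P₀
      rw [hP₀V, hV4] at h4
      have := Nat.pow_le_pow_right (show 0 < 2 by norm_num) this
      omega
    have := hc.card_mul
    rw [hOdd N hN hno, Subgroup.card_bot, hPc] at this
    omega
  by_cases hne : ∀ E : Subgroup M, E.Normal → Cfsg.IsElementaryAbelian 2 E → Nat.card ↥E ≠ 2 ∧ Nat.card ↥E ≠ 4
  · right; left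
    obtain ⟨e⟩ := BSW.FourCent.iso_alternating ⟨a, (orderOf_eq_prime_iff.mpr ⟨by rw [pow_two]; exact ha, ha1⟩),
      hV4, hVsq⟩ hnc hne
    rw [Nat.card_congr e.toEquiv, Nat.card_eq_fintype_card]
    rfl
  push Not at hne
  obtain ⟨E, hEn, -, hE⟩ := hne
  have hEcard : Nat.card E = 2 ∨ Nat.card E = 4 := by
    by_cases h : Nat.card E = 2
    exacts [Or.inl h, Or.inr (hE h)]
  have hEV : E ≤ V := by
    obtain ⟨Q, hQ⟩ : ∃ Q : Sylow 2 M, E ≤ (Q : Subgroup M) := by
      rcases hEcard with h | h
      · exact (IsPGroup.of_card (n := 1) (by rw [h]; norm_num)).exists_le_sylow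
      · exact (IsPGroup.of_card (n := 2) (by rw [h]; norm_num)).exists_le_sylow
    obtain ⟨g, rfl⟩ := MulAction.exists_smul_eq M P₀ Q
    intro x hx
    have hx' : g * x * g⁻¹ ∈ ((g • P₀ : Sylow 2 M) : Subgroup M) := hQ (hEn.conj_mem x hx g)
    rw [Sylow.coe_subgroup_smul, Subgroup.mem_pointwise_smul_iff_inv_smul_mem] at hx'
    rw [← hP₀V]
    simpa [MulAut.smul_def, mul_assoc] using hx'
  rcases hEcard with h | h
  · left
    obtain ⟨w, hw⟩ : ∃ w ∈ E, w ≠ (1 : M) := by
      by_contra hno; push Not at hno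
      rw [(Subgroup.eq_bot_iff_forall E).mpr hno, Subgroup.card_bot] at h
      omega
    have htop : centralizer ({w} : Set M) = ⊤ := eq_top_iff.mpr fun g _ => by
      haveI := Fintype.ofFinite E
      have hcw : g * w * g⁻¹ ∈ E := hEn.conj_mem w hw.1 g
      have h2 : ∀ x ∈ E, x = 1 ∨ x = w := fun x hx => by
        by_contra hno
        push Not at hno
        have hcd : ({⟨x, hx⟩, ⟨w, hw.1⟩, 1} : Finset E).card ≤ 2 := by
          rw [← h, Nat.card_eq_fintype_card]; exact Finset.card_le_univ _
        rw [Finset.card_insert_of_notMem (by simp [hno.1, hno.2]),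
          Finset.card_pair (fun e => hw.2 (congrArg Subtype.val e))] at hcd
        omega
      rcases h2 _ hcw with e | e
      · exact absurd (conj_eq_one_iff.mp e) hw.2
      · exact mem_centralizer_singleton_iff.mpr (mul_inv_eq_iff_eq_mul.mp e)
    rw [← Subgroup.card_top (G := M), ← htop, hcent w (hEV hw.1) hw.2, hV4]
  -- a normal four-group
  have hEeq : E = V := Subgroup.eq_of_le_of_card_ge hEV (by rw [h, hV4])
  subst hEeq
  have hidx : Nat.card M ≤ 12 := by
    have hfin : Nat.card (M ⧸ V) ≤ 3 := by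
      let f : M ⧸ V → {x : V // x ≠ 1} := Quotient.lift
        (fun g => ⟨⟨g * a * g⁻¹, hEn.conj_mem a haV g⟩, fun e =>
          ha1 (conj_eq_one_iff.mp (congrArg Subtype.val e))⟩) (by
        intro g g' hgg
        have hh := QuotientGroup.leftRel_apply.mp hgg
        apply Subtype.ext; apply Subtype.ext
        show g * a * g⁻¹ = g' * a * g'⁻¹
        have hc := mem_centralizer_singleton_iff.mp hh
        calc g * a * g⁻¹ = g * (g⁻¹ * g' * a * (g⁻¹ * g')⁻¹) * g⁻¹ := by
              rw [hc, mul_inv_cancel_right]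
          _ = _ := by group)
      have hf : Function.Injective f := by
        intro p q
        refine Quotient.inductionOn₂ p q fun g g' e => ?_
        have e' : g * a * g⁻¹ = g' * a * g'⁻¹ := congrArg Subtype.val (congrArg Subtype.val e)
        refine Quotient.sound (QuotientGroup.leftRel_apply.mpr
          (mem_centralizer_singleton_iff.mpr (mul_inv_eq_iff_eq_mul.mp ?_)))
        calc g⁻¹ * g' * a * (g⁻¹ * g')⁻¹ = g⁻¹ * (g' * a * g'⁻¹) * g := by group
          _ = a := by rw [← e']; group
      refine (Nat.card_le_card_of_injective f hf).trans ?_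
      haveI := Fintype.ofFinite V
      rw [Nat.card_eq_fintype_card, Fintype.card_subtype_compl, Fintype.card_subtype_eq,
        ← Nat.card_eq_fintype_card, hV4]
    rw [Subgroup.card_eq_card_quotient_mul_card_subgroup V, hV4]
    omega
  obtain ⟨j, hj⟩ : 4 ∣ Nat.card M := hV4 ▸ Subgroup.card_subgroup_dvd_card V
  have hj2 : ¬ 2 ∣ j := by
    intro h2
    have h8 : 2 ^ 3 ∣ Nat.card M := by
      rw [hj]; obtain ⟨i, rfl⟩ := h2; exact ⟨i, by ring⟩
    have := (Nat.Prime.pow_dvd_iff_le_factorization Nat.prime_two Nat.card_pos.ne').mp h8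
    have h4 : Nat.card (P₀ : Subgroup M) = 2 ^ (Nat.card M).factorization 2 := Sylow.card_eq_multiplicity P₀
    rw [hP₀V, hV4] at h4
    have := Nat.pow_le_pow_right (show 0 < 2 by norm_num) this
    omega
  have hpos : 0 < Nat.card M := Nat.card_pos
  rcases (show j = 1 ∨ j = 3 by omega) with rfl | rfl
  · exact Or.inl hj
  refine Or.inr (Or.inr ⟨hj, ?_⟩)
  obtain ⟨P⟩ : Nonempty (Sylow 3 M) := inferInstance
  have hP3 : ∀ P : Sylow 3 M, Nat.card (P : Subgroup M) = 3 := fun P => by
    rw [SmallSimple.card_sylow_subgroup (p := 3) (k := 1) (m := 4) (by rw [hj]; norm_num) (by norm_num) P,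
      pow_one]
  obtain ⟨n, hn1, hn⟩ := sylow_mod 3 P
  have hnot : ∀ P : Sylow 3 M, ¬ (P : Subgroup M).Normal := fun P hPn => by
    obtain ⟨⟨x, hx⟩, hxo⟩ := exists_prime_orderOf_dvd_card' (G := (P : Subgroup M)) 3 (by rw [hP3])
    rw [Subgroup.orderOf_mk] at hxo
    have hcm : Commute x a := Subgroup.commute_of_normal_of_disjoint _ _ hPn hEn
      (Subgroup.disjoint_of_coprime_natCard (by rw [hP3, hV4]; norm_num)) x a hx haV
    have := Subgroup.orderOf_dvd_natCard V (mem_centralizer_singleton_iff.mpr hcm.eq : x ∈ V)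
    rw [hxo, hV4] at this
    omega
  have hNP : ∀ P : Sylow 3 M, normalizer ((P : Subgroup M) : Set M) = (P : Subgroup M) := by
    intro P
    refine (Subgroup.eq_of_le_of_card_ge le_normalizer ?_).symm
    obtain ⟨m, hm1, hm⟩ := sylow_mod 3 P
    obtain ⟨i, hi⟩ := Subgroup.card_dvd_of_le (le_normalizer (H := (P : Subgroup M)))
    rw [hP3] at hi ⊢
    have hne : Nat.card (normalizer ((P : Subgroup M) : Set M)) ≠ 12 := fun e =>
      hnot P (Subgroup.normalizer_eq_top_iff.mp (Subgroup.eq_top_of_card_eq _ (e.trans hj.symm)))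
    have hle : Nat.card (normalizer ((P : Subgroup M) : Set M)) ≤ 12 :=
      (Nat.le_of_dvd (by omega) (Dvd.intro_left m hm)).trans_eq hj
    rw [hi, hj] at hm
    rw [hi] at hne hle ⊢
    have hm' : m * i = 4 := by linarith
    have : m ≤ 4 := Nat.le_of_dvd (by norm_num) (Dvd.intro i hm')
    interval_cases m <;> omega
  have hS4 : Nat.card (Sylow 3 M) = 4 := by
    have := SmallSimple.card_sylow_mul_card_normalizer P
    rw [hNP, hP3, hj] at this
    omega
  let f : M →* Equiv.Perm (Sylow 3 M) := MulAction.toPermHom M (Sylow 3 M)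
  have hf : Function.Injective f := by
    rw [← MonoidHom.ker_eq_bot_iff, Subgroup.eq_bot_iff_forall]
    intro g hg
    have hmem : ∀ P : Sylow 3 M, g ∈ (P : Subgroup M) := fun P => hNP P ▸
      SmallSimple.smul_sylow_eq_iff.mp (congrArg (fun σ : Equiv.Perm (Sylow 3 M) => σ P) hg)
    by_contra hg1
    have hall : ∀ P Q : Sylow 3 M, P = Q := fun P Q => by
      have hz : ∀ P : Sylow 3 M, zpowers g = (P : Subgroup M) := fun P => by
        haveI : Fact (Nat.card (P : Subgroup M)).Prime := ⟨by rw [hP3]; norm_num⟩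
        refine Subgroup.eq_of_le_of_card_ge (zpowers_le.mpr (hmem P)) ?_
        have hd := Subgroup.orderOf_dvd_natCard (P : Subgroup M) (hmem P)
        rw [hP3] at hd ⊢
        rw [Nat.card_zpowers]
        rcases (Nat.dvd_prime Nat.prime_three).mp hd with e | e
        · exact absurd (orderOf_eq_one_iff.mp e) hg1
        · omega
      exact Sylow.ext ((hz P).symm.trans (hz Q))
    haveI : Subsingleton (Sylow 3 M) := ⟨hall⟩
    have := Finite.card_le_one_iff_subsingleton.mpr (inferInstance : Subsingleton (Sylow 3 M))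
    omega
  haveI := Fintype.ofFinite (Sylow 3 M)
  let ε : Sylow 3 M ≃ Fin 4 := (Fintype.equivFin _).trans (finCongr (by rw [← Nat.card_eq_fintype_card, hS4]))
  let φ : M →* Equiv.Perm (Fin 4) := ε.permCongrHom.toMonoidHom.comp f
  have hφ : Function.Injective φ := ε.permCongrHom.injective.comp hf
  have hidx : φ.range.index = 2 := by
    have h1 := φ.range.card_mul_index
    rw [← Nat.card_congr (MonoidHom.ofInjective hφ).toEquiv, hj, Nat.card_perm, Nat.card_fin] at h1
    have : (4 : ℕ).factorial = 24 := rfl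
    omega
  exact ⟨(MonoidHom.ofInjective hφ).trans
    (MulEquiv.subgroupCongr (Equiv.Perm.eq_alternatingGroup_of_index_eq_two hidx))⟩

end Cfsg.Agent.SuzType
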