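import Cfsg.Agent.Lib.SuzType.Order
import Cfsg.Agent.Lib.SuzType.SevenSmall
import Cfsg.Agent.Lib.ZStar.Main
import Cfsg.Agent.Lib.ZStar.Consumers

/-!
# The Sylow 7-normaliser
-/

set_option autoImplicit false
set_option maxHeartbeats 400000
set_option synthInstance.maxSize 2048
set_option linter.style.haveILetI false

namespace Cfsg.Agent.SuzType

open Subgroup
open Cfsg.Agent.LargeExtraspecial (Hub)

universe v

theorem swap_fix : ∀ w v : W, inU w = true → inU v = true → swapW (add w v) = w → swapW v = v →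
    xor (q true v) (B w v) = false → xor (q true w) (B w v) = false → w = w0 ∧ v = w0 := by
  decide +kernel

variable {G : Type v} [Group G] [Finite G] {z y : G} {Q : Subgroup G}

namespace Four

variable {F : Frame z y Q} {R : Radical F} {d : Data z Q} (X : Four R d)
include X

/-- The representative of the second class. -/
local notation "u₀" => Radical.el R e4 e3 false false

theorem swap_fix_inv {e : G} (he : e ∈ R.E0 d) {s : G} (hsy : s * y * s⁻¹ = y * z) (hsz : Commute s z)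
    (hsel : ∀ w v a b, ∃ a' b', s * R.el w v a b * s⁻¹ = R.el (swapW (SuzType.add w v)) (swapW v) a' b')
    {p : G} (hp : p ∈ R.U0 d) (hp2 : p * p = 1) (hc : Commute (s * e) p) : p = 1 ∨ p = z := by
  obtain ⟨w, v, a, b, hw, hv, rfl⟩ := hp
  obtain ⟨h1, h2⟩ := pw_yz_inj d.hub F.sing
    ((R.el_sq d w v a b).symm.trans (hp2.trans (by simp)) :
      R.kk (xor (q true v) (B w v)) (xor (q true w) (B w v)) = pw y false * pw z false)
  have heD : e ∈ Dzy z y := mem_Dzy.mpr ⟨(mem_Dzy.mp (Subgroup.mem_inf.mp he).1).1,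
    mem_cz.mp (Subgroup.mem_inf.mp he).2⟩
  obtain ⟨we, ve, ae, be, hee, -, -⟩ := R.d_centralizer d heD (mem_Dzy.mp (Subgroup.mem_inf.mp he).1).2
  have h3 : s * R.el w v (xor a (cy we ve w v)) (xor b (cz we ve w v)) * s⁻¹ = R.el w v a b := by
    have h4 : e * R.el w v a b * e⁻¹ = R.el w v (xor a (cy we ve w v)) (xor b (cz we ve w v)) := by
      rw [hee, R.el_conj d, Radical.el, mul_assoc, R.kk_mul d, Radical.el]
    rw [← h4]
    calc s * (e * R.el w v a b * e⁻¹) * s⁻¹ = s * e * R.el w v a b * (s * e)⁻¹ := by group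
      _ = _ := conj_of_commute hc
  obtain ⟨a', b', h5⟩ := hsel w v (xor a (cy we ve w v)) (xor b (cz we ve w v))
  rw [h3] at h5
  obtain ⟨k1, k2, -, -⟩ := R.el_inj d h5
  obtain ⟨rfl, rfl⟩ := swap_fix w v hw hv k1.symm k2.symm h1 h2
  have hkc : Commute e (R.kk a b) := R.commute_kk d heD a b
  have h6 : s * R.kk a b * s⁻¹ = R.kk a b := by
    rw [R.el_kk d] at hc
    calc s * R.kk a b * s⁻¹ = s * (e * R.kk a b * e⁻¹) * s⁻¹ := by rw [conj_of_commute hkc]
      _ = s * e * R.kk a b * (s * e)⁻¹ := by group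
      _ = _ := conj_of_commute hc
  have h7 : s * R.kk a b * s⁻¹ = R.kk a (xor a b) := by
    calc s * R.kk a b * s⁻¹ = (s * pw y a * s⁻¹) * (s * pw z b * s⁻¹) := by rw [Radical.kk]; group
      _ = pw (y * z) a * pw z b := by rw [pw_conj hsy, conj_of_commute (pw_commute hsz b)]
      _ = _ := by cases a <;> cases b <;> simp [Radical.kk, mul_assoc, d.hub.sq]
  obtain ⟨-, hb⟩ := pw_yz_inj d.hub F.sing (h6.symm.trans h7)
  have ha : a = false := by revert hb; cases a <;> cases b <;> simp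
  subst ha
  rw [R.el_kk d, Radical.kk, pw_false, one_mul]
  cases b
  exacts [Or.inl rfl, Or.inr rfl]

theorem K_cent_two {t : X.K} (ht : t * t = 1) (ht1 : t ≠ 1) :
    IsPGroup 2 (centralizer ({t} : Set X.K)) := by
  obtain ⟨k, hk⟩ := isConj_iff.mp (X.K_inv_conj t (orderOf_inv_iff.mpr ⟨ht, ht1⟩))
  have hU : IsPGroup 2 (R.U0 d) := (R.isPGroup_E0 d).to_le (R.U0_le d)
  refine hU.of_injective
    ((((MulAut.conj (k : G)⁻¹).toMonoidHom.comp X.K.subtype).comp
      (centralizer ({t} : Set X.K)).subtype).codRestrict (R.U0 d) fun x => ?_) ?_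
  · show (k : G)⁻¹ * ((x : X.K) : G) * (k : G)⁻¹⁻¹ ∈ R.U0 d
    refine X.K_cent_z (mul_mem (mul_mem (inv_mem k.2) x.1.2) (inv_mem (inv_mem k.2))) ?_
    have hx : Commute ((x : X.K) : G) (t : G) :=
      congrArg Subtype.val (mem_centralizer_singleton_iff.mp x.2)
    have ht' : (k : G)⁻¹ * (t : G) * (k : G) = z := by
      rw [← hk]; push_cast; group
    have h := commute_conj (k : G)⁻¹ hx
    rwa [inv_inv, ht', ← inv_inv (k : G), inv_inv] at h
  · intro x x' e
    have e' : (k : G)⁻¹ * ((x : X.K) : G) * (k : G)⁻¹⁻¹ = (k : G)⁻¹ * ((x' : X.K) : G) * (k : G)⁻¹⁻¹ :=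
      congrArg Subtype.val e
    exact Subtype.ext (Subtype.ext (mul_left_cancel (mul_right_cancel e')))

/-- The normaliser and centraliser in `K`. -/
theorem K_seven {B : Subgroup G} (hB : Nat.card B = 7) (hBK : B ≤ X.K) :
    (∀ k ∈ X.K, (∀ b ∈ B, Commute k b) → k ∈ B) ∧
      Nat.card ↥(X.K ⊓ normalizer (B : Set G)) = 21 := by
  haveI := X.simple_K
  obtain ⟨h1, h2⟩ := seven_normalizer (H := X.K) X.card_K (fun t ht ht1 => X.K_cent_two ht ht1)
    (B := B.subgroupOf X.K) ((Nat.card_congr (subgroupOfEquivOfLe hBK).toEquiv).trans hB)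
  constructor
  · intro k hk hc
    have : (⟨k, hk⟩ : X.K) ∈ centralizer ((B.subgroupOf X.K : Subgroup X.K) : Set X.K) :=
      mem_centralizer_iff.mpr fun b hb => Subtype.ext (hc b (mem_subgroupOf.mp hb)).symm.eq
    rw [h1] at this
    exact mem_subgroupOf.mp this
  · rw [← h2]
    have e : normalizer ((B.subgroupOf X.K : Subgroup X.K) : Set X.K) =
        (X.K ⊓ normalizer (B : Set G)).subgroupOf X.K := by
      ext k
      rw [mem_subgroupOf, Subgroup.mem_inf, mem_normalizer_iff, mem_normalizer_iff]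
      refine ⟨fun h => ⟨k.2, fun b => ⟨fun hb => ?_, fun hb => ?_⟩⟩,
        fun h b => h.2 (b : G)⟩
      · exact (h ⟨b, hBK hb⟩).mp hb
      · have hbK : b ∈ X.K := by
          have := mul_mem (mul_mem (inv_mem k.2) (hBK hb)) k.2
          rwa [show (k : G)⁻¹ * ((k : G) * b * (k : G)⁻¹) * (k : G) = b by group] at this
        exact (h ⟨b, hbK⟩).mpr hb
    rw [e, Nat.card_congr (subgroupOfEquivOfLe inf_le_left).toEquiv]

/-- No element of `C(u) ∖ C(u,U)` centralises `B`. -/
theorem cent_mem_Dc {B : Subgroup G} (hB : Nat.card B = 7) (hBK : B ≤ X.K) {c : G}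
    (hcu : Commute c u₀) (hcB : ∀ b ∈ B, Commute c b) : c ∈ X.Dc := by
  by_contra hcD
  -- replace `c` by a 2-element
  have hDC : X.Dc ≤ centralizer ({u₀} : Set G) := inf_le_left
  have hidx : (X.Dc.subgroupOf (centralizer ({u₀} : Set G))).index = 2 := by
    have h := (X.Dc.subgroupOf (centralizer ({u₀} : Set G))).card_mul_index
    rw [Nat.card_congr (subgroupOfEquivOfLe hDC).toEquiv, X.card_Cu, X.card_Dc] at h
    omega
  obtain ⟨i, m, hm, hdec⟩ := Nat.exists_eq_two_pow_mul_odd (orderOf_pos c).ne'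
  have hcm : c ^ m ∉ X.Dc := by
    obtain ⟨j, rfl⟩ := hm
    intro h
    have h2 : c * c ∈ X.Dc := mem_subgroupOf.mp
      (Subgroup.mul_self_mem_of_index_two hidx (⟨c, mem_cz.mpr hcu⟩ : centralizer ({u₀} : Set G)))
    have h3 : (c * c) ^ j ∈ X.Dc := pow_mem h2 j
    rw [pow_succ, pow_mul, pow_two] at h
    exact hcD (by simpa using mul_mem (inv_mem h3) h)
  have hpc : (c ^ m) ^ 2 ^ i = 1 := by rw [← pow_mul, mul_comm, ← hdec, pow_orderOf_eq_one]
  have hTC : Dzy z u₀ ≤ centralizer ({u₀} : Set G) := fun t ht => mem_cz.mpr (mem_Dzy.mp ht).2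
  obtain ⟨h, hh, hh'⟩ := conj_into hTC (R.isPGroup_T d) (fun P h1 h2 h3 => R.sylow_T d h1 h2 h3)
    (zpowers_le.mpr (mem_cz.mpr (hcu.pow_left m))) (isPGroup_zpowers_of_pow hpc)
  have hhu : Commute h u₀ := mem_cz.mp hh
  set c' := h * c ^ m * h⁻¹
  have hc'T : c' ∈ Dzy z u₀ := hh' _ (mem_zpowers _)
  have hc'D : c' ∉ X.Dc := fun e => hcm (by
    have := X.Dc_conj hhu.inv_left e
    rwa [show h⁻¹ * c' * h⁻¹⁻¹ = c ^ m by simp only [c']; group] at this)
  set B' := B.map (MulAut.conj h).toMonoidHom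
  have hB' : Nat.card B' = 7 := (card_map_of_injective (MulAut.conj h).injective).trans hB
  have hB'K : B' ≤ X.K := by
    rintro _ ⟨b, hb, rfl⟩
    exact X.K_conj hhu (hBK hb)
  have hc'B : ∀ b ∈ B', Commute c' b := by
    rintro _ ⟨b, hb, rfl⟩
    exact commute_conj h ((hcB b hb).pow_left m)
  obtain ⟨s, hs, hsy, hsel⟩ := R.exists_swap d
  rcases R.T_cases d hs hsy hc'T with he | ⟨e, he, hce⟩
  · exact hc'D (X.E0_le_Dc he)
  have fix : ∀ p ∈ X.K, Commute p z → Commute c' p → p * p = 1 → p = 1 ∨ p = z := fun p hp hpz hpc hp2 =>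
    X.swap_fix_inv he hsy (mem_Dzy.mp hs).1 hsel (X.K_cent_z hp hpz) hp2 (hce ▸ hpc)
  set H := X.K ⊓ centralizer ({c'} : Set G) with hH
  have hzH : z ∈ H := Subgroup.mem_inf.mpr ⟨X.z_mem_K, mem_cz.mpr (mem_Dzy.mp hc'T).1.symm⟩
  have hB'H : B' ≤ H := fun b hb => Subgroup.mem_inf.mpr ⟨hB'K hb, mem_cz.mpr (hc'B b hb).symm⟩
  set zH : H := ⟨z, hzH⟩
  have hiso : Cfsg.IsIsolatedInvolution zH := by
    refine ⟨orderOf_inv_iff.mpr ⟨Subtype.ext d.hub.sq, fun e => d.hub.ne_one (congrArg Subtype.val e)⟩,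
      fun g hg => ?_⟩
    have hgz : Commute z ((g : G) * z * (g : G)⁻¹) := congrArg Subtype.val hg.eq
    obtain ⟨hgK, hgc⟩ := Subgroup.mem_inf.mp (g * zH * g⁻¹).2
    rcases fix ((g : G) * z * (g : G)⁻¹) hgK hgz.symm (mem_cz.mp hgc).symm (conj_sq d.hub.sq) with e | e
    · exact absurd (conj_eq_one_iff.mp e) d.hub.ne_one
    · exact Subtype.ext e
  have hO := ZStar.commutator_mem_oddCore (ZStar.inZStar hiso)
  set O := Cfsg.oddCore H
  haveI : O.Normal := PCore.oddCore_normal
  have hOo : Odd (Nat.card O) := PCore.odd_card_oddCore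
  set BH := B'.subgroupOf H
  have hBH : Nat.card BH = 7 := (Nat.card_congr (subgroupOfEquivOfLe hB'H).toEquiv).trans hB'
  set M := BH ⊔ O
  have hMo : Odd (Nat.card M) := by
    have h1 := Subgroup.card_mul_index (O.subgroupOf M)
    rw [Nat.card_congr (subgroupOfEquivOfLe le_sup_right).toEquiv] at h1
    rw [← h1]
    refine hOo.mul ?_
    haveI : Fact (Nat.Prime 7) := ⟨by norm_num⟩
    have h2 : (O.subgroupOf M).index ∣ 7 := by
      rw [← hBH]
      exact relIndex_dvd_of_le_aux BH O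
    rcases (Nat.dvd_prime (by norm_num)).mp h2 with e | e <;> rw [e] <;> decide
  haveI : Fact (Nat.Prime 7) := ⟨by norm_num⟩
  have hnormM : ∀ x ∈ M, zH * x * zH⁻¹ ∈ M := by
    intro x hx
    have := mul_mem (Subgroup.mem_sup_right (hO x) : _ ∈ M) hx
    rwa [inv_mul_cancel_right] at this
  have h49 : ¬ 7 ^ 2 ∣ Nat.card M := fun h => by
    have h1 : Nat.card M ∣ 20160 := by
      refine (Subgroup.card_subgroup_dvd_card M).trans ?_
      rw [← X.card_K]
      exact Subgroup.card_dvd_of_le inf_le_left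
    exact absurd (h.trans h1) (by norm_num)
  let P : Sylow 7 M := Sylow.ofCard (BH.subgroupOf M) (by
    rw [Nat.card_congr (subgroupOfEquivOfLe le_sup_left).toEquiv, hBH]
    have h1 : 1 ≤ (Nat.card M).factorization 7 :=
      (Nat.Prime.dvd_iff_one_le_factorization (by norm_num) Nat.card_pos.ne').mp
        (hBH ▸ Subgroup.card_dvd_of_le (le_sup_left : BH ≤ M))
    have h2 : ¬ 2 ≤ (Nat.card M).factorization 7 := fun h =>
      h49 ((Nat.Prime.pow_dvd_iff_le_factorization (by norm_num) Nat.card_pos.ne').mpr h)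
    rw [show (Nat.card M).factorization 7 = 1 by omega, pow_one])
  set BH2 := BH.map (MulAut.conj zH).toMonoidHom
  have hBH2M : BH2 ≤ M := by
    rintro _ ⟨b, hb, rfl⟩
    exact hnormM b (Subgroup.mem_sup_left hb)
  let P' : Sylow 7 M := Sylow.ofCard (BH2.subgroupOf M) (by
    rw [Nat.card_congr (subgroupOfEquivOfLe hBH2M).toEquiv, card_map_of_injective (MulAut.conj zH).injective,
      ← Nat.card_congr (subgroupOfEquivOfLe (le_sup_left : BH ≤ M)).toEquiv]
    exact P.card_eq_multiplicity)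
  obtain ⟨μ, hμ⟩ := MulAction.exists_smul_eq M P P'
  set g : H := (μ : H)⁻¹ * zH
  have hgN : ∀ b ∈ BH, g * b * g⁻¹ ∈ BH := by
    intro b hb
    have h1 : (⟨zH * b * zH⁻¹, hBH2M ⟨b, hb, rfl⟩⟩ : M) ∈ (P' : Subgroup M) :=
      mem_subgroupOf.mpr ⟨b, hb, rfl⟩
    rw [← hμ, Sylow.coe_subgroup_smul, Subgroup.mem_pointwise_smul_iff_inv_smul_mem] at h1
    have h2 := mem_subgroupOf.mp h1
    simpa [g, MulAut.smul_def, mul_assoc] using h2
  have hgeven : 2 ∣ orderOf g := by
    by_contra hn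
    obtain ⟨j, hj⟩ : Odd (orderOf g) := by rwa [← Nat.not_even_iff_odd, even_iff_two_dvd]
    have hzz : zH * zH = 1 := Subtype.ext d.hub.sq
    have hstep : g * g ∈ M := by
      have h3 : zH * (μ : H)⁻¹ * zH⁻¹ ∈ M := hnormM _ (inv_mem μ.2)
      have : g * g = (μ : H)⁻¹ * (zH * (μ : H)⁻¹ * zH⁻¹) * (zH * zH) := by simp only [g]; group
      rw [this, hzz, mul_one]
      exact mul_mem (inv_mem μ.2) h3
    have h1 : g ∈ M := by
      have := pow_orderOf_eq_one g
      rw [hj, pow_succ, pow_mul, pow_two] at this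
      rw [eq_inv_of_mul_eq_one_right this]
      exact inv_mem (pow_mem hstep j)
    have h2 : zH ∈ M := by
      have := mul_mem μ.2 h1
      rwa [mul_inv_cancel_left] at this
    have h3 := Subgroup.orderOf_dvd_natCard M h2
    rw [hiso.1] at h3
    exact Nat.not_even_iff_odd.mpr hMo (even_iff_two_dvd.mpr h3)
  have hgn : (g : G) ∈ X.K ⊓ normalizer (B' : Set G) := by
    refine Subgroup.mem_inf.mpr ⟨(Subgroup.mem_inf.mp g.2).1, normalizer_of_map_le_aux fun b hb => ?_⟩
    obtain ⟨b₀, hb₀, rfl⟩ := hb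
    exact mem_subgroupOf.mp (hgN ⟨b₀, hB'H hb₀⟩ (mem_subgroupOf.mpr hb₀))
  have h21 := Subgroup.orderOf_dvd_natCard _ hgn
  rw [(X.K_seven hB' hB'K).2, Subgroup.orderOf_coe] at h21
  exact absurd (hgeven.trans h21) (by norm_num)
where
  normalizer_of_map_le_aux {g : G} {B : Subgroup G}
      (h : B.map (MulAut.conj g).toMonoidHom ≤ B) : g ∈ normalizer (B : Set G) := by
    have he := Subgroup.eq_of_le_of_card_ge h
      (le_of_eq (card_map_of_injective (MulAut.conj g).injective).symm)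
    refine mem_normalizer_iff.mpr fun x => ⟨fun hx => h ⟨x, hx, rfl⟩, fun hx => ?_⟩
    rw [← he] at hx
    obtain ⟨b, hb, e⟩ := hx
    rwa [(MulAut.conj g).injective e] at hb
  relIndex_dvd_of_le_aux {H : Type v} [Group H] [Finite H] (B O : Subgroup H) [O.Normal] :
      (O.subgroupOf (B ⊔ O)).index ∣ Nat.card B := by
    let f : B →* ↥(B ⊔ O) ⧸ O.subgroupOf (B ⊔ O) :=
      (QuotientGroup.mk' _).comp (Subgroup.inclusion le_sup_left)
    refine Subgroup.card_dvd_of_surjective f fun p => ?_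
    induction p using QuotientGroup.induction_on with
    | H x =>
      obtain ⟨b, hb, o, ho, e⟩ := mem_sup_of_normal_right.mp x.2
      refine ⟨⟨b, hb⟩, QuotientGroup.eq.mpr (mem_subgroupOf.mpr ?_)⟩
      show b⁻¹ * (x : H) ∈ O
      rw [← e, inv_mul_cancel_left]
      exact ho

/-- Elements of order dividing seven in `C(u)` lie in `K`. -/
theorem pow_seven_mem {b : G} (hbu : Commute b u₀) (h7 : b ^ 7 = 1) : b ∈ X.K := by
  have hDC : X.Dc ≤ centralizer ({u₀} : Set G) := inf_le_left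
  have hidx : (X.Dc.subgroupOf (centralizer ({u₀} : Set G))).index = 2 := by
    have h := (X.Dc.subgroupOf (centralizer ({u₀} : Set G))).card_mul_index
    rw [Nat.card_congr (subgroupOfEquivOfLe hDC).toEquiv, X.card_Cu, X.card_Dc] at h
    omega
  have h2 : b * b ∈ X.Dc := mem_subgroupOf.mp
    (Subgroup.mul_self_mem_of_index_two hidx (⟨b, mem_cz.mpr hbu⟩ : centralizer ({u₀} : Set G)))
  have hb8 : b ^ 8 = b := by rw [pow_succ, h7, one_mul]
  have hbD : b ∈ X.Dc := by
    rw [← hb8, show (8 : ℕ) = 2 * 4 from rfl, pow_mul, pow_two]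
    exact pow_mem h2 4
  obtain ⟨e, he, k, hk, rfl⟩ := X.decomp hbD
  have hc : Commute e k := (X.E_cent he (X.K_le hk)).symm
  obtain ⟨hu2, -⟩ := R.u_facts d
  have he2 : e * e = 1 := by
    rcases X.mem_E.mp he with rfl | rfl | rfl | rfl
    · exact one_mul 1
    · exact hu2
    · exact X.U_facts.2.1
    · rw [(X.U_u).mul_mul_mul_comm, hu2, X.U_facts.2.1, one_mul]
  rw [← hb8, hc.mul_pow, show (8 : ℕ) = 2 * 4 from rfl, pow_mul, pow_two, he2, one_pow, one_mul]
  exact pow_mem hk _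

/-- `C(B) ∩ C(u) = E × B`. -/
theorem cent_cap {B : Subgroup G} (hB : Nat.card B = 7) (hBK : B ≤ X.K) :
    Nat.card ↥(centralizer (B : Set G) ⊓ centralizer ({u₀} : Set G)) = 28 ∧
      ∀ a ∈ centralizer (B : Set G) ⊓ centralizer ({u₀} : Set G), ∃ e ∈ X.E, ∃ b ∈ B, a = e * b := by
  have hsplit : ∀ a ∈ centralizer (B : Set G) ⊓ centralizer ({u₀} : Set G),
      ∃ e ∈ X.E, ∃ b ∈ B, a = e * b := by
    intro a ha
    obtain ⟨haB, hau⟩ := Subgroup.mem_inf.mp ha
    have hc : ∀ b ∈ B, Commute a b := fun b hb => (mem_centralizer_iff.mp haB b hb).symm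
    obtain ⟨e, he, k, hk, rfl⟩ := X.decomp (X.cent_mem_Dc hB hBK (mem_cz.mp hau) hc)
    refine ⟨e, he, k, (X.K_seven hB hBK).1 k hk fun b hb => ?_, rfl⟩
    have h1 : Commute e b := (X.E_cent he (X.K_le (hBK hb))).symm
    have := h1.inv_left.mul_left (hc b hb)
    rwa [inv_mul_cancel_left] at this
  refine ⟨?_, hsplit⟩
  have hBcomm : ∀ a ∈ B, ∀ b ∈ B, Commute a b := by
    haveI : Fact (Nat.Prime 7) := ⟨by norm_num⟩
    haveI : IsCyclic B := isCyclic_of_prime_card hB
    intro a ha b hb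
    exact congrArg Subtype.val ((IsCyclic.commGroup (α := B)).mul_comm ⟨a, ha⟩ ⟨b, hb⟩)
  rw [← Nat.card_congr (Equiv.ofBijective (fun p : X.E × B =>
    (⟨(p.1 : G) * (p.2 : G), Subgroup.mem_inf.mpr ⟨mem_centralizer_iff.mpr fun b hb =>
      (((X.E_cent p.1.2 (X.K_le (hBK hb))).mul_right (hBcomm b hb _ p.2.2))).eq,
      mem_cz.mpr (Commute.mul_left (X.mem_Dc.mp (X.E0_le_Dc (X.E_le_E0 p.1.2))).1
        (X.mem_Dc.mp (X.K_le (hBK p.2.2))).1)⟩⟩ :
      ↥(centralizer (B : Set G) ⊓ centralizer ({u₀} : Set G)))) ⟨?_, ?_⟩), Nat.card_prod, X.card_E, hB]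
  · intro p p' h
    have h' : (p.1 : G) * p.2 = p'.1 * p'.2 := congrArg Subtype.val h
    have h1 : ((p'.1 : G))⁻¹ * p.1 = p'.2 * (p.2 : G)⁻¹ := by
      rw [eq_mul_inv_iff_mul_eq, mul_assoc, h', inv_mul_cancel_left]
    have h2 := X.K_inf_E (hBK (mul_mem p'.2.2 (inv_mem p.2.2))) (h1 ▸ mul_mem (inv_mem p'.1.2) p.1.2)
    rw [h2] at h1
    exact Prod.ext (Subtype.ext (inv_mul_eq_one.mp h1).symm) (Subtype.ext (mul_inv_eq_one.mp h2).symm)
  · rintro ⟨a, ha⟩
    obtain ⟨e, he, b, hb, rfl⟩ := hsplit a ha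
    exact ⟨(⟨e, he⟩, ⟨b, hb⟩), rfl⟩

/-- The subgroup `N(B) ∩ C(u)` is large. -/
theorem card_norm_cap {B : Subgroup G} (hB : Nat.card B = 7) (hBK : B ≤ X.K) :
    168 ≤ Nat.card ↥(normalizer (B : Set G) ⊓ centralizer ({u₀} : Set G)) := by
  haveI : Fact (Nat.Prime 7) := ⟨by norm_num⟩
  set C := centralizer ({u₀} : Set G)
  set N := normalizer (B : Set G) ⊓ C
  have hKC : X.K ≤ C := fun k hk => mem_cz.mpr (X.mem_Dc.mp (X.K_le hk)).1
  -- Frattini
  have hfr : ∀ c ∈ C, ∃ k ∈ X.K, k⁻¹ * c ∈ N := by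
    intro c hc
    set B2 := B.map (MulAut.conj c).toMonoidHom
    have hB2K : B2 ≤ X.K := by
      rintro _ ⟨b, hb, rfl⟩
      exact X.K_conj (mem_cz.mp hc) (hBK hb)
    have hmult : ∀ B' : Subgroup G, Nat.card B' = 7 → B' ≤ X.K →
        Nat.card (B'.subgroupOf X.K) = 7 ^ (Nat.card X.K).factorization 7 := by
      intro B' h hle
      rw [Nat.card_congr (subgroupOfEquivOfLe hle).toEquiv, h, X.card_K,
        show (20160 : ℕ) = 7 * 2880 by norm_num, Nat.factorization_mul (by norm_num) (by norm_num),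
        Finsupp.add_apply, Nat.Prime.factorization_self (by norm_num),
        Nat.factorization_eq_zero_of_not_dvd (by norm_num), Nat.add_zero, pow_one]
    obtain ⟨k, hk⟩ := MulAction.exists_smul_eq X.K (Sylow.ofCard _ (hmult B hB hBK) : Sylow 7 X.K)
      (Sylow.ofCard _ (hmult B2 ((card_map_of_injective (MulAut.conj c).injective).trans hB) hB2K))
    refine ⟨k, k.2, Subgroup.mem_inf.mpr ⟨cent_mem_Dc.normalizer_of_map_le_aux fun b hb => ?_,
      mul_mem (inv_mem (hKC k.2)) hc⟩⟩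
    obtain ⟨b, hb, rfl⟩ := hb
    have h1 : (⟨c * b * c⁻¹, hB2K ⟨b, hb, rfl⟩⟩ : X.K) ∈
        ((Sylow.ofCard _ (hmult B2 ((card_map_of_injective (MulAut.conj c).injective).trans hB) hB2K) :
          Sylow 7 X.K) : Subgroup X.K) := mem_subgroupOf.mpr ⟨b, hb, rfl⟩
    rw [← hk, Sylow.coe_subgroup_smul, Subgroup.mem_pointwise_smul_iff_inv_smul_mem] at h1
    have h2 := mem_subgroupOf.mp h1
    simpa [MulAut.smul_def, mul_assoc] using h2
  choose k hk hkN using hfr
  let f : C → (X.K ⧸ N.subgroupOf X.K) × N := fun c =>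
    (QuotientGroup.mk ⟨k c c.2, hk c c.2⟩,
      ⟨(((QuotientGroup.mk ⟨k c c.2, hk c c.2⟩ : X.K ⧸ N.subgroupOf X.K).out : X.K) : G)⁻¹ * c, by
        have h1 := mem_subgroupOf.mp (QuotientGroup.eq.mp
          (QuotientGroup.out_eq' (QuotientGroup.mk ⟨k c c.2, hk c c.2⟩ : X.K ⧸ N.subgroupOf X.K)))
        have := mul_mem h1 (hkN c c.2)
        simpa [mul_assoc] using this⟩)
  have hf : Function.Injective f := by
    intro c c' h
    obtain ⟨h1, h2⟩ := Prod.ext_iff.mp h
    have h2' := congrArg Subtype.val h2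
    simp only [f] at h1 h2'
    rw [h1] at h2'
    exact Subtype.ext (mul_left_cancel h2')
  have h := Nat.card_le_card_of_injective f hf
  rw [X.card_Cu, Nat.card_prod] at h
  have h21 : Nat.card (N.subgroupOf X.K) = 21 := by
    rw [← (X.K_seven hB hBK).2, ← Nat.card_congr (subgroupOfEquivOfLe
      (inf_le_left : X.K ⊓ normalizer (B : Set G) ≤ X.K)).toEquiv]
    refine Nat.card_congr (MulEquiv.subgroupCongr ?_).toEquiv
    ext x
    simp only [mem_subgroupOf, N, Subgroup.mem_inf]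
    exact ⟨fun h => ⟨x.2, h.1⟩, fun h => ⟨h.2, hKC x.2⟩⟩
  have hq := Subgroup.card_eq_card_quotient_mul_card_subgroup (N.subgroupOf X.K)
  rw [h21, X.card_K] at hq
  rw [show Nat.card (X.K ⧸ N.subgroupOf X.K) = 960 by omega] at h
  omega

/-- The centraliser and normaliser of a subgroup of order seven in `K`. -/
theorem seven_structure {B : Subgroup G} (hB : Nat.card B = 7) (hBK : B ≤ X.K) :
    Nonempty (↥(centralizer (B : Set G)) ≃* Multiplicative (ZMod 7) × alternatingGroup (Fin 4)) ∧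
      Nat.card ↥(normalizer (B : Set G)) = 504 := by
  classical
  haveI : Fact (Nat.Prime 7) := ⟨by norm_num⟩
  haveI : Fact (Nat.Prime 2) := ⟨Nat.prime_two⟩
  obtain ⟨hu2, hu1, -, -, -⟩ := R.u_facts d
  haveI : IsCyclic B := isCyclic_of_prime_card hB
  set L := centralizer (B : Set G)
  have hBL : B ≤ L := fun b hb => mem_centralizer_iff.mpr fun a ha =>
    congrArg Subtype.val ((IsCyclic.commGroup (α := B)).mul_comm ⟨a, ha⟩ ⟨b, hb⟩)
  have hb7 : ∀ b ∈ B, b ^ 7 = 1 := fun b hb =>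
    orderOf_dvd_iff_pow_eq_one.mp (hB ▸ Subgroup.orderOf_dvd_natCard B hb)
  have hBL' : ∀ b ∈ B, ∀ x ∈ L, Commute b x := fun b hb x hx => mem_centralizer_iff.mp hx b hb
  -- involutions of `C(B)`
  have hinv : ∀ t ∈ L, t * t = 1 → t ≠ 1 → Nat.card ↥(L ⊓ centralizer ({t} : Set G)) = 28 := by
    intro t ht ht2 ht1
    rcases R.all_classes d ht2 ht1 with hz | hu
    · exfalso
      obtain ⟨g, rfl⟩ := isConj_iff.mp hz
      have hle : B.map (MulAut.conj g⁻¹).toMonoidHom ≤ centralizer ({z} : Set G) := by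
        rintro _ ⟨b, hb, rfl⟩
        refine mem_cz.mpr ?_
        have := commute_conj g⁻¹ (hBL' b hb _ ht)
        rwa [show g⁻¹ * (g * z * g⁻¹) * g⁻¹⁻¹ = z by group] at this
      have := Subgroup.card_dvd_of_le hle
      rw [card_map_of_injective (MulAut.conj g⁻¹).injective, hB, d.cardC] at this
      exact absurd this (by norm_num)
    obtain ⟨g, rfl⟩ := isConj_iff.mp hu
    set B1 := B.map (MulAut.conj g⁻¹).toMonoidHom
    have hB1 : Nat.card B1 = 7 := (card_map_of_injective (MulAut.conj g⁻¹).injective).trans hB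
    have hB1K : B1 ≤ X.K := by
      rintro _ ⟨b, hb, rfl⟩
      refine X.pow_seven_mem ?_ ?_
      · have := commute_conj g⁻¹ (hBL' b hb _ ht)
        rwa [show g⁻¹ * (g * u₀ * g⁻¹) * g⁻¹⁻¹ = u₀ by group] at this
      · show (g⁻¹ * b * g⁻¹⁻¹) ^ 7 = 1
        rw [conj_pow, hb7 b hb, mul_one, mul_inv_cancel]
    rw [← (X.cent_cap hB1 hB1K).1]
    refine Nat.card_congr (Equiv.subtypeEquiv (MulAut.conj g⁻¹).toEquiv fun a => ?_)
    show a ∈ L ⊓ _ ↔ g⁻¹ * a * g⁻¹⁻¹ ∈ centralizer (B1 : Set G) ⊓ _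
    rw [Subgroup.mem_inf, Subgroup.mem_inf, mem_cz, mem_cz]
    refine and_congr ⟨fun ha => mem_centralizer_iff.mpr ?_, fun ha => mem_centralizer_iff.mpr fun b hb => ?_⟩
      ⟨fun h => ?_, fun h => ?_⟩
    · rintro _ ⟨b, hb, rfl⟩
      exact (commute_conj g⁻¹ (hBL' b hb a ha)).eq
    · have h1 : Commute (g⁻¹ * b * g⁻¹⁻¹) (g⁻¹ * a * g⁻¹⁻¹) :=
        mem_centralizer_iff.mp ha _ ⟨b, hb, rfl⟩
      have := commute_conj g h1
      simpa [mul_assoc] using this.eq
    · have := commute_conj g⁻¹ h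
      rwa [show g⁻¹ * (g * u₀ * g⁻¹) * g⁻¹⁻¹ = u₀ by group] at this
    · have := commute_conj g h
      simpa [mul_assoc] using this
  set BL := B.subgroupOf L
  haveI : BL.Normal := ⟨fun b hb x => by
    rwa [show x * b * x⁻¹ = b from mul_inv_eq_iff_eq_mul.mpr
      (Subtype.ext (hBL' b (mem_subgroupOf.mp hb) x x.2).eq.symm)]⟩
  have hBLc : Nat.card BL = 7 := (Nat.card_congr (subgroupOfEquivOfLe hBL).toEquiv).trans hB
  let π : L →* ↥L ⧸ BL := QuotientGroup.mk' BL
  have hcentM : ∀ t : L, t * t = 1 → t ≠ 1 → Nat.card (centralizer ({π t} : Set (↥L ⧸ BL))) = 4 := by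
    intro t ht ht1
    have hpre : (centralizer ({π t} : Set (↥L ⧸ BL))).comap π =
        ((L ⊓ centralizer ({(t : G)} : Set G)).subgroupOf L) := by
      ext x
      rw [mem_comap, mem_centralizer_singleton_iff, mem_subgroupOf, Subgroup.mem_inf, mem_cz]
      constructor
      · intro h
        refine ⟨x.2, ?_⟩
        rw [← map_mul, ← map_mul] at h
        have h1 : (x * t)⁻¹ * (t * x) ∈ BL := QuotientGroup.eq.mp h
        set β := (x * t)⁻¹ * (t * x)
        have h2 : β * β = β ^ 2 := (pow_two β).symm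
        have hβt : Commute (β : G) t := hBL' _ (mem_subgroupOf.mp h1) _ t.2
        -- an element of order seven that is inverted by a central conjugation
        have e1 : t * x = x * t * β := by simp only [β]; group
        have e2 : x = x * (β * β) := by
          calc x = t * t * x := by rw [ht, one_mul]
            _ = t * x * t * β :=
              (mul_assoc t t x).trans ((congrArg (t * ·) e1).trans (by group))
            _ = x * t * (β * t) * β :=
              congrArg (· * β) ((congrArg (· * t) e1).trans (mul_assoc (x * t) β t))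
            _ = x * (t * t) * (β * β) := by rw [(show β * t = t * β from Subtype.ext hβt.eq)]; group
            _ = _ := by rw [ht, mul_one]
        have e3 : (β : G) ^ 2 = 1 := by
          rw [pow_two]; exact congrArg Subtype.val (mul_eq_left.mp e2.symm)
        have e4 : (β : G) = 1 := by
          have h7 := hb7 _ (mem_subgroupOf.mp h1)
          rwa [show (7 : ℕ) = 2 * 3 + 1 from rfl, pow_succ, pow_mul, e3, one_pow, one_mul] at h7
        have : β = 1 := Subtype.ext e4
        rw [this, mul_one] at e1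
        exact (congrArg Subtype.val e1).symm
      · rintro ⟨-, h⟩
        rw [← map_mul, ← map_mul]
        exact congrArg π (Subtype.ext h.eq)
    have h1 : Nat.card ((centralizer ({π t} : Set (↥L ⧸ BL))).comap π) = 28 := by
      rw [hpre, Nat.card_congr (subgroupOfEquivOfLe inf_le_left).toEquiv]
      exact hinv t t.2 (congrArg Subtype.val ht) fun e => ht1 (Subtype.ext e)
    have hs : Function.Surjective (π.subgroupComap (centralizer ({π t} : Set (↥L ⧸ BL)))) := by
      rintro ⟨q, hq⟩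
      obtain ⟨x, rfl⟩ := QuotientGroup.mk'_surjective BL q
      exact ⟨⟨x, hq⟩, rfl⟩
    have h2 := Subgroup.card_eq_card_quotient_mul_card_subgroup
      (π.subgroupComap (centralizer ({π t} : Set (↥L ⧸ BL)))).ker
    rw [Nat.card_congr (QuotientGroup.quotientKerEquivOfSurjective _ hs).toEquiv, h1] at h2
    have h3 : Nat.card (π.subgroupComap (centralizer ({π t} : Set (↥L ⧸ BL)))).ker = 7 := by
      rw [← hBLc]
      refine Nat.card_congr ⟨fun x => ⟨x.1.1, ?_⟩, fun x => ⟨⟨x.1, ?_⟩, ?_⟩, fun x => rfl, fun x => rfl⟩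
      · exact (QuotientGroup.eq_one_iff _).mp (congrArg Subtype.val x.2)
      · rw [mem_comap, show π x.1 = 1 from (QuotientGroup.eq_one_iff _).mpr x.2]
        exact one_mem _
      · exact Subtype.ext ((QuotientGroup.eq_one_iff _).mpr x.2)
    rw [h3] at h2
    omega
  have hEL : ∀ e ∈ X.E, e ∈ L := fun e he =>
    mem_centralizer_iff.mpr fun b hb => (X.E_cent he (X.K_le (hBK hb))).eq
  set uL : L := ⟨u₀, hEL _ X.u_mem_E⟩
  set UL : L := ⟨X.U, hEL _ X.U_mem_E⟩
  have huU : Commute uL UL := Subtype.ext X.U_u.symm.eq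
  have huL2 : uL * uL = 1 := Subtype.ext hu2
  have hUL2 : UL * UL = 1 := Subtype.ext X.U_facts.2.1
  obtain ⟨n1, n2, n3, n4⟩ := X.U_ne
  have hnB : ∀ e : L, (e : G) ∈ X.E → e ≠ 1 → π e ≠ 1 := fun e he he1 h => he1 (Subtype.ext
    (X.K_inf_E (hBK (mem_subgroupOf.mp ((QuotientGroup.eq_one_iff _).mp h))) he))
  have hu' : π uL ≠ 1 := hnB _ X.u_mem_E fun e => hu1 (congrArg Subtype.val e)
  have hU' : π UL ≠ 1 := hnB _ X.U_mem_E fun e => n1 (congrArg Subtype.val e)
  have huU' : π uL ≠ π UL := fun h => hnB (uL * UL) (mul_mem X.u_mem_E X.U_mem_E)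
    (fun e => n4 (congrArg Subtype.val e)) (by rw [map_mul, h, ← map_mul, hUL2, map_one])
  have hM := four_self_centralizing (M := ↥L ⧸ BL) (a := π uL) (b := π UL)
    (by rw [← map_mul, huL2, map_one]) (by rw [← map_mul, hUL2, map_one]) hu' hU' huU'
    (huU.map π) (by
      rintro w (rfl | rfl | rfl)
      · exact hcentM uL huL2 fun e => hu' (by rw [e, map_one])
      · exact hcentM UL hUL2 fun e => hU' (by rw [e, map_one])
      · rw [← map_mul]
        exact hcentM _ (by rw [huU.symm.mul_mul_mul_comm, huL2, hUL2, one_mul])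
          fun e => n4 (congrArg Subtype.val e))
  have hLm : Nat.card L = Nat.card (↥L ⧸ BL) * 7 := by
    rw [Subgroup.card_eq_card_quotient_mul_card_subgroup BL, hBLc]
  -- `N/C` has order six
  obtain ⟨k, hk, hNk⟩ := card_normalizer_prime hB
  have hLN : L ≤ normalizer (B : Set G) := centralizer_le_normalizer _
  have hk6 : k = 6 := by
    set N := normalizer (B : Set G) ⊓ centralizer ({u₀} : Set G)
    have h168 : 168 ≤ Nat.card N := X.card_norm_cap hB hBK
    have hcap : Nat.card ↥(L.subgroupOf N) = 28 := by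
      rw [← (X.cent_cap hB hBK).1]
      exact Nat.card_congr
        ⟨fun x => ⟨((x : N) : G), Subgroup.mem_inf.mpr ⟨mem_subgroupOf.mp x.2, (Subgroup.mem_inf.mp (x : N).2).2⟩⟩,
          fun x => ⟨⟨x.1, Subgroup.mem_inf.mpr ⟨hLN (Subgroup.mem_inf.mp x.2).1, (Subgroup.mem_inf.mp x.2).2⟩⟩,
            mem_subgroupOf.mpr (Subgroup.mem_inf.mp x.2).1⟩,
          fun x => Subtype.ext (Subtype.ext rfl), fun x => Subtype.ext rfl⟩
    have hidx : (L.subgroupOf (normalizer (B : Set G))).index = k := by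
      have h := (L.subgroupOf (normalizer (B : Set G))).card_mul_index
      rw [Nat.card_congr (subgroupOfEquivOfLe hLN).toEquiv, hNk] at h
      exact Nat.eq_of_mul_eq_mul_left Nat.card_pos h
    have hle : L.relIndex N ≤ L.relIndex (normalizer (B : Set G)) :=
      Subgroup.relIndex_le_of_le_right inf_le_left Subgroup.index_ne_zero_of_finite
    have hN := (L.subgroupOf N).card_mul_index
    rw [hcap] at hN
    change (L.subgroupOf N).index ≤ (L.subgroupOf (normalizer (B : Set G))).index at hle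
    rw [hidx] at hle
    have := Nat.le_of_dvd (by norm_num) hk
    omega
  subst hk6
  -- congruence
  have h7 : (Nat.card G).factorization 7 = 1 := by
    rw [R.card_G d, show (448345497600 : ℕ) = 7 * 64049356800 by norm_num,
      Nat.factorization_mul (by norm_num) (by norm_num), Finsupp.add_apply,
      Nat.Prime.factorization_self (by norm_num), Nat.factorization_eq_zero_of_not_dvd (by norm_num)]
  obtain ⟨n, hn1, hn⟩ := sylow_mod 7 (Sylow.ofCard B (by rw [hB, h7, pow_one]) : Sylow 7 G)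
  change n * Nat.card (normalizer (B : Set G)) = Nat.card G at hn
  rw [R.card_G d] at hn
  rw [hNk, hLm] at hn
  rcases hM with h | h | ⟨h, ⟨eA⟩⟩
  · rw [h] at hn; exfalso; omega
  · rw [h] at hn; exfalso; omega
  refine ⟨?_, by rw [hNk, hLm, h]⟩
  obtain ⟨W, hW⟩ := exists_right_complement'_of_coprime (N := BL) (by
    rw [hBLc, Subgroup.index_eq_card, h]; norm_num)
  let φ : BL × W →* L :=
    { toFun := fun p => (p.1 : L) * (p.2 : L)
      map_one' := one_mul 1
      map_mul' := fun p q => by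
        have hc : Commute (q.1 : L) (p.2 : L) :=
          Subtype.ext (hBL' _ (mem_subgroupOf.mp q.1.2) _ (p.2 : L).2).eq
        show (p.1 : L) * q.1 * ((p.2 : L) * q.2) = p.1 * p.2 * (q.1 * q.2)
        exact hc.mul_mul_mul_comm _ _ }
  have hφ : Function.Bijective φ := hW
  let e1 : Multiplicative (ZMod 7) ≃* BL :=
    haveI : IsCyclic BL := isCyclic_of_prime_card hBLc
    mulEquivOfCyclicCardEq (by rw [hBLc]; simp)
  let e2 : W ≃* ↥L ⧸ BL := (Subgroup.IsComplement'.symm hW).QuotientMulEquiv.symm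
  exact ⟨(MulEquiv.ofBijective φ hφ).symm.trans (MulEquiv.prodCongr e1.symm (e2.trans eA))⟩

end Four

/-- **The Sylow 7-normaliser.** -/
theorem Data.seven (d : Data z Q) (P : Sylow 7 G) :
    Nonempty (↥(centralizer ((P : Subgroup G) : Set G)) ≃* Multiplicative (ZMod 7) × alternatingGroup (Fin 4)) ∧
      Nat.card ↥(normalizer ((P : Subgroup G) : Set G)) = 504 := by
  haveI : Fact (Nat.Prime 7) := ⟨by norm_num⟩
  obtain ⟨g, hgQ, hgz⟩ := d.out
  obtain ⟨F⟩ := exists_frame d (⟨hgQ, conj_sq d.hub.sq, fun e => d.hub.ne_one (by simpa using e), hgz⟩ :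
    Sing z Q (g * z * g⁻¹))
  obtain ⟨R⟩ := exists_radical F d rfl
  obtain ⟨X⟩ := R.exists_Four d
  obtain ⟨b, hb⟩ := exists_prime_orderOf_dvd_card' (G := X.K) 7 (by rw [X.card_K]; norm_num)
  have hB : Nat.card (zpowers (b : G)) = 7 := by rw [Nat.card_zpowers, Subgroup.orderOf_coe, hb]
  have h7 : (Nat.card G).factorization 7 = 1 := by
    rw [R.card_G d, show (448345497600 : ℕ) = 7 * 64049356800 by norm_num,
      Nat.factorization_mul (by norm_num) (by norm_num), Finsupp.add_apply,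
      Nat.Prime.factorization_self (by norm_num), Nat.factorization_eq_zero_of_not_dvd (by norm_num)]
  obtain ⟨k, rfl⟩ := MulAction.exists_smul_eq G
    (Sylow.ofCard (zpowers (b : G)) (by rw [hB, h7, pow_one]) : Sylow 7 G) P
  obtain ⟨⟨e⟩, hN⟩ := X.seven_structure hB (zpowers_le.mpr b.2)
  have hmap : ((k • (Sylow.ofCard (zpowers (b : G)) (by rw [hB, h7, pow_one]) : Sylow 7 G) : Sylow 7 G) :
      Subgroup G) = (zpowers (b : G)).map (MulAut.conj k).toMonoidHom := rfl
  rw [hmap]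
  set B := zpowers (b : G)
  have hC : (centralizer (B : Set G)).map (MulAut.conj k).toMonoidHom =
      centralizer ((B.map (MulAut.conj k).toMonoidHom : Subgroup G) : Set G) := by
    rw [Subgroup.coe_map]
    exact map_centralizer_eq _ (MulAut.conj k)
  have hNe : (normalizer (B : Set G)).map (MulAut.conj k).toMonoidHom =
      normalizer ((B.map (MulAut.conj k).toMonoidHom : Subgroup G) : Set G) :=
    map_equiv_normalizer_eq B (MulAut.conj k)
  refine ⟨⟨((MulEquiv.subgroupCongr hC.symm).trans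
    ((centralizer (B : Set G)).equivMapOfInjective _ (MulAut.conj k).injective).symm).trans e⟩, ?_⟩
  rw [← hNe, card_map_of_injective (MulAut.conj k).injective, hN]
where
  map_centralizer_eq (S : Set G) (f : G ≃* G) (_ : Unit := ()) :
      (centralizer S).map f.toMonoidHom = centralizer (f.toMonoidHom '' S) := by
    ext x
    rw [mem_map_equiv, mem_centralizer_iff, mem_centralizer_iff]
    constructor
    · rintro h _ ⟨s, hs, rfl⟩
      have := congrArg f (h s hs)
      simpa using this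
    · intro h s hs
      apply f.injective
      simpa using h _ ⟨s, hs, rfl⟩

end Cfsg.Agent.SuzType
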