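import Cfsg.Agent.Lib.SuzType.UFactor

/-!
# The second class: the complement `K` of `E` in `C(u, U)`

By transfer to `E0/U0 ≅ E`: `K` is simple of order `20160`, normal in `C(u)`, and contains every
conjugate of `z` in `C(u)`; `|C(u)| = 161280`.
-/

set_option autoImplicit false
set_option maxHeartbeats 400000
set_option synthInstance.maxSize 2048
set_option linter.style.haveILetI false

namespace Cfsg.Agent.SuzType

open Subgroup
open Cfsg.Agent.LargeExtraspecial (Hub)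

universe v

variable {G : Type v} [Group G] [Finite G] {z y : G} {Q : Subgroup G}

namespace Four

variable {F : Frame z y Q} {R : Radical F} {d : Data z Q} (X : Four R d)

/-- The representative of the second class. -/
local notation "u₀" => Radical.el R e4 e3 false false

theorem card_E : Nat.card ↥X.E = 4 := by
  classical
  obtain ⟨hU1, hU2, hU3, hU4⟩ := X.U_ne
  obtain ⟨-, hu1, -⟩ := R.u_facts d
  have hset : (X.E : Set G) = {1, u₀, X.U, u₀ * X.U} := by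
    ext g; simp [SetLike.mem_coe, X.mem_E]
  have h : (X.E : Set G).ncard = 4 := by
    rw [hset, Set.ncard_insert_of_notMem (by simp [hu1.symm, hU1.symm, hU4.symm]),
      Set.ncard_insert_of_notMem (by simp [hU2.symm, hU1]),
      Set.ncard_pair (fun e => hU3 e.symm)]
  rw [← h, ← Nat.card_coe_set_eq]
  rfl

theorem card_Dc : Nat.card ↥X.Dc = 80640 := by
  have h := Subgroup.card_eq_card_quotient_mul_card_subgroup (X.E.subgroupOf X.Dc)
  rw [X.Dq_simple.2, Nat.card_congr (subgroupOfEquivOfLe (X.E_le_E0.trans X.E0_le_Dc)).toEquiv,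
    X.card_E] at h
  omega

include X in
/-- **`|C(u)| = 161280`.** -/
theorem card_Cu : Nat.card ↥(centralizer ({u₀} : Set G)) = 161280 := by
  rw [X.card_C, X.card_Dc]

/-- The `E`-coordinate on `E0`. -/
noncomputable def psi : ↥((R.E0 d).subgroupOf X.Dc) →* Multiplicative (ZMod 2 × ZMod 2) where
  toFun c := Multiplicative.ofAdd
    (cond (R.sep ((c : X.Dc) : G)).1 1 0, cond (R.sep ((c : X.Dc) : G)).2 1 0)
  map_one' := by
    have h : R.sep (1 : G) = (false, false) := by simp [Radical.sep, F.vof_one d, w0]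
    simp [h]
  map_mul' c c' := by
    have h := R.sep_mul d (mem_subgroupOf.mp c.2) (mem_subgroupOf.mp c'.2)
    simp only [Subgroup.coe_mul, h, ← ofAdd_add]
    cases (R.sep ((c : X.Dc) : G)).1 <;> cases (R.sep ((c : X.Dc) : G)).2 <;>
      cases (R.sep ((c' : X.Dc) : G)).1 <;> cases (R.sep ((c' : X.Dc) : G)).2 <;> rfl

/-- The transfer. -/
noncomputable def tau : ↥X.Dc →* Multiplicative (ZMod 2 × ZMod 2) := MonoidHom.transfer X.psi

theorem tau_E {e : G} (he : e ∈ X.E) : X.tau ⟨e, X.E0_le_Dc (X.E_le_E0 he)⟩ =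
    X.psi ⟨⟨e, X.E0_le_Dc (X.E_le_E0 he)⟩, mem_subgroupOf.mpr (X.E_le_E0 he)⟩ := by
  have hidx : ((R.E0 d).subgroupOf X.Dc).index = 315 := by
    have h := ((R.E0 d).subgroupOf X.Dc).card_mul_index
    rw [Nat.card_congr (subgroupOfEquivOfLe X.E0_le_Dc).toEquiv, R.card_E0' d, X.card_Dc] at h
    omega
  have he2 : e * e = 1 := by
    obtain ⟨hu2, -⟩ := R.u_facts d
    rcases X.mem_E.mp he with rfl | rfl | rfl | rfl
    · exact one_mul 1
    · exact hu2
    · exact X.U_facts.2.1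
    · rw [← mul_assoc, mul_assoc u₀, X.U_u.eq, ← mul_assoc, hu2, one_mul, X.U_facts.2.1]
  rw [tau, MonoidHom.transfer_eq_pow X.psi _ (fun k g₀ hk => ?_)]
  · congr 1
    refine Subtype.ext (Subtype.ext ?_)
    show ((⟨e, _⟩ : X.Dc) ^ ((R.E0 d).subgroupOf X.Dc).index : X.Dc).1 = e
    rw [Subgroup.coe_pow, hidx]
    show e ^ 315 = e
    rw [show (315 : ℕ) = 2 * 157 + 1 by norm_num, pow_succ, pow_mul, pow_two, he2, one_pow, one_mul]
  · refine Subtype.ext ?_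
    have hc : Commute (g₀ : G) (e ^ k) := (X.E_cent he g₀.2).pow_right k
    simp only [Subgroup.coe_mul, Subgroup.coe_inv, Subgroup.coe_pow]
    rw [mul_assoc, ← hc.eq, inv_mul_cancel_left]

/-- The complement. -/
noncomputable def K : Subgroup G := X.tau.ker.map X.Dc.subtype

theorem mem_K {x : G} : x ∈ X.K ↔ ∃ h : x ∈ X.Dc, X.tau ⟨x, h⟩ = 1 := by
  constructor
  · rintro ⟨c, hc, rfl⟩
    exact ⟨c.2, hc⟩
  · rintro ⟨h, h1⟩
    exact ⟨⟨x, h⟩, h1, rfl⟩

theorem K_le : X.K ≤ X.Dc := Subgroup.map_subtype_le _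

theorem K_inf_E {x : G} (hK : x ∈ X.K) (hE : x ∈ X.E) : x = 1 := by
  obtain ⟨h, h1⟩ := X.mem_K.mp hK
  rw [X.tau_E hE] at h1
  obtain ⟨a, b, hU⟩ := X.form
  have hsU : R.sep X.U = (false, true) := by
    rw [hU, Radical.sep, R.el_vof d]; rfl
  have hsu : R.sep u₀ = (true, false) := by rw [Radical.sep, R.el_vof d]; rfl
  have hsuU : R.sep (u₀ * X.U) = (true, true) := by
    rw [R.sep_mul d (X.E_le_E0 X.u_mem_E) X.U_facts.1, hsu, hsU]; rfl
  rcases X.mem_E.mp hE with rfl | rfl | rfl | rfl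
  · rfl
  all_goals
    change Multiplicative.ofAdd (cond (R.sep _).1 (1 : ZMod 2) 0, cond (R.sep _).2 (1 : ZMod 2) 0) = 1 at h1
  · rw [hsu] at h1; exact absurd h1 (by decide)
  · rw [hsU] at h1; exact absurd h1 (by decide)
  · rw [hsuU] at h1; exact absurd h1 (by decide)

/-- The projection of `K` to `C(u, U)/E`. -/
noncomputable def proj : ↥X.K →* X.Dq :=
  (QuotientGroup.mk' _).comp (Subgroup.inclusion X.K_le)

theorem proj_bijective : Function.Bijective X.proj := by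
  constructor
  · rw [injective_iff_map_eq_one]
    intro k hk
    exact Subtype.ext (X.K_inf_E k.2 (mem_subgroupOf.mp ((QuotientGroup.eq_one_iff (Subgroup.inclusion X.K_le k)).mp hk)))
  · intro a
    induction a using QuotientGroup.induction_on with
    | H c =>
      -- `τ` is onto on `E`
      have hinj : Function.Injective (fun e : X.E => X.tau ⟨e, X.E0_le_Dc (X.E_le_E0 e.2)⟩) := by
        intro e e' h
        have h1 : (e : G)⁻¹ * e' ∈ X.K := X.mem_K.mpr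
          ⟨mul_mem (inv_mem (X.E0_le_Dc (X.E_le_E0 e.2))) (X.E0_le_Dc (X.E_le_E0 e'.2)), by
            rw [show (⟨(e : G)⁻¹ * e', _⟩ : X.Dc) = (⟨(e : G), X.E0_le_Dc (X.E_le_E0 e.2)⟩ : X.Dc)⁻¹ *
              ⟨e', X.E0_le_Dc (X.E_le_E0 e'.2)⟩ from rfl, map_mul, map_inv, show
              X.tau ⟨e, X.E0_le_Dc (X.E_le_E0 e.2)⟩ = X.tau ⟨e', X.E0_le_Dc (X.E_le_E0 e'.2)⟩ from h,
              inv_mul_cancel]⟩
        exact Subtype.ext (inv_mul_eq_one.mp (X.K_inf_E h1 (mul_mem (inv_mem e.2) e'.2)))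
      obtain ⟨e, he⟩ := ((Nat.bijective_iff_injective_and_card _).mpr ⟨hinj, by
        rw [X.card_E]; simp [Nat.card_eq_fintype_card]⟩).2 (X.tau c)
      simp only at he
      refine ⟨⟨(c : G) * (e : G)⁻¹, X.mem_K.mpr ⟨mul_mem c.2 (inv_mem (X.E0_le_Dc (X.E_le_E0 e.2))), ?_⟩⟩, ?_⟩
      · rw [show (⟨(c : G) * (e : G)⁻¹, _⟩ : X.Dc) = c * (⟨(e : G), X.E0_le_Dc (X.E_le_E0 e.2)⟩ : X.Dc)⁻¹ from rfl,
          map_mul, map_inv, he, mul_inv_cancel]
      · show (QuotientGroup.mk (c * (⟨(e : G), X.E0_le_Dc (X.E_le_E0 e.2)⟩ : X.Dc)⁻¹) : X.Dq) =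
          QuotientGroup.mk c
        rw [QuotientGroup.mk_mul, QuotientGroup.mk_inv, show
          (QuotientGroup.mk (⟨(e : G), X.E0_le_Dc (X.E_le_E0 e.2)⟩ : X.Dc) : X.Dq) = 1 from
            (QuotientGroup.eq_one_iff _).mpr (mem_subgroupOf.mpr e.2), inv_one, mul_one]

/-- `K ≅ C(u, U)/E`. -/
noncomputable def equivK : ↥X.K ≃* X.Dq := MulEquiv.ofBijective X.proj X.proj_bijective

theorem card_K : Nat.card ↥X.K = 20160 := by
  rw [Nat.card_congr X.equivK.toEquiv, X.Dq_simple.2]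

theorem simple_K : IsSimpleGroup ↥X.K := by
  haveI := X.Dq_simple.1
  haveI : Nontrivial ↥X.K := X.equivK.toEquiv.nontrivial
  exact IsSimpleGroup.isSimpleGroup_of_surjective X.equivK.symm.toMonoidHom X.equivK.symm.surjective

/-- Every conjugate of `z` in `C(u)` is in `K`. -/
theorem z_class_mem_K {t : G} (htz : IsConj z t) (htu : Commute t u₀) : t ∈ X.K := by
  obtain ⟨f, hfu, hf⟩ := R.trans_u d htz htu
  have hy : y ∈ X.Dc := X.E0_le_Dc (R.U0_le d (R.y_mem_U0 d))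
  have hg : X.g ∈ X.Dc := X.mem_Dc.mpr ⟨X.g_u, X.g_U⟩
  -- `τ` is equal on the conjugate involutions `y, z, yz`
  have htau : X.tau ⟨z, X.z_mem_Dc⟩ = 1 := by
    have hconj : ∀ (p : G) (hp : p ∈ X.Dc), X.tau ⟨X.g * p * X.g⁻¹, mul_mem (mul_mem hg hp) (inv_mem hg)⟩ =
        X.tau ⟨p, hp⟩ := by
      intro p hp
      rw [show (⟨X.g * p * X.g⁻¹, _⟩ : X.Dc) = (⟨X.g, hg⟩ : X.Dc) * ⟨p, hp⟩ * (⟨X.g, hg⟩ : X.Dc)⁻¹ from rfl,
        map_mul, map_mul, map_inv, mul_comm (X.tau ⟨X.g, hg⟩), mul_inv_cancel_right]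
    have k1 := hconj y hy
    have k2 := hconj z X.z_mem_Dc
    simp only [X.g_y] at k1
    simp only [X.g_z] at k2
    rw [show (⟨y * z, _⟩ : X.Dc) = (⟨y, hy⟩ : X.Dc) * ⟨z, X.z_mem_Dc⟩ from rfl, map_mul] at k2
    rw [mul_eq_right.mp k2] at k1
    exact k1
  have hfi : f⁻¹ * z * f = t := by rw [← hf]; group
  rcases X.conj_U hfu.inv_left with e | e
  all_goals
    have hD : t ∈ X.Dc := by
      refine X.mem_Dc.mpr ⟨htu, ?_⟩
      have h := commute_conj f⁻¹ ((X.mem_Dc.mp X.z_mem_Dc).2)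
      rw [inv_inv, hfi] at h
      rw [inv_inv] at e
      rw [e] at h
      first
        | exact h
        | (have := (h.mul_right htu); rwa [mul_assoc, X.U_u.eq, ← mul_assoc, (R.u_facts d).1, one_mul] at this)
  · -- `f⁻¹` is in `C(u, U)`
    have hfD : f⁻¹ ∈ X.Dc := X.mem_Dc.mpr ⟨hfu.inv_left, mul_inv_eq_iff_eq_mul.mp e⟩
    refine X.mem_K.mpr ⟨hD, ?_⟩
    rw [show (⟨t, hD⟩ : X.Dc) = (⟨f⁻¹, hfD⟩ : X.Dc) * ⟨z, X.z_mem_Dc⟩ * (⟨f⁻¹, hfD⟩ : X.Dc)⁻¹ from
      Subtype.ext (by show t = f⁻¹ * z * f⁻¹⁻¹; rw [inv_inv, hfi]), map_mul, map_mul, map_inv, htau]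
    group
  · -- `f⁻¹ s` is in `C(u, U)`
    have hfD : f⁻¹ * X.s ∈ X.Dc := by
      refine X.mem_Dc.mpr ⟨hfu.inv_left.mul_left X.s_u, mul_inv_eq_iff_eq_mul.mp ?_⟩
      calc f⁻¹ * X.s * X.U * (f⁻¹ * X.s)⁻¹ = f⁻¹ * (X.s * X.U * X.s⁻¹) * f⁻¹⁻¹ := by group
        _ = f⁻¹ * u₀ * f⁻¹⁻¹ * (f⁻¹ * X.U * f⁻¹⁻¹) := by rw [X.s_U]; group
        _ = _ := by rw [conj_of_commute hfu.inv_left, e, ← mul_assoc, (R.u_facts d).1, one_mul]
    refine X.mem_K.mpr ⟨hD, ?_⟩
    rw [show (⟨t, hD⟩ : X.Dc) = (⟨_, hfD⟩ : X.Dc) * ⟨z, X.z_mem_Dc⟩ * (⟨_, hfD⟩ : X.Dc)⁻¹ from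
      Subtype.ext (by
        show t = f⁻¹ * X.s * z * (f⁻¹ * X.s)⁻¹
        rw [show f⁻¹ * X.s * z * (f⁻¹ * X.s)⁻¹ = f⁻¹ * (X.s * z * X.s⁻¹) * f by group,
          conj_of_commute (mem_Dzy.mp X.s_mem).1, hfi]), map_mul, map_mul, map_inv, htau]
    group

theorem z_mem_K : z ∈ X.K := X.z_class_mem_K (IsConj.refl z) (R.u_facts d).2.2.2.1.symm

theorem y_mem_K : y ∈ X.K := X.z_class_mem_K (R.isConj_z_y d) (R.u_facts d).2.2.2.2.symm

theorem E_conj {c : G} (hc : Commute c u₀) {e : G} (he : e ∈ X.E) : c * e * c⁻¹ ∈ X.E := by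
  have hU : c * X.U * c⁻¹ ∈ X.E := by
    rcases X.conj_U hc with h | h <;> rw [h]
    exacts [X.U_mem_E, mul_mem X.u_mem_E X.U_mem_E]
  rcases X.mem_E.mp he with rfl | rfl | rfl | rfl
  · simp
  · rw [conj_of_commute hc]; exact X.u_mem_E
  · exact hU
  · rw [show c * (u₀ * X.U) * c⁻¹ = c * u₀ * c⁻¹ * (c * X.U * c⁻¹) by group, conj_of_commute hc]
    exact mul_mem X.u_mem_E hU

theorem Dc_conj {c : G} (hc : Commute c u₀) {x : G} (hx : x ∈ X.Dc) : c * x * c⁻¹ ∈ X.Dc := by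
  obtain ⟨h1, h2⟩ := X.mem_Dc.mp hx
  refine X.mem_Dc.mpr ⟨(hc.mul_left h1).mul_left hc.inv_left, ?_⟩
  have hE := X.E_conj hc.inv_left X.U_mem_E
  have := commute_conj c (X.E_cent hE hx)
  rwa [show c * (c⁻¹ * X.U * c⁻¹⁻¹) * c⁻¹ = X.U by group] at this

/-- `K` is generated by the conjugates of `z`, hence normal in `C(u)`. -/
theorem K_conj {c : G} (hc : Commute c u₀) {x : G} (hx : x ∈ X.K) : c * x * c⁻¹ ∈ X.K := by
  let S : Set G := {t | IsConj z t ∧ Commute t u₀}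
  let M : Subgroup G := closure S
  have hMK : M ≤ X.K := (closure_le _).mpr fun t ht => X.z_class_mem_K ht.1 ht.2
  have hconj : ∀ {a : G}, Commute a u₀ → ∀ m ∈ M, a * m * a⁻¹ ∈ M := by
    intro a ha m hm
    induction hm using Subgroup.closure_induction with
    | mem t ht =>
      refine subset_closure ⟨ht.1.trans (isConj_iff.mpr ⟨a, rfl⟩), ?_⟩
      have := commute_conj a ht.2
      rwa [conj_of_commute ha] at this
    | one => simp
    | mul p r _ _ hp hr =>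
      rw [show a * (p * r) * a⁻¹ = a * p * a⁻¹ * (a * r * a⁻¹) by group]
      exact mul_mem hp hr
    | inv p _ hp => rw [show a * p⁻¹ * a⁻¹ = (a * p * a⁻¹)⁻¹ by group]; exact inv_mem hp
  haveI := X.simple_K
  have hn : (M.subgroupOf X.K).Normal := ⟨fun m hm k =>
    mem_subgroupOf.mpr (hconj (X.mem_Dc.mp (X.K_le k.2)).1 _ (mem_subgroupOf.mp hm))⟩
  rcases hn.eq_bot_or_eq_top with e | e
  · exfalso
    have hz : z ∈ M := subset_closure ⟨IsConj.refl z, (R.u_facts d).2.2.2.1.symm⟩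
    have : (⟨z, hMK hz⟩ : X.K) = 1 := Subgroup.mem_bot.mp (e ▸ mem_subgroupOf.mpr hz)
    exact d.hub.ne_one (congrArg Subtype.val this)
  · exact hMK (hconj hc x (subgroupOf_eq_top.mp e hx))

/-- Every element of `C(u, U)` is uniquely a product from `E` and `K`. -/
theorem decomp {x : G} (hx : x ∈ X.Dc) : ∃ e ∈ X.E, ∃ k ∈ X.K, x = e * k := by
  obtain ⟨k, hk⟩ := X.proj_bijective.2 (QuotientGroup.mk ⟨x, hx⟩)
  have h := mem_subgroupOf.mp (QuotientGroup.eq.mp hk)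
  refine ⟨_, h, k, k.2, ?_⟩
  have hc := X.E_cent h (X.K_le k.2)
  rw [← hc.eq]
  show x = (k : G) * ((k : G)⁻¹ * x)
  group

end Four

end Cfsg.Agent.SuzType
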