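import Cfsg.Agent.Lib.SuzType.UComplement
import Cfsg.Agent.Lib.Involution.Isolated
import Cfsg.Agent.S0213

/-!
# The pairs of the order formula centred at `u`

There are `60795` pairs `(a, b)` with `a ~ z`, `b ~ u` and `u ∈ ⟨a b⟩`: they are `(a, u s)` with
`a, s` involutions of `K` whose product has odd order.
-/

set_option autoImplicit false
set_option maxHeartbeats 400000
set_option synthInstance.maxSize 2048
set_option linter.style.haveILetI false

namespace Cfsg.Agent.SuzType

open Subgroup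
open Cfsg.Agent.LargeExtraspecial (Hub)

/-- Codes for the elements of `U0`. -/
abbrev UC := (W × W) × Bool × Bool

/-- The involution codes. -/
def invCode (t : UC) : Bool :=
  inU t.1.1 && inU t.1.2 && !(xor (q true t.1.2) (B t.1.1 t.1.2)) &&
    !(xor (q true t.1.1) (B t.1.1 t.1.2)) && decide (t ≠ ((w0, w0), false, false))

/-- The product of the two has `z` as a power. -/
def midCode (t t' : UC) : Bool :=
  decide (t' = (t.1, t.2.1, !t.2.2)) ||
    (!(cy t.1.1 t.1.2 t'.1.1 t'.1.2) && cz t.1.1 t.1.2 t'.1.1 t'.1.2)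

theorem mid_count : ((Finset.univ.filter fun t : UC => invCode t = true).sigma fun t =>
    Finset.univ.filter fun t' : UC => invCode t' = true ∧ midCode t t' = true).card = 122 := by
  decide +kernel

theorem mid_card : Nat.card {p : UC × UC //
    invCode p.1 = true ∧ invCode p.2 = true ∧ midCode p.1 p.2 = true} = 122 := by
  have key : ∀ (A : Finset UC) (f : UC → Finset UC) (P : UC × UC → Prop),
      (∀ a b, a ∈ A ∧ b ∈ f a ↔ P (a, b)) → Nat.card {p : UC × UC // P p} = (A.sigma f).card :=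
    fun A f P h => by
      rw [← Nat.card_eq_finsetCard]
      exact Nat.card_congr
        ⟨fun p => ⟨⟨p.1.1, p.1.2⟩, Finset.mem_sigma.mpr ((h p.1.1 p.1.2).mpr p.2)⟩,
          fun t => ⟨(t.1.1, t.1.2), (h t.1.1 t.1.2).mp (Finset.mem_sigma.mp t.2)⟩,
          fun _ => rfl, fun _ => rfl⟩
  exact (key _ _ _ fun a b => by
    simp only [Finset.mem_filter, Finset.mem_univ, true_and]).trans mid_count

theorem orderOf_inv_iff {H : Type*} [Group H] {x : H} : orderOf x = 2 ↔ x * x = 1 ∧ x ≠ 1 := by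
  refine ⟨fun h => ⟨by rw [← pow_two, ← h, pow_orderOf_eq_one], fun e => ?_⟩,
    fun h => orderOf_eq_prime (by rw [pow_two]; exact h.1) h.2⟩
  rw [e, orderOf_one] at h
  omega

universe v

variable {G : Type v} [Group G] [Finite G] {z y : G} {Q : Subgroup G}

namespace Radical

variable {F : Frame z y Q} (R : Radical F) (d : Data z Q)
include R d

/-- The representative of the second class. -/
local notation "u₀" => Radical.el R e4 e3 false false

/-- The two classes, with `u₀` as the second representative. -/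
theorem all_classes {t : G} (ht : t * t = 1) (ht1 : t ≠ 1) : IsConj z t ∨ IsConj u₀ t := by
  obtain ⟨k, hk⟩ := d.exists_conj_cz ht
  have hkt : IsConj (k * t * k⁻¹) t := (isConj_iff.mpr ⟨k, rfl⟩ : IsConj t _).symm
  have hk1 : k * t * k⁻¹ ≠ 1 := fun e => ht1 (by simpa using e)
  by_cases hQ : k * t * k⁻¹ ∈ Q
  · exact Or.inl ((R.isConj_of_Q d hQ (conj_sq ht) hk1).trans hkt)
  rcases R.cases_cz d (conj_sq ht) hk hQ with ⟨c, -, hc⟩ | ⟨c, -, hc⟩
  · exact Or.inl (((R.sing _ (pt_spec.1 0).2 (pt_spec.1 0).1).trans (isConj_iff.mpr ⟨c, hc⟩)).trans hkt)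
  · exact Or.inr ((isConj_iff.mpr ⟨c, hc⟩ : IsConj u₀ _).trans hkt)

end Radical

/-- If `w` is a power of the product of two involutions, it commutes with both. -/
theorem commute_of_mem_zpowers {a b w : G} (ha : a * a = 1) (hb : b * b = 1) (hw : w * w = 1)
    (h : w ∈ zpowers (a * b)) : Commute w a ∧ Commute w b := by
  obtain ⟨k, hk⟩ := mem_powers_iff_mem_zpowers.mpr h
  have hk' : (a * b) ^ k = w := hk
  have h1 := Involution.Isolated.conj_pow_eq ha hb k
  rw [hk', inv_eq_of_mul_eq_one_right hw] at h1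
  have hwa : Commute w a := by
    show w * a = a * w
    calc w * a = a * w * a * a := by rw [h1]
      _ = a * w := by rw [mul_assoc, ha, mul_one]
  refine ⟨hwa, ?_⟩
  have h2 : Commute w (a * b) := hk' ▸ (Commute.refl (a * b)).pow_left k
  have := hwa.mul_right h2
  rwa [← mul_assoc, ha, one_mul] at this

namespace Four

variable {F : Frame z y Q} {R : Radical F} {d : Data z Q} (X : Four R d)

/-- The representative of the second class. -/
local notation "u₀" => Radical.el R e4 e3 false false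

theorem K_inv_conj (a : X.K) (ha : orderOf a = 2) : IsConj (⟨z, X.z_mem_K⟩ : X.K) a := by
  obtain ⟨h1, h2⟩ := orderOf_inv_iff.mp ha
  have h := X.inv_conj_zq (a := X.equivK a) (by rw [← map_mul, h1, map_one])
    (fun e => h2 (X.equivK.injective (by rw [e, map_one])))
  obtain ⟨c, hc⟩ := isConj_iff.mp h
  refine isConj_iff.mpr ⟨X.equivK.symm c, X.equivK.injective ?_⟩
  rw [map_mul, map_mul, map_inv, MulEquiv.apply_symm_apply]
  exact hc

theorem K_inv_isConj {a : X.K} (ha : orderOf a = 2) : IsConj z (a : G) := by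
  obtain ⟨c, hc⟩ := isConj_iff.mp (X.K_inv_conj a ha)
  exact isConj_iff.mpr ⟨c, congrArg Subtype.val hc⟩

theorem card_K_inv : Nat.card {a : X.K // orderOf a = 2} = 315 := by
  have h : Nat.card {a : X.K // orderOf a = 2} = Nat.card {t : X.Dq // orderOf t = 2} :=
    Nat.card_congr (X.equivK.toEquiv.subtypeEquiv fun a =>
      Iff.of_eq (congrArg (· = 2) (X.equivK.orderOf_eq a).symm))
  have h2 := X.card_involutions_mul
  rw [X.Dq_simple.2] at h2
  omega

theorem U0_le_K : R.U0 d ≤ X.K := by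
  rintro _ ⟨w, v, a, b, hw, hv, rfl⟩
  have inv : ∀ w v a b, inU w = true → inU v = true → xor (q true v) (B w v) = false →
      xor (q true w) (B w v) = false → R.el w v a b ∈ X.K := by
    intro w v a b hw hv h1 h2
    by_cases h : R.el w v a b = 1
    · rw [h]; exact one_mem _
    have hsq : R.el w v a b * R.el w v a b = 1 := by rw [R.el_sq d, h1, h2]; simp [Radical.kk]
    exact X.z_class_mem_K (R.isConj_el d a b hw hv hsq h)
      (mem_Dzy.mp (Subgroup.mem_inf.mp (R.U0_le d ⟨w, v, a, b, hw, hv, rfl⟩)).1).2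
  have step : ∀ w v a b w' v' a' b', R.el w v a b ∈ X.K → R.el w' v' a' b' ∈ X.K →
      ∀ i j, R.el (SuzType.add w w') (SuzType.add v v') i j ∈ X.K := by
    intro w v a b w' v' a' b' h1 h2 i j
    obtain ⟨a'', b'', e⟩ := R.el_mul d w v w' v' a b a' b'
    have := mul_mem (mul_mem h1 h2) (inv w0 w0 (xor a'' i) (xor b'' j) rfl rfl rfl rfl)
    rw [e, R.el_kk d, R.el_mul_kk d] at this
    convert this using 2 <;> cases a'' <;> cases b'' <;> cases i <;> cases j <;> rfl
  have hdec : ∀ w v : W, inU w = true → inU v = true →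
      w = add (cond w.1 e1 w0) (cond w.2.1 e2 w0) ∧ v = add (cond v.1 e1 w0) (cond v.2.1 e2 w0) := by
    decide +kernel
  obtain ⟨kw, kv⟩ := hdec w v hw hv
  have hA : ∀ c : Bool, R.el (cond c e1 w0) w0 false false ∈ X.K ∧ R.el (cond c e2 w0) w0 false false ∈ X.K ∧
      R.el w0 (cond c e1 w0) false false ∈ X.K ∧ R.el w0 (cond c e2 w0) false false ∈ X.K := by
    intro c
    cases c <;>
      exact ⟨inv _ _ _ _ rfl rfl rfl rfl, inv _ _ _ _ rfl rfl rfl rfl, inv _ _ _ _ rfl rfl rfl rfl,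
        inv _ _ _ _ rfl rfl rfl rfl⟩
  have h1 := step _ _ _ _ _ _ _ _ (hA w.1).1 (hA w.2.1).2.1 false false
  have h2 := step _ _ _ _ _ _ _ _ (hA v.1).2.2.1 (hA v.2.1).2.2.2 false false
  rw [add_self, ← kw] at h1
  rw [add_self, ← kv] at h2
  have h3 := step _ _ _ _ _ _ _ _ h1 h2 a b
  rwa [(add_zero' w).1, (add_zero' v).2] at h3

theorem K_cent_z {k : G} (hk : k ∈ X.K) (hkz : Commute k z) : k ∈ R.U0 d := by
  have hE0 : k ∈ R.E0 d :=
    X.T_inf (mem_Dzy.mpr ⟨hkz, (X.mem_Dc.mp (X.K_le hk)).1⟩) (X.mem_Dc.mp (X.K_le hk)).2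
  obtain ⟨e, he, hke⟩ := X.exists_split hE0
  have h1 : e = 1 := X.K_inf_E (by
    have := mul_mem (inv_mem hk) (X.U0_le_K hke)
    rwa [inv_mul_cancel_left] at this) he
  rwa [h1, mul_one] at hke

/-- Pairs of involutions of `K` with product of order a multiple of two centred at `i`. -/
abbrev Mid (i : X.K) :=
  {p : X.K × X.K // orderOf p.1 = 2 ∧ orderOf p.2 = 2 ∧ i ∈ zpowers (p.1 * p.2)}

theorem card_mid (i : X.K) (hi : orderOf i = 2) : Nat.card (X.Mid i) = 122 := by
  classical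
  obtain ⟨c, rfl⟩ := isConj_iff.mp (X.K_inv_conj i hi)
  set zK : X.K := ⟨z, X.z_mem_K⟩
  have htrans : Nat.card (X.Mid (c * zK * c⁻¹)) = Nat.card (X.Mid zK) := by
    refine (Nat.card_congr (((MulAut.conj c).toEquiv.prodCongr (MulAut.conj c).toEquiv).subtypeEquiv
      fun p => ?_)).symm
    have e : MulAut.conj c p.1 * MulAut.conj c p.2 = MulAut.conj c (p.1 * p.2) := (map_mul _ _ _).symm
    simp only [MulEquiv.toEquiv_eq_coe, Equiv.prodCongr_apply, EquivLike.coe_coe, Prod.map_fst,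
      Prod.map_snd, MulEquiv.orderOf_eq, e, ← MonoidHom.map_zpowers]
    refine and_congr Iff.rfl (and_congr Iff.rfl ?_)
    constructor
    · rintro ⟨k, hk⟩
      exact ⟨k, by show (MulAut.conj c) (p.1 * p.2) ^ k = _; rw [← map_zpow]; exact congrArg (MulAut.conj c) hk⟩
    · rintro ⟨k, hk⟩
      refine ⟨k, (MulAut.conj c).injective ?_⟩
      show MulAut.conj c ((p.1 * p.2) ^ k) = _
      rw [map_zpow]
      exact hk
  rw [htrans, ← mid_card]
  let el' : UC → G := fun t => R.el t.1.1 t.1.2 t.2.1 t.2.2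
  have hel : ∀ t, invCode t = true → el' t ∈ X.K ∧ el' t * el' t = 1 ∧ el' t ≠ 1 := by
    rintro ⟨⟨w, v⟩, a, b⟩ ht
    simp only [invCode, Bool.and_eq_true, Bool.not_eq_true', decide_eq_true_eq] at ht
    obtain ⟨⟨⟨⟨h1, h2⟩, h3⟩, h4⟩, h5⟩ := ht
    refine ⟨X.U0_le_K ⟨w, v, a, b, h1, h2, rfl⟩, ?_, fun e => h5 ?_⟩
    · show R.el w v a b * R.el w v a b = 1
      rw [R.el_sq d, h3, h4]; simp [Radical.kk]
    · have e' : R.el w v a b = R.el w0 w0 false false :=
        e.trans (by rw [R.el_kk d]; simp [Radical.kk])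
      obtain ⟨rfl, rfl, rfl, rfl⟩ := R.el_inj d e'
      rfl
  have hcode : ∀ x : X.K, orderOf x = 2 → Commute (x : G) z → ∃ t, invCode t = true ∧ el' t = x := by
    intro x hx hxz
    obtain ⟨h1, h2⟩ := orderOf_inv_iff.mp hx
    obtain ⟨w, v, a, b, hw, hv, e⟩ := X.K_cent_z x.2 hxz
    refine ⟨((w, v), a, b), ?_, e.symm⟩
    have hsq : R.el w v a b * R.el w v a b = 1 := by rw [← e]; exact congrArg Subtype.val h1
    rw [R.el_sq d] at hsq
    obtain ⟨s1, s2⟩ := pw_yz_inj d.hub F.sing (hsq.trans (by simp : (1 : G) = pw y false * pw z false))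
    simp only [invCode, hw, hv, s1, s2, Bool.not_false, Bool.and_true, Bool.true_and, decide_eq_true_eq]
    intro e'
    obtain ⟨ew, ea, eb⟩ : (w, v) = (w0, w0) ∧ a = false ∧ b = false := by simpa using e'
    obtain ⟨rfl, rfl⟩ := Prod.ext_iff.mp ew
    subst ea eb
    exact h2 (Subtype.ext (e.trans (by rw [R.el_kk d]; simp [Radical.kk])))
  have hinj : ∀ t t', el' t = el' t' → t = t' := by
    rintro ⟨⟨w, v⟩, a, b⟩ ⟨⟨w', v'⟩, a', b'⟩ e
    obtain ⟨rfl, rfl, rfl, rfl⟩ := R.el_inj d e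
    rfl
  have hmid : ∀ t t', invCode t = true → invCode t' = true →
      (midCode t t' = true ↔ z ∈ zpowers (el' t * el' t')) := by
    rintro ⟨⟨w, v⟩, a, b⟩ ⟨⟨w', v'⟩, a', b'⟩ ht ht'
    obtain ⟨-, ha, -⟩ := hel _ ht
    obtain ⟨-, hb, -⟩ := hel _ ht'
    have hsq : el' ((w, v), a, b) * el' ((w', v'), a', b') *
        (el' ((w, v), a, b) * el' ((w', v'), a', b')) = R.kk (cy w v w' v') (cz w v w' v') := by
      set x := el' ((w, v), a, b) with hx
      set x' := el' ((w', v'), a', b') with hx'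
      have e : x * x' * x⁻¹ = x' * R.kk (cy w v w' v') (cz w v w' v') := R.el_conj d w v w' v' a b a' b'
      rw [inv_eq_of_mul_eq_one_right ha] at e
      have hc : Commute x' (R.kk (cy w v w' v') (cz w v w' v')) :=
        R.commute_kk d (R.el_mem d _ _ _ _) _ _
      calc x * x' * (x * x') = x * x' * x * x' := by group
        _ = _ := by rw [e, mul_assoc x', ← hc.eq, ← mul_assoc, hb, one_mul]
    have hzk : z = R.kk false true := by simp [Radical.kk]
    constructor
    · intro h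
      simp only [midCode, Bool.or_eq_true, decide_eq_true_eq, Bool.and_eq_true, Bool.not_eq_true'] at h
      rcases h with h | ⟨h1, h2⟩
      · obtain ⟨e0, rfl, rfl⟩ : (w', v') = (w, v) ∧ a' = a ∧ b' = (!b) := by simpa using h
        obtain ⟨rfl, rfl⟩ := Prod.ext_iff.mp e0
        have e : el' ((w', v'), a', b) * el' ((w', v'), a', !b) = z := by
          show R.el w' v' a' b * R.el w' v' a' (!b) = z
          have ha' : R.el w' v' a' b * R.el w' v' a' b = 1 := ha
          rw [show R.el w' v' a' (!b) = R.el w' v' a' b * R.kk false true by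
            rw [R.el_mul_kk d]; cases a' <;> cases b <;> rfl, ← mul_assoc, ha', one_mul, ← hzk]
        rw [e]
        exact mem_zpowers z
      · rw [h1, h2, ← hzk] at hsq
        have := mul_mem (mem_zpowers (el' ((w, v), a, b) * el' ((w', v'), a', b')))
          (mem_zpowers (el' ((w, v), a, b) * el' ((w', v'), a', b')))
        rwa [hsq] at this
    · intro h
      obtain ⟨k, hk⟩ := mem_powers_iff_mem_zpowers.mpr h
      have hk' : (el' ((w, v), a, b) * el' ((w', v'), a', b')) ^ k = z := hk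
      simp only [midCode, Bool.or_eq_true, decide_eq_true_eq, Bool.and_eq_true, Bool.not_eq_true']
      rcases Nat.even_or_odd' k with ⟨j, rfl | rfl⟩
      · rw [pow_mul, pow_two, hsq] at hk'
        rcases Nat.even_or_odd' j with ⟨i, rfl | rfl⟩
        · rw [pow_mul, pow_two, R.kk_mul d] at hk'
          simp [Radical.kk] at hk'
          exact absurd hk'.symm d.hub.ne_one
        · rw [pow_succ, pow_mul, pow_two, R.kk_mul d, show R.kk (xor (cy w v w' v') (cy w v w' v'))
            (xor (cz w v w' v') (cz w v w' v')) = 1 by simp [Radical.kk], one_pow, one_mul] at hk'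
          exact Or.inr (pw_yz_inj d.hub F.sing (hk'.trans hzk))
      · -- odd powers: the product is an involution
        set x := el' ((w, v), a, b) with hx
        set x' := el' ((w', v'), a', b') with hx'
        have h2 : (x * x') ^ ((2 * j + 1) * 2) = 1 := by rw [pow_mul, hk', pow_two, d.hub.sq]
        have h4 : (x * x') ^ 4 = 1 := by
          rw [show (4 : ℕ) = 2 * 2 from rfl, pow_mul, pow_two (x * x'), hsq, pow_two, R.kk_mul d]
          simp [Radical.kk]
        have hg := pow_gcd_eq_one.mpr ⟨h2, h4⟩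
        rw [show Nat.gcd ((2 * j + 1) * 2) 4 = 2 by
          rw [show (4 : ℕ) = 2 * 2 from rfl, Nat.gcd_mul_right,
            Nat.coprime_iff_gcd_eq_one.mp (Nat.coprime_two_right.mpr ⟨j, by ring⟩), one_mul]] at hg
        rw [pow_succ, pow_mul, hg, one_pow, one_mul] at hk'
        have e : x' = R.el w v a (!b) := by
          calc x' = x * (x * x') := by rw [← mul_assoc, ha, one_mul]
            _ = R.el w v a b * R.kk false true := by rw [hk', ← hzk]
            _ = _ := by rw [R.el_mul_kk d]; cases a <;> cases b <;> rfl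
        obtain ⟨rfl, rfl, rfl, rfl⟩ := R.el_inj d (show R.el w' v' a' b' = R.el w v a (!b) from e)
        exact Or.inl rfl
  let mk : ∀ t t' : UC, invCode t = true → invCode t' = true → midCode t t' = true → X.Mid zK :=
    fun t t' h h' hm => ⟨(⟨el' t, (hel t h).1⟩, ⟨el' t', (hel t' h').1⟩),
      orderOf_inv_iff.mpr ⟨Subtype.ext (hel t h).2.1, fun e => (hel t h).2.2 (congrArg Subtype.val e)⟩,
      orderOf_inv_iff.mpr ⟨Subtype.ext (hel t' h').2.1, fun e => (hel t' h').2.2 (congrArg Subtype.val e)⟩,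
      by
        obtain ⟨k, hk⟩ := (hmid t t' h h').mp hm
        exact ⟨k, Subtype.ext (by simpa using hk)⟩⟩
  refine (Nat.card_eq_of_bijective (fun t => mk t.1.1 t.1.2 t.2.1 t.2.2.1 t.2.2.2)
    ⟨?_, ?_⟩).symm
  · intro s t e
    have e' := congrArg (fun p : X.Mid zK => (((p.1.1 : X.K) : G), ((p.1.2 : X.K) : G))) e
    simp only [Prod.mk.injEq] at e'
    exact Subtype.ext (Prod.ext (hinj _ _ e'.1) (hinj _ _ e'.2))
  · rintro ⟨⟨x, x'⟩, hx, hx', hz⟩
    have hzG : z ∈ zpowers ((x : G) * x') := by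
      obtain ⟨k, hk⟩ := hz
      exact ⟨k, by simpa using congrArg Subtype.val hk⟩
    obtain ⟨c1, c2⟩ := commute_of_mem_zpowers (congrArg Subtype.val (orderOf_inv_iff.mp hx).1)
      (congrArg Subtype.val (orderOf_inv_iff.mp hx').1) d.hub.sq hzG
    obtain ⟨t, ht, et⟩ := hcode x hx c1.symm
    obtain ⟨t', ht', et'⟩ := hcode x' hx' c2.symm
    refine ⟨⟨(t, t'), ?_⟩, ?_⟩
    · exact ⟨ht, ht', (hmid _ _ ht ht').mpr (by rw [et, et']; exact hzG)⟩
    · exact Subtype.ext (Prod.ext (Subtype.ext et) (Subtype.ext et'))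

/-- **Pairs of involutions of `K` with product of odd order.** -/
theorem card_odd_pairs :
    Nat.card {p : X.K × X.K // orderOf p.1 = 2 ∧ orderOf p.2 = 2 ∧ Odd (orderOf (p.1 * p.2))} =
      60795 := by
  classical
  haveI := Fintype.ofFinite X.K
  have hall : Nat.card {p : X.K × X.K // orderOf p.1 = 2 ∧ orderOf p.2 = 2} = 315 * 315 := by
    rw [Nat.card_congr (Equiv.subtypeProdEquivProd (p := fun a : X.K => orderOf a = 2)
      (q := fun a : X.K => orderOf a = 2)), Nat.card_prod, X.card_K_inv]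
  have heven : Nat.card {p : X.K × X.K // orderOf p.1 = 2 ∧ orderOf p.2 = 2 ∧
      ¬ Odd (orderOf (p.1 * p.2))} = 315 * 122 := by
    have hhalf : ∀ x : X.K, Even (orderOf x) → orderOf (x ^ (orderOf x / 2)) = 2 := by
      intro x hx
      obtain ⟨m, hm⟩ := hx
      have := orderOf_pos x
      rw [orderOf_pow' _ (by omega), show orderOf x / 2 = m by omega,
        show Nat.gcd (orderOf x) m = m by rw [hm]; exact Nat.gcd_eq_right ⟨2, by ring⟩, hm,
        ← two_mul, Nat.mul_div_cancel _ (by omega)]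
    let e : {p : X.K × X.K // orderOf p.1 = 2 ∧ orderOf p.2 = 2 ∧ ¬ Odd (orderOf (p.1 * p.2))} ≃
        Σ i : {a : X.K // orderOf a = 2}, X.Mid i.1 :=
      { toFun := fun p => ⟨⟨(p.1.1 * p.1.2) ^ (orderOf (p.1.1 * p.1.2) / 2),
            hhalf _ (Nat.not_odd_iff_even.mp p.2.2.2)⟩, p.1, p.2.1, p.2.2.1, npow_mem_zpowers _ _⟩
        invFun := fun q => ⟨q.2.1, q.2.2.1, q.2.2.2.1, by
          rw [Nat.not_odd_iff_even, even_iff_two_dvd]
          exact q.1.2.symm.dvd.trans (orderOf_dvd_of_mem_zpowers q.2.2.2.2)⟩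
        left_inv := fun p => rfl
        right_inv := by
          rintro ⟨⟨i, hi⟩, ⟨p, hp1, hp2, hp3⟩⟩
          have he : Even (orderOf (p.1 * p.2)) := by
            rw [even_iff_two_dvd, ← hi]
            exact orderOf_dvd_of_mem_zpowers hp3
          have heq := S0213.half_unique he hi hp3
          subst heq
          rfl }
    rw [Nat.card_congr e, Nat.card_sigma, Finset.sum_congr rfl fun i _ => X.card_mid i.1 i.2,
      Finset.sum_const, Finset.card_univ, ← Nat.card_eq_fintype_card, X.card_K_inv, smul_eq_mul]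
  have h := Nat.card_congr (Equiv.sumCompl fun p : {p : X.K × X.K // orderOf p.1 = 2 ∧ orderOf p.2 = 2} =>
    Odd (orderOf (p.1.1 * p.1.2)))
  rw [Nat.card_sum, hall,
    Nat.card_congr (Equiv.subtypeSubtypeEquivSubtypeInter
      (fun p : X.K × X.K => orderOf p.1 = 2 ∧ orderOf p.2 = 2) (fun p => Odd (orderOf (p.1 * p.2)))),
    Nat.card_congr (Equiv.subtypeSubtypeEquivSubtypeInter
      (fun p : X.K × X.K => orderOf p.1 = 2 ∧ orderOf p.2 = 2) (fun p => ¬ Odd (orderOf (p.1 * p.2))))] at h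
  simp only [and_assoc] at h
  omega

include X in
/-- **The pairs centred at `u₀`.** -/
theorem card_n2 : Nat.card {p : G × G // IsConj z p.1 ∧ IsConj u₀ p.2 ∧ u₀ ∈ zpowers (p.1 * p.2)} =
    60795 := by
  classical
  rw [← X.card_odd_pairs]
  obtain ⟨hu2, hu1, -, -, -⟩ := R.u_facts d
  have hinv : ∀ {x w : G}, IsConj w x → w * w = 1 → x * x = 1 := by
    intro x w h hw
    obtain ⟨c, rfl⟩ := isConj_iff.mp h
    exact conj_sq hw
  have hz1 : ∀ {x : G}, IsConj z x → x ≠ 1 := fun h e => by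
    rw [e] at h; exact d.hub.ne_one (isConj_one_left.mp h)
  have huK : u₀ ∉ X.K := fun h => hu1 (X.K_inf_E h X.u_mem_E)
  have hfwd : ∀ p : {p : X.K × X.K // orderOf p.1 = 2 ∧ orderOf p.2 = 2 ∧ Odd (orderOf (p.1 * p.2))},
      IsConj z ((p.1.1 : X.K) : G) ∧ IsConj u₀ (u₀ * (p.1.2 : G)) ∧
        u₀ ∈ zpowers (((p.1.1 : X.K) : G) * (u₀ * (p.1.2 : G))) := by
    rintro ⟨⟨a, s⟩, ha, hs, hodd⟩
    have hca : Commute u₀ (a : G) := (X.mem_Dc.mp (X.K_le a.2)).1.symm
    have hcs : Commute u₀ (s : G) := (X.mem_Dc.mp (X.K_le s.2)).1.symm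
    refine ⟨X.K_inv_isConj ha, ?_, ?_⟩
    · have h2 : u₀ * (s : G) * (u₀ * (s : G)) = 1 := by
        rw [hcs.symm.mul_mul_mul_comm, hu2, one_mul]
        exact congrArg Subtype.val (orderOf_inv_iff.mp hs).1
      have h1 : u₀ * (s : G) ≠ 1 := fun e => huK (by
        rw [eq_inv_of_mul_eq_one_left e]; exact inv_mem s.2)
      refine (R.all_classes d h2 h1).resolve_left fun h => huK ?_
      have := mul_mem (X.z_class_mem_K h ((Commute.refl u₀).mul_left hcs.symm)) (inv_mem s.2)
      rwa [mul_inv_cancel_right] at this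
    · obtain ⟨m, hm⟩ := hodd
      refine ⟨((2 * m + 1 : ℕ) : ℤ), ?_⟩
      show ((a : G) * (u₀ * (s : G))) ^ ((2 * m + 1 : ℕ) : ℤ) = u₀
      rw [zpow_natCast, ← mul_assoc, ← hca.eq, mul_assoc, (hca.mul_right hcs).mul_pow,
        show ((a : G) * (s : G)) ^ (2 * m + 1) = 1 by
          rw [← hm]; exact congrArg Subtype.val (pow_orderOf_eq_one (a * s)),
        mul_one, pow_succ, pow_mul, pow_two, hu2, one_pow, one_mul]
  refine (Nat.card_eq_of_bijective (fun p => (⟨((p.1.1 : G), u₀ * (p.1.2 : G)), hfwd p⟩ :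
    {p : G × G // IsConj z p.1 ∧ IsConj u₀ p.2 ∧ u₀ ∈ zpowers (p.1 * p.2)})) ⟨?_, ?_⟩).symm
  · intro p p' e
    have e' := congrArg Subtype.val e
    simp only [Prod.mk.injEq, mul_right_inj] at e'
    exact Subtype.ext (Prod.ext (Subtype.ext e'.1) (Subtype.ext e'.2))
  · rintro ⟨⟨a, b⟩, ha, hb, hu⟩
    have ha2 := hinv ha d.hub.sq
    have hb2 := hinv hb hu2
    obtain ⟨hua, hub⟩ := commute_of_mem_zpowers ha2 hb2 hu2 hu
    have haK := X.z_class_mem_K ha hua.symm
    have hbab : b * a * b⁻¹ ∈ X.K := X.K_conj hub.symm haK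
    obtain ⟨k, hk⟩ := mem_powers_iff_mem_zpowers.mpr hu
    have hk' : (a * b) ^ k = u₀ := hk
    have hsq : a * b * (a * b) ∈ X.K := by
      rw [show a * b * (a * b) = a * (b * a * b⁻¹) * (b * b) by group, hb2, mul_one]
      exact mul_mem haK hbab
    obtain ⟨j, rfl | rfl⟩ := Nat.even_or_odd' k
    · refine absurd ?_ huK
      rw [← hk', pow_mul, pow_two]
      exact pow_mem hsq j
    have hbD : b ∈ X.Dc := by
      have h1 : a * b ∈ X.Dc := by
        have h2 : a * b = ((a * b * (a * b)) ^ j)⁻¹ * u₀ := by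
          rw [eq_inv_mul_iff_mul_eq, ← pow_two, ← pow_mul, ← pow_succ, hk']
        rw [h2]
        exact mul_mem (inv_mem (X.K_le (pow_mem hsq j))) (X.E0_le_Dc (X.E_le_E0 X.u_mem_E))
      have := mul_mem (inv_mem (X.K_le haK)) h1
      rwa [inv_mul_cancel_left] at this
    obtain ⟨e, he, s, hs, rfl⟩ := X.decomp hbD
    have hes : Commute e s := (X.E_cent he (X.K_le hs)).symm
    have hea : Commute e a := (X.E_cent he (X.K_le haK)).symm
    have he2 : e ^ 2 = 1 := by
      rcases X.mem_E.mp he with rfl | rfl | rfl | rfl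
      · exact one_pow 2
      · rw [pow_two, hu2]
      · rw [pow_two, X.U_facts.2.1]
      · rw [(X.U_u.symm).mul_pow, pow_two, pow_two, hu2, X.U_facts.2.1, mul_one]
    have hk2 : e * (a * s) ^ (2 * j + 1) = u₀ := by
      rw [← hk', ← mul_assoc, ← hea.eq, mul_assoc, (hea.mul_right hes).mul_pow, pow_succ e,
        pow_mul e, he2, one_pow, one_mul]
    have hu' : e⁻¹ * u₀ = 1 := X.K_inf_E (by
      rw [← hk2, inv_mul_cancel_left]; exact pow_mem (mul_mem haK hs) _)
      (mul_mem (inv_mem he) X.u_mem_E)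
    obtain rfl : e = u₀ := inv_mul_eq_one.mp hu'
    have h1 : (a * s) ^ (2 * j + 1) = 1 := mul_left_cancel (hk2.trans (mul_one _).symm)
    have hs2 : s * s = 1 := by
      have := hb2
      rwa [hes.symm.mul_mul_mul_comm, hu2, one_mul] at this
    have hs1 : s ≠ 1 := by
      intro e
      rw [e, mul_one, pow_succ, pow_mul, pow_two, ha2, one_pow, one_mul] at h1
      exact hz1 ha h1
    have hoa : orderOf (⟨a, haK⟩ : X.K) = 2 :=
      orderOf_inv_iff.mpr ⟨Subtype.ext ha2, fun e => hz1 ha (congrArg Subtype.val e)⟩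
    have hos : orderOf (⟨s, hs⟩ : X.K) = 2 :=
      orderOf_inv_iff.mpr ⟨Subtype.ext hs2, fun e => hs1 (congrArg Subtype.val e)⟩
    refine ⟨⟨(⟨a, haK⟩, ⟨s, hs⟩), hoa, hos, ?_⟩, Subtype.ext rfl⟩
    exact Odd.of_dvd_nat (⟨j, rfl⟩ : Odd (2 * j + 1)) (orderOf_dvd_of_pow_eq_one (Subtype.ext (by simpa using h1)))

end Four

end Cfsg.Agent.SuzType
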