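import Cfsg.Agent.Lib.SuzType.UStruct

/-!
# The second class: `C(u, U) = E × K`
-/

set_option autoImplicit false
set_option maxHeartbeats 400000
set_option synthInstance.maxSize 2048
set_option linter.style.haveILetI false

namespace Cfsg.Agent.SuzType

open Subgroup
open Cfsg.Agent.LargeExtraspecial (Hub)
open Cfsg.Agent.CIT (IsCIT)

universe v

theorem coset_split : ∀ w v : W, cy w v e4 e3 = false → cz w v e4 e3 = false →
    ∀ p q : W, (p = w0 ∧ q = w0 ∨ p = e4 ∧ q = e3 ∨ p = add e3 e4 ∧ q = e4 ∨ p = e3 ∧ q = add e3 e4) →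
      q.2.2.1 = v.2.2.1 → q.2.2.2 = v.2.2.2 →
      inU (add w p) = true ∧ inU (add v q) = true := by decide +kernel

variable {G : Type v} [Group G] [Finite G] {z y : G} {Q : Subgroup G}

namespace Four

variable {F : Frame z y Q} {R : Radical F} {d : Data z Q} (X : Four R d)

/-- The representative of the second class. -/
local notation "u₀" => Radical.el R e4 e3 false false

theorem s_not_Dc : X.s ∉ X.Dc := fun h => X.U_ne.2.2.1 (by
  rw [← X.s_U, conj_of_commute (X.mem_Dc.mp h).2])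

theorem s_u : Commute X.s u₀ := (mem_Dzy.mp X.s_mem).2

theorem card_C : Nat.card ↥(centralizer ({u₀} : Set G)) = 2 * Nat.card ↥X.Dc := by
  have hDC : X.Dc ≤ centralizer ({u₀} : Set G) := inf_le_left
  have hidx : (X.Dc.subgroupOf (centralizer ({u₀} : Set G))).index = 2 := by
    refine Subgroup.index_eq_two_iff.mpr ⟨⟨X.s, mem_cz.mpr X.s_u⟩, fun b => ?_⟩
    have hb : Commute (b : G) u₀ := mem_cz.mp b.2
    simp only [mem_subgroupOf, Subgroup.coe_mul]
    by_cases h : (b : G) ∈ X.Dc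
    · refine Or.inr ⟨h, fun h' => X.s_not_Dc ?_⟩
      have := mul_mem (inv_mem h) h'
      rwa [inv_mul_cancel_left] at this
    · refine Or.inl ⟨X.mem_Dc.mpr ⟨hb.mul_left X.s_u, ?_⟩, h⟩
      rcases X.conj_U hb with e | e
      · exact absurd (X.mem_Dc.mpr ⟨hb, mul_inv_eq_iff_eq_mul.mp e⟩) h
      refine mul_inv_eq_iff_eq_mul.mp ?_
      calc (b : G) * X.s * X.U * ((b : G) * X.s)⁻¹ = (b : G) * (X.s * X.U * X.s⁻¹) * (b : G)⁻¹ := by group
        _ = (b : G) * u₀ * (b : G)⁻¹ * ((b : G) * X.U * (b : G)⁻¹) := by rw [X.s_U]; group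
        _ = u₀ * u₀ * X.U := by rw [conj_of_commute hb, e, mul_assoc]
        _ = X.U := by rw [(R.u_facts d).1, one_mul]
  have h := (X.Dc.subgroupOf (centralizer ({u₀} : Set G))).card_mul_index
  rw [hidx, Nat.card_congr (subgroupOfEquivOfLe hDC).toEquiv] at h
  omega

/-- `⟨u, U⟩`. -/
def E : Subgroup G where
  carrier := {g | g = 1 ∨ g = u₀ ∨ g = X.U ∨ g = u₀ * X.U}
  one_mem' := Or.inl rfl
  mul_mem' := by
    obtain ⟨hu2, -⟩ := R.u_facts d
    have hU2 := X.U_facts.2.1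
    have h1 : X.U * u₀ = u₀ * X.U := X.U_u.eq
    have h2 : X.U * (u₀ * X.U) = u₀ := by rw [← mul_assoc, h1, mul_assoc, hU2, mul_one]
    have h3 : u₀ * (u₀ * X.U) = X.U := by rw [← mul_assoc, hu2, one_mul]
    have h4 : u₀ * X.U * X.U = u₀ := by rw [mul_assoc, hU2, mul_one]
    have h5 : u₀ * X.U * u₀ = X.U := by rw [mul_assoc, h1, ← mul_assoc, hu2, one_mul]
    have h6 : u₀ * X.U * (u₀ * X.U) = 1 := by rw [← mul_assoc, h5, hU2]
    rintro a b (rfl | rfl | rfl | rfl) (rfl | rfl | rfl | rfl) <;>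
      simp [hu2, hU2, h1, h2, h3, h4, h5, h6]
  inv_mem' := by
    obtain ⟨hu2, -⟩ := R.u_facts d
    have hU2 := X.U_facts.2.1
    rintro a (rfl | rfl | rfl | rfl)
    · exact Or.inl inv_one
    · exact Or.inr (Or.inl (inv_eq_of_mul_eq_one_right hu2))
    · exact Or.inr (Or.inr (Or.inl (inv_eq_of_mul_eq_one_right hU2)))
    · refine Or.inr (Or.inr (Or.inr ?_))
      rw [mul_inv_rev, inv_eq_of_mul_eq_one_right hu2, inv_eq_of_mul_eq_one_right hU2, X.U_u.eq]

theorem mem_E {g : G} : g ∈ X.E ↔ g = 1 ∨ g = u₀ ∨ g = X.U ∨ g = u₀ * X.U := Iff.rfl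

theorem u_mem_E : u₀ ∈ X.E := Or.inr (Or.inl rfl)

theorem U_mem_E : X.U ∈ X.E := Or.inr (Or.inr (Or.inl rfl))

theorem E_cent {e : G} (he : e ∈ X.E) {c : G} (hc : c ∈ X.Dc) : Commute c e := by
  obtain ⟨h1, h2⟩ := X.mem_Dc.mp hc
  rcases X.mem_E.mp he with rfl | rfl | rfl | rfl
  exacts [Commute.one_right c, h1, h2, h1.mul_right h2]

theorem E_le_E0 : X.E ≤ R.E0 d := by
  have hu : u₀ ∈ R.E0 d := (R.mem_E0 d).mpr ⟨e4, e3, false, false, rfl, by decide, by decide⟩
  intro e he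
  rcases X.mem_E.mp he with rfl | rfl | rfl | rfl
  exacts [one_mem _, hu, X.U_facts.1, mul_mem hu X.U_facts.1]

theorem E_el {e : G} (he : e ∈ X.E) : ∃ p q a b, e = R.el p q a b ∧
    (p = w0 ∧ q = w0 ∨ p = e4 ∧ q = e3 ∨
      p = SuzType.add e3 e4 ∧ q = e4 ∨ p = e3 ∧ q = SuzType.add e3 e4) ∧ (p = w0 → e = 1) := by
  obtain ⟨a, b, hU⟩ := X.form
  rcases X.mem_E.mp he with rfl | rfl | rfl | rfl
  · exact ⟨w0, w0, false, false, by rw [R.el_kk d]; simp [Radical.kk], Or.inl ⟨rfl, rfl⟩, fun _ => rfl⟩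
  · exact ⟨e4, e3, false, false, rfl, Or.inr (Or.inl ⟨rfl, rfl⟩), fun h => absurd h (by decide)⟩
  · exact ⟨_, _, a, b, hU, Or.inr (Or.inr (Or.inl ⟨rfl, rfl⟩)), fun h => absurd h (by decide)⟩
  · obtain ⟨a', b', e'⟩ := R.el_mul d e4 e3 (SuzType.add e3 e4) e4 false false a b
    rw [show SuzType.add e4 (SuzType.add e3 e4) = e3 by decide, ← hU] at e'
    exact ⟨_, _, a', b', e', Or.inr (Or.inr (Or.inr ⟨rfl, rfl⟩)), fun h => absurd h (by decide)⟩

theorem E_inf_U0 {e : G} (he : e ∈ X.E) (he' : e ∈ R.U0 d) : e = 1 := by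
  obtain ⟨p, q, a, b, e1, hpq, h1⟩ := X.E_el he
  obtain ⟨w, v, a', b', hw, -, e2⟩ := he'
  rw [e1] at e2
  obtain ⟨rfl, -, -, -⟩ := R.el_inj d e2
  rcases hpq with ⟨h, -⟩ | ⟨h, -⟩ | ⟨h, -⟩ | ⟨h, -⟩
  · exact h1 h
  all_goals (rw [h] at hw; exact absurd hw (by decide))

theorem exists_split {r : G} (hr : r ∈ R.E0 d) : ∃ e ∈ X.E, r * e ∈ R.U0 d := by
  obtain ⟨w, v, i, j, rfl, c1, c2⟩ := (R.mem_E0 d).mp hr
  obtain ⟨a, b, hU⟩ := X.form
  obtain ⟨a', b', e'⟩ := R.el_mul d e4 e3 (SuzType.add e3 e4) e4 false false a b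
  rw [show SuzType.add e4 (SuzType.add e3 e4) = e3 by decide, ← hU] at e'
  have key : ∀ p q a₁ b₁, R.el p q a₁ b₁ ∈ X.E →
      inU (SuzType.add w p) = true ∧ inU (SuzType.add v q) = true →
      ∃ e ∈ X.E, R.el w v i j * e ∈ R.U0 d := by
    intro p q a₁ b₁ hE hin
    obtain ⟨a₂, b₂, e₂⟩ := R.el_mul d w v p q i j a₁ b₁
    exact ⟨_, hE, _, _, a₂, b₂, hin.1, hin.2, e₂⟩
  have k := coset_split w v c1 c2
  cases h3 : v.2.2.1 <;> cases h4 : v.2.2.2
  · exact key w0 w0 false false (X.mem_E.mpr (Or.inl (by rw [R.el_kk d]; simp [Radical.kk])))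
      (k _ _ (Or.inl ⟨rfl, rfl⟩) (by rw [h3]; rfl) (by rw [h4]; rfl))
  · exact key _ _ a b (hU ▸ X.U_mem_E)
      (k _ _ (Or.inr (Or.inr (Or.inl ⟨rfl, rfl⟩))) (by rw [h3]; rfl) (by rw [h4]; rfl))
  · exact key e4 e3 false false X.u_mem_E
      (k _ _ (Or.inr (Or.inl ⟨rfl, rfl⟩)) (by rw [h3]; rfl) (by rw [h4]; rfl))
  · exact key _ _ a' b' (e' ▸ X.mem_E.mpr (Or.inr (Or.inr (Or.inr rfl))))
      (k _ _ (Or.inr (Or.inr (Or.inr ⟨rfl, rfl⟩))) (by rw [h3]; rfl) (by rw [h4]; rfl))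

theorem z_mem_Dc : z ∈ X.Dc := X.E0_le_Dc (R.U0_le d (R.z_mem_U0 d))

include X in
theorem U0_pow_four {p : G} (hp : p ∈ R.U0 d) : p ^ 4 = 1 := by
  obtain ⟨w, v, a, b, -, -, rfl⟩ := hp
  rw [show (4 : ℕ) = 2 * 2 from rfl, pow_mul, pow_two (R.el w v a b), R.el_sq d, pow_two, R.kk_mul d]
  simp [Radical.kk]

/-- Involutions modulo `E`. -/
theorem inv_mod {x : G} (hx : x ∈ X.Dc) (h2 : x * x ∈ X.E) :
    x ∈ X.E ∨ ∃ e ∈ X.E, ∃ h ∈ X.Dc, h * (x * e) * h⁻¹ = z := by
  have hE2 : ∀ e ∈ X.E, e * e = 1 := fun e he => by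
    obtain ⟨hu2, -⟩ := R.u_facts d
    rcases X.mem_E.mp he with rfl | rfl | rfl | rfl
    · exact one_mul 1
    · exact hu2
    · exact X.U_facts.2.1
    · rw [← mul_assoc, mul_assoc u₀, X.U_u.eq, ← mul_assoc, hu2, one_mul, X.U_facts.2.1]
  obtain ⟨h, hh, hconj⟩ := conj_into X.E0_le_Dc (R.isPGroup_E0 d)
    (fun P h1 h2 h3 => X.sylow_E0 h1 h2 h3) (zpowers_le.mpr hx)
    (isPGroup_zpowers_of_pow (k := 2) (by
      rw [show (2 : ℕ) ^ 2 = 2 * 2 from rfl, pow_mul, pow_two x, pow_two, hE2 _ h2]))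
  set r := h * x * h⁻¹ with hr
  have hrE := hconj x (mem_zpowers x)
  have hr2 : r * r = x * x := by
    rw [hr, show h * x * h⁻¹ * (h * x * h⁻¹) = h * (x * x) * h⁻¹ by group,
      conj_of_commute (X.E_cent h2 hh)]
  have hr1 : r * r = 1 := by
    obtain ⟨w, v, a, b, e, -, -⟩ := (R.mem_E0 d).mp hrE
    refine X.E_inf_U0 (hr2 ▸ h2) ?_
    rw [show r = R.el w v a b from e, R.el_sq d]
    exact ⟨w0, w0, _, _, rfl, rfl, (R.el_kk d _ _).symm⟩
  obtain ⟨e, he, hre⟩ := X.exists_split hrE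
  have hc : Commute r e := X.E_cent he (X.E0_le_Dc hrE)
  have hre2 : r * e * (r * e) = 1 := by
    rw [mul_assoc, ← mul_assoc e, ← hc.eq, mul_assoc r e e, hE2 e he, mul_one, hr1]
  by_cases h1 : r * e = 1
  · left
    have : r ∈ X.E := by
      rw [eq_inv_of_mul_eq_one_left h1]; exact inv_mem he
    have e2 : x = r := by
      calc x = h⁻¹ * r * h⁻¹⁻¹ := by rw [hr]; group
        _ = r := conj_of_commute (X.E_cent this (inv_mem hh))
    rwa [e2]
  · right
    obtain ⟨f, hfu, hfU, hf⟩ := X.fusion _ (Subgroup.mem_inf.mp (R.U0_le d hre)).1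
      (R.U0_isConj d hre hre2 h1)
    refine ⟨e, he, f * h, mul_mem (X.mem_Dc.mpr ⟨hfu, hfU⟩) hh, ?_⟩
    calc f * h * (x * e) * (f * h)⁻¹ = f * (h * x * h⁻¹ * (h * e * h⁻¹)) * f⁻¹ := by group
      _ = z := by rw [conj_of_commute (X.E_cent he hh), ← hr, hf]

/-- The centraliser of `z` modulo `E`. -/
theorem cent_mod {x : G} (hx : x ∈ X.Dc) (h : z⁻¹ * (x * z * x⁻¹) ∈ X.E) : x ∈ R.E0 d := by
  set e := z⁻¹ * (x * z * x⁻¹) with he
  have hze : x * z * x⁻¹ = z * e := by rw [he]; group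
  obtain ⟨hxu, hxU⟩ := X.mem_Dc.mp hx
  have hm : x * z * x⁻¹ ∈ Dzy z u₀ := by
    rw [hze]
    exact mul_mem (mem_Dzy.mpr ⟨Commute.refl z, (R.u_facts d).2.2.2.1.symm⟩)
      (Subgroup.mem_inf.mp (X.E_le_E0 h)).1
  have hU := R.z_in_T d hm (isConj_iff.mpr ⟨x, rfl⟩)
  rw [hze] at hU
  have he1 : e = 1 := X.E_inf_U0 h (by
    have := mul_mem (inv_mem (R.z_mem_U0 d)) hU
    rwa [inv_mul_cancel_left] at this)
  rw [he1, mul_one] at hze
  exact X.T_inf (mem_Dzy.mpr ⟨mul_inv_eq_iff_eq_mul.mp hze, hxu⟩) hxU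

/-- `C(u, U)/E`. -/
abbrev Dq := ↥X.Dc ⧸ X.E.subgroupOf X.Dc

instance : (X.E.subgroupOf X.Dc).Normal := ⟨fun e he c => by
  have h : c * e * c⁻¹ = e := Subtype.ext (conj_of_commute (X.E_cent (mem_subgroupOf.mp he) c.2))
  rwa [h]⟩

/-- The image of `z`. -/
def zq : X.Dq := QuotientGroup.mk ⟨z, X.z_mem_Dc⟩

/-- `U0` in `Dq`. -/
def U0q : Subgroup X.Dq :=
  ((R.U0 d).subgroupOf X.Dc).map (QuotientGroup.mk' _)

theorem inv_conj_zq {a : X.Dq} (ha : a * a = 1) (ha1 : a ≠ 1) : IsConj X.zq a := by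
  induction a using QuotientGroup.induction_on with
  | H x =>
    have h2 : (x : G) * x ∈ X.E := by
      have := (QuotientGroup.eq_one_iff (x * x)).mp ha
      exact mem_subgroupOf.mp this
    rcases X.inv_mod x.2 h2 with h | ⟨e, he, h, hh, hxe⟩
    · exact absurd ((QuotientGroup.eq_one_iff _).mpr (mem_subgroupOf.mpr h)) ha1
    refine (isConj_iff.mpr ⟨QuotientGroup.mk ⟨h, hh⟩, ?_⟩ : IsConj _ X.zq).symm
    have heD : e ∈ X.Dc := X.E0_le_Dc (X.E_le_E0 he)
    have e1 : (⟨h, hh⟩ : X.Dc) * (x * ⟨e, heD⟩) * (⟨h, hh⟩ : X.Dc)⁻¹ = ⟨z, X.z_mem_Dc⟩ :=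
      Subtype.ext hxe
    rw [zq, ← e1, QuotientGroup.mk_mul, QuotientGroup.mk_mul, QuotientGroup.mk_mul, QuotientGroup.mk_inv,
      show (QuotientGroup.mk ⟨e, heD⟩ : X.Dq) = 1 from
        (QuotientGroup.eq_one_iff _).mpr (mem_subgroupOf.mpr he), mul_one]

theorem zq_ne : X.zq ≠ 1 := fun h => d.hub.ne_one
  (X.E_inf_U0 (mem_subgroupOf.mp ((QuotientGroup.eq_one_iff _).mp h)) (R.z_mem_U0 d))

theorem zq_sq : X.zq * X.zq = 1 := by
  rw [zq, ← QuotientGroup.mk_mul, show (⟨z, X.z_mem_Dc⟩ : X.Dc) * ⟨z, X.z_mem_Dc⟩ = 1 from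
    Subtype.ext d.hub.sq, QuotientGroup.mk_one]

theorem cent_zq : centralizer ({X.zq} : Set X.Dq) = X.U0q := by
  ext a
  induction a using QuotientGroup.induction_on with
  | H x =>
    rw [mem_cz]
    constructor
    · intro hc
      have h : z⁻¹ * ((x : G) * z * (x : G)⁻¹) ∈ X.E := by
        have h1 : (QuotientGroup.mk ((⟨z, X.z_mem_Dc⟩ : X.Dc)⁻¹ * (x * ⟨z, X.z_mem_Dc⟩ * x⁻¹)) :
            X.Dq) = 1 := by
          rw [QuotientGroup.mk_mul, QuotientGroup.mk_inv, QuotientGroup.mk_mul, QuotientGroup.mk_mul,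
            QuotientGroup.mk_inv, show (QuotientGroup.mk x : X.Dq) * QuotientGroup.mk ⟨z, X.z_mem_Dc⟩ =
              QuotientGroup.mk ⟨z, X.z_mem_Dc⟩ * QuotientGroup.mk x from hc.eq]
          group
        exact mem_subgroupOf.mp ((QuotientGroup.eq_one_iff _).mp h1)
      obtain ⟨e, he, hxe⟩ := X.exists_split (X.cent_mod x.2 h)
      have heD : e ∈ X.Dc := X.E0_le_Dc (X.E_le_E0 he)
      refine ⟨x * ⟨e, heD⟩, mem_subgroupOf.mpr hxe, ?_⟩
      show QuotientGroup.mk (x * ⟨e, heD⟩) = (QuotientGroup.mk x : X.Dq)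
      rw [QuotientGroup.mk_mul, show (QuotientGroup.mk ⟨e, heD⟩ : X.Dq) = 1 from
        (QuotientGroup.eq_one_iff _).mpr (mem_subgroupOf.mpr he), mul_one]
    · rintro ⟨p, hp, hpx⟩
      show (QuotientGroup.mk x : X.Dq) * X.zq = X.zq * QuotientGroup.mk x
      rw [← show (QuotientGroup.mk p : X.Dq) = QuotientGroup.mk x from hpx, zq, ← QuotientGroup.mk_mul,
        ← QuotientGroup.mk_mul, show p * ⟨z, X.z_mem_Dc⟩ = ⟨z, X.z_mem_Dc⟩ * p from
          Subtype.ext (mem_Dzy.mp (Subgroup.mem_inf.mp (R.U0_le d (mem_subgroupOf.mp hp))).1).1.eq]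

/-- The quotient map on `U0`. -/
theorem mk_inj_U0 {p q : X.Dc} (hp : (p : G) ∈ R.U0 d) (hq : (q : G) ∈ R.U0 d)
    (h : (QuotientGroup.mk p : X.Dq) = QuotientGroup.mk q) : p = q := by
  have := X.E_inf_U0 (mem_subgroupOf.mp (QuotientGroup.eq.mp h)) (mul_mem (inv_mem hp) hq)
  exact Subtype.ext (inv_mul_eq_one.mp this)

theorem card_U0q : Nat.card ↥X.U0q = 64 := by
  rw [← R.card_U0 d, U0q]
  refine (Nat.card_eq_of_bijective (fun p => ⟨QuotientGroup.mk (⟨p, X.E0_le_Dc (R.U0_le d p.2)⟩ : X.Dc),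
    _, mem_subgroupOf.mpr p.2, rfl⟩) ⟨fun p q h => ?_, ?_⟩).symm
  · exact Subtype.ext (congrArg Subtype.val (X.mk_inj_U0 (p := ⟨p, _⟩) (q := ⟨q, _⟩) p.2 q.2
      (congrArg Subtype.val h)) :)
  · rintro ⟨_, p, hp, rfl⟩
    exact ⟨⟨p, mem_subgroupOf.mp hp⟩, rfl⟩

theorem U0q_pow_four {a : X.Dq} (ha : a ∈ X.U0q) : a ^ 4 = 1 := by
  obtain ⟨p, hp, rfl⟩ := ha
  rw [← map_pow, show p ^ 4 = 1 from Subtype.ext (X.U0_pow_four (mem_subgroupOf.mp hp)), map_one]

theorem isCIT : IsCIT X.Dq := by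
  have : Fact (Nat.Prime 2) := ⟨Nat.prime_two⟩
  intro t ht
  obtain ⟨c, hc⟩ := isConj_iff.mp (X.inv_conj_zq (by rw [← pow_two, ← ht, pow_orderOf_eq_one])
    (fun e => by rw [e, orderOf_one] at ht; omega))
  refine IsPGroup.of_card (n := 6) ?_
  rw [← hc, BSW.card_cent_conj, X.cent_zq, X.card_U0q]
  norm_num

theorem cent_conj_eq (h a : X.Dq) :
    centralizer ({h * a * h⁻¹} : Set X.Dq) =
      (centralizer ({a} : Set X.Dq)).map (MulAut.conj h).toMonoidHom := by
  ext x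
  rw [LargeExtraspecial.mem_conj_iff, mem_cz, mem_cz]
  constructor
  · intro hc
    have := commute_conj h⁻¹ hc
    simpa [mul_assoc] using this
  · intro hc
    have := commute_conj h hc
    simpa [mul_assoc] using this

/-- A noncentral involution of `U0q`. -/
theorem exists_noncentral : ∃ t ∈ X.U0q, t * t = 1 ∧ t ≠ 1 ∧ ∃ s ∈ X.U0q, ¬ Commute s t := by
  have h1 : R.el e1 w0 false false ∈ R.U0 d := ⟨e1, w0, _, _, rfl, rfl, rfl⟩
  have h2 : R.el w0 e2 false false ∈ R.U0 d := ⟨w0, e2, _, _, rfl, rfl, rfl⟩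
  set p : X.Dc := ⟨_, X.E0_le_Dc (R.U0_le d h1)⟩
  set q' : X.Dc := ⟨_, X.E0_le_Dc (R.U0_le d h2)⟩
  have hp2 : p * p = 1 := Subtype.ext (by
    show R.el e1 w0 false false * R.el e1 w0 false false = 1
    rw [R.el_sq d, show xor (q true w0) (B e1 w0) = false by decide,
      show xor (q true e1) (B e1 w0) = false by decide]; simp [Radical.kk])
  refine ⟨QuotientGroup.mk p, ⟨p, mem_subgroupOf.mpr h1, rfl⟩, by
      rw [← QuotientGroup.mk_mul, hp2, QuotientGroup.mk_one], fun e => ?_,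
    QuotientGroup.mk q', ⟨q', mem_subgroupOf.mpr h2, rfl⟩, fun hc => ?_⟩
  · have := X.mk_inj_U0 (q := (1 : X.Dc)) h1 (one_mem _) (e.trans (QuotientGroup.mk_one _).symm)
    have h' : R.el e1 w0 false false = R.el w0 w0 false false := by
      rw [show R.el w0 w0 false false = (1 : G) by rw [R.el_kk d]; simp [Radical.kk]]
      exact congrArg Subtype.val this
    exact absurd (R.el_inj d h').1 (by decide)
  · have := X.mk_inj_U0 (p := q' * p) (q := p * q') (mul_mem h2 h1) (mul_mem h1 h2)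
      (by rw [QuotientGroup.mk_mul, QuotientGroup.mk_mul]; exact hc.eq)
    have hcm : Commute (R.el w0 e2 false false) (R.el e1 w0 false false) := congrArg Subtype.val this
    exact absurd ((R.el_commute d).mp hcm) (by decide)

theorem pCore_eq_bot : Cfsg.pCore 2 X.Dq = ⊥ := by
  have : Fact (Nat.Prime 2) := ⟨Nat.prime_two⟩
  by_contra hne
  set P := Cfsg.pCore 2 X.Dq
  have hP : IsPGroup 2 P := PCore.isPGroup_pCore
  have : Nontrivial P := (Subgroup.nontrivial_iff_ne_bot _).mpr hne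
  obtain ⟨n, hn, hcn⟩ := hP.nontrivial_iff_card.mp inferInstance
  obtain ⟨t, ht⟩ := exists_prime_orderOf_dvd_card' (G := P) 2 (hcn ▸ dvd_pow_self 2 hn.ne')
  rw [← Subgroup.orderOf_coe] at ht
  have hinv : ∀ a : X.Dq, a * a = 1 → a ∈ P := by
    intro a ha
    by_cases h1 : a = 1
    · rw [h1]; exact one_mem _
    obtain ⟨c, rfl⟩ := isConj_iff.mp (((X.inv_conj_zq (a := (t : X.Dq))
      (by rw [← pow_two, ← ht, pow_orderOf_eq_one]) (fun e => by rw [e, orderOf_one] at ht; omega)).symm).trans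
      (X.inv_conj_zq ha h1))
    exact (inferInstance : P.Normal).conj_mem _ t.2 c
  have hinU : ∀ (w v : W) (hw : inU w = true) (hv : inU v = true),
      R.el w v false false ∈ X.Dc := fun w v hw hv =>
    X.E0_le_Dc (R.U0_le d ⟨w, v, _, _, hw, hv, rfl⟩)
  have hle : X.U0q ≤ P := by
    -- `U0` is generated by its involutions
    have key : (R.U0 d).subgroupOf X.Dc ≤ P.comap (QuotientGroup.mk' _) := by
      set H := P.comap (QuotientGroup.mk' (X.E.subgroupOf X.Dc))
      have hsq : ∀ p : X.Dc, (p : G) * p = 1 → p ∈ H := fun p hp => hinv _ (by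
        show (QuotientGroup.mk p : X.Dq) * QuotientGroup.mk p = 1
        rw [← QuotientGroup.mk_mul, show p * p = 1 from Subtype.ext hp, QuotientGroup.mk_one])
      have hkk : ∀ a b, (⟨R.kk a b, X.E0_le_Dc (R.U0_le d ⟨w0, w0, a, b, rfl, rfl,
          (R.el_kk d a b).symm⟩)⟩ : X.Dc) ∈ H := fun a b => hsq _ (by
        show R.kk a b * R.kk a b = 1
        rw [R.kk_mul d]; simp [Radical.kk])
      have step : ∀ (p q r : X.Dc), p ∈ H → q ∈ H → (r : G)⁻¹ * ((p : G) * q) ∈ X.E ∨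
          (∃ a b, (r : G) = (p : G) * q * R.kk a b) → r ∈ H := by
        rintro p q r hp hq (h | ⟨a, b, h⟩)
        · show (QuotientGroup.mk r : X.Dq) ∈ P
          rw [show (QuotientGroup.mk r : X.Dq) = QuotientGroup.mk (p * q) from
            QuotientGroup.eq.mpr (mem_subgroupOf.mpr h), QuotientGroup.mk_mul]
          exact mul_mem hp hq
        · rw [show r = p * q * ⟨R.kk a b, X.E0_le_Dc (R.U0_le d ⟨w0, w0, a, b, rfl, rfl, (R.el_kk d a b).symm⟩)⟩ from Subtype.ext h]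
          exact mul_mem (mul_mem hp hq) (hkk a b)
      have hv : ∀ w v, inU w = true → inU v = true → (w = w0 ∨ v = w0) →
          ∀ hm : R.el w v false false ∈ X.Dc, (⟨R.el w v false false, hm⟩ : X.Dc) ∈ H := by
        intro w v hw hv hor hm
        have basic : ∀ w v (hm : R.el w v false false ∈ X.Dc), xor (q true v) (B w v) = false →
            xor (q true w) (B w v) = false → (⟨_, hm⟩ : X.Dc) ∈ H := fun w v hm h1 h2 => hsq _ (by
          show R.el w v false false * R.el w v false false = 1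
          rw [R.el_sq d, h1, h2]; simp [Radical.kk])
        rcases hor with rfl | rfl
        · have : v = w0 ∨ v = e1 ∨ v = e2 ∨ v = SuzType.add e1 e2 := by
            exact (show ∀ v : W, inU v = true → v = w0 ∨ v = e1 ∨ v = e2 ∨ v = SuzType.add e1 e2 by decide +kernel) v hv
          rcases this with rfl | rfl | rfl | rfl <;> try exact basic _ _ hm rfl rfl
          obtain ⟨a, b, e⟩ := R.el_mul d w0 e1 w0 e2 false false false false
          refine step _ _ _ (basic w0 e1 (hinU _ _ rfl rfl) rfl rfl)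
            (basic w0 e2 (hinU _ _ rfl rfl) rfl rfl) (Or.inr ⟨a, b, ?_⟩)
          show R.el w0 (SuzType.add e1 e2) false false = _
          rw [e, show SuzType.add w0 w0 = w0 from rfl, R.el_mul_kk d]; simp
        · have : w = w0 ∨ w = e1 ∨ w = e2 ∨ w = SuzType.add e1 e2 := by
            exact (show ∀ w : W, inU w = true → w = w0 ∨ w = e1 ∨ w = e2 ∨ w = SuzType.add e1 e2 by decide +kernel) w hw
          rcases this with rfl | rfl | rfl | rfl <;> try exact basic _ _ hm rfl rfl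
          obtain ⟨a, b, e⟩ := R.el_mul d e1 w0 e2 w0 false false false false
          refine step _ _ _ (basic e1 w0 (hinU _ _ rfl rfl) rfl rfl)
            (basic e2 w0 (hinU _ _ rfl rfl) rfl rfl) (Or.inr ⟨a, b, ?_⟩)
          show R.el (SuzType.add e1 e2) w0 false false = _
          rw [e, show SuzType.add w0 w0 = w0 from rfl, R.el_mul_kk d]; simp
      rintro ⟨_, hp⟩ ⟨w, v, a, b, hw, hv', rfl⟩
      refine step _ _ _ (hv w w0 hw rfl (Or.inr rfl) (hinU _ _ hw rfl))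
        (hv w0 v rfl hv' (Or.inl rfl) (hinU _ _ rfl hv')) (Or.inr ⟨a, b, ?_⟩)
      show R.el w v a b = R.el w w0 false false * R.el w0 v false false * R.kk a b
      simp [Radical.el, Radical.kk, R.zero, F.zero, mul_assoc]
    rintro _ ⟨p, hp, rfl⟩
    exact key hp
  -- so `P = U0q` is normal
  have hP64 : X.U0q = P := by
    have := hP.center_nontrivial
    obtain ⟨m, hm, hcm⟩ := (hP.to_subgroup (Subgroup.center P)).nontrivial_iff_card.mp inferInstance
    obtain ⟨c, hc⟩ := exists_prime_orderOf_dvd_card' (G := Subgroup.center P) 2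
      (hcm ▸ dvd_pow_self 2 hm.ne')
    rw [← Subgroup.orderOf_coe, ← Subgroup.orderOf_coe] at hc
    obtain ⟨h, hh⟩ := isConj_iff.mp (X.inv_conj_zq (a := ((c : P) : X.Dq))
      (by rw [← pow_two, ← hc, pow_orderOf_eq_one]) (fun e => by rw [e, orderOf_one] at hc; omega))
    refine Subgroup.eq_of_le_of_card_ge hle ?_
    have hPc : P ≤ centralizer ({((c : P) : X.Dq)} : Set X.Dq) := fun x hx =>
      mem_cz.mpr (congrArg Subtype.val (Subgroup.mem_center_iff.mp c.2 ⟨x, hx⟩))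
    refine (Subgroup.card_le_of_le hPc).trans ?_
    rw [← hh, BSW.card_cent_conj, X.cent_zq]
  obtain ⟨t', ht', ht2, ht1, s, hs, hst⟩ := X.exists_noncentral
  obtain ⟨h, hh⟩ := isConj_iff.mp (X.inv_conj_zq ht2 ht1)
  apply hst
  have : s ∈ centralizer ({t'} : Set X.Dq) := by
    rw [← hh, X.cent_conj_eq, X.cent_zq, hP64, LargeExtraspecial.mem_conj_iff]
    rw [hP64] at hs
    simpa using (inferInstance : P.Normal).conj_mem s hs h⁻¹
  exact mem_cz.mp this

theorem not_solvable : ¬ Group.IsSolvable X.Dq := by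
  intro hs
  have : Nontrivial X.Dq := nontrivial_of_ne _ _ X.zq_ne
  obtain ⟨L, hLn, -, hL, hmin⟩ := Solvable.exists_minimal_normal (K := (⊤ : Subgroup X.Dq)) top_ne_bot
  have hLc : IsMulCommutative L := by
    rcases hmin ⁅L, L⁆ inferInstance (Subgroup.commutator_le_self L) with e | e
    · exact ⟨⟨fun a b => Subtype.ext (commutatorElement_eq_one_iff_mul_comm.mp
        (by rw [← Subgroup.mem_bot, ← e]; exact Subgroup.commutator_mem_commutator a.2 b.2))⟩⟩
    · exfalso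
      refine hL (le_bot_iff.mp ?_)
      obtain ⟨n, hn⟩ := (Group.isSolvable_def X.Dq).mp hs
      rw [← hn]
      clear hn
      induction n with
      | zero => simp
      | succ k ih =>
        rw [derivedSeries_succ]
        calc L = ⁅L, L⁆ := e.symm
          _ ≤ _ := Subgroup.commutator_mono ih ih
  obtain ⟨p, hp, hexp⟩ := Perm.exists_prime_exponent_of_abelian_minimal L hL hmin
  have : Fact p.Prime := ⟨hp⟩
  have hLp : IsPGroup p L := fun x => ⟨1, Subtype.ext (by simpa using hexp x x.2)⟩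
  by_cases hp2 : p = 2
  · subst hp2
    exact hL (eq_bot_iff.mpr (X.pCore_eq_bot ▸ PCore.le_pCore hLp))
  obtain ⟨k, hk⟩ := IsPGroup.iff_card.mp hLp
  have hodd : Odd (Nat.card L) := hk ▸ (hp.odd_of_ne_two hp2).pow
  -- two commuting involutions and their product invert `L`
  obtain ⟨t, htU, ht2, ht1, s, hs', hst⟩ := X.exists_noncentral
  have htz : Commute t X.zq := by
    rw [← X.cent_zq] at htU
    exact mem_cz.mp htU
  have htne : t ≠ X.zq := fun e => hst (by
    rw [e]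
    rw [← X.cent_zq] at hs'
    exact mem_cz.mp hs')
  have ord : ∀ {a : X.Dq}, a * a = 1 → a ≠ 1 → orderOf a = 2 := fun h h1 =>
    orderOf_eq_prime (by rw [pow_two]; exact h) h1
  have hne' : t * X.zq ≠ 1 := fun e => htne (by
    rw [eq_inv_of_mul_eq_one_left e, inv_eq_of_mul_eq_one_right X.zq_sq])
  have hzt2 : t * X.zq * (t * X.zq) = 1 := by
    rw [mul_assoc, ← mul_assoc X.zq, ← htz.eq, mul_assoc t X.zq X.zq, X.zq_sq, mul_one, ht2]
  apply hL
  rw [Subgroup.eq_bot_iff_forall]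
  intro w hw
  have i1 := fun w hw => CITConsumer.inverts_of_odd X.isCIT L hodd (ord X.zq_sq X.zq_ne) (w := w) hw
  have i2 := fun w hw => CITConsumer.inverts_of_odd X.isCIT L hodd (ord ht2 ht1) (w := w) hw
  have i3 := CITConsumer.inverts_of_odd X.isCIT L hodd (ord hzt2 hne') hw
  have : w = w⁻¹ := by
    calc w = t * w⁻¹ * t := by rw [i2 _ (inv_mem hw), inv_inv]
      _ = t * (X.zq * w * X.zq) * t := by rw [i1 _ hw]
      _ = t * X.zq * w * (X.zq * t) := by group
      _ = t * X.zq * w * (t * X.zq) := by conv_rhs => arg 2; rw [htz.eq]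
      _ = w⁻¹ := i3
  refine CIT.eq_one_of_commute X.isCIT (hodd.of_dvd_nat ((L.orderOf_dvd_natCard hw))) (ord X.zq_sq X.zq_ne) ?_
  have h := i1 w hw
  rw [← this] at h
  show w * X.zq = X.zq * w
  calc w * X.zq = X.zq * w * X.zq * X.zq := by rw [h]
    _ = _ := by rw [mul_assoc, X.zq_sq, mul_one]

theorem card_involutions_mul :
    Nat.card {t : X.Dq // orderOf t = 2} * 64 = Nat.card X.Dq := by
  rw [← SmallSimple.card_class_mul_card_centralizer X.zq, X.cent_zq, X.card_U0q]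
  congr 1
  refine Nat.card_congr (Equiv.subtypeEquivRight fun t => ⟨fun h => X.inv_conj_zq
    (by rw [← pow_two, ← h, pow_orderOf_eq_one]) (fun e => by rw [e, orderOf_one] at h; omega), ?_⟩)
  intro h
  obtain ⟨c, rfl⟩ := isConj_iff.mp h
  rw [show c * X.zq * c⁻¹ = MulAut.conj c X.zq from rfl, MulEquiv.orderOf_eq]
  exact orderOf_eq_prime (by rw [pow_two]; exact X.zq_sq) X.zq_ne

/-- `C(u, U)/E` is simple of order `20160`. -/
theorem Dq_simple : IsSimpleGroup X.Dq ∧ Nat.card X.Dq = 20160 := by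
  classical
  have : Fact (Nat.Prime 2) := ⟨Nat.prime_two⟩
  obtain ⟨L, hLn, hLs, hne, hcit, -⟩ :=
    CITConsumer.exists_socle X.isCIT X.not_solvable X.pCore_eq_bot
  obtain ⟨t₀, ht₀⟩ := exists_prime_orderOf_dvd_card' (G := L) 2 (CIT.two_dvd_card hne)
  rw [← Subgroup.orderOf_coe] at ht₀
  have hinvL : ∀ a : X.Dq, a * a = 1 → a ∈ L := by
    intro a ha
    by_cases h1 : a = 1
    · rw [h1]; exact one_mem _
    obtain ⟨c, rfl⟩ := isConj_iff.mp (((X.inv_conj_zq (a := (t₀ : X.Dq))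
      (by rw [← pow_two, ← ht₀, pow_orderOf_eq_one])
      (fun e => by rw [e, orderOf_one] at ht₀; omega)).symm).trans (X.inv_conj_zq ha h1))
    exact hLn.conj_mem _ t₀.2 c
  -- a Sylow 2-subgroup of `L` lies in a centraliser of an involution
  have syl : ∀ S : Sylow 2 L, ∃ h : X.Dq, Nat.card (S : Subgroup L) ∣ 64 ∧
      ∀ x ∈ (S : Subgroup L), h⁻¹ * (x : X.Dq) * h ∈ X.U0q := by
    intro S
    have : Nontrivial (S : Subgroup L) :=
      (Subgroup.nontrivial_iff_ne_bot _).mpr (S.ne_bot_of_dvd_card (CIT.two_dvd_card hne))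
    have := S.2.center_nontrivial
    obtain ⟨m, hm, hcm⟩ := (S.2.to_subgroup (Subgroup.center (S : Subgroup L))).nontrivial_iff_card.mp
      inferInstance
    obtain ⟨c, hc⟩ := exists_prime_orderOf_dvd_card' (G := Subgroup.center (S : Subgroup L)) 2
      (hcm ▸ dvd_pow_self 2 hm.ne')
    rw [← Subgroup.orderOf_coe, ← Subgroup.orderOf_coe, ← Subgroup.orderOf_coe] at hc
    have hc2 := pow_orderOf_eq_one (((c : (S : Subgroup L)) : L) : X.Dq)
    rw [hc, pow_two] at hc2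
    obtain ⟨h, hh⟩ := isConj_iff.mp (X.inv_conj_zq hc2 (fun e => by rw [e, orderOf_one] at hc; omega))
    have hS : ∀ x ∈ (S : Subgroup L), h⁻¹ * (x : X.Dq) * h ∈ X.U0q := by
      intro x hx
      have hcm : Commute (x : X.Dq) (((c : (S : Subgroup L)) : L) : X.Dq) :=
        congrArg (fun w : (S : Subgroup L) => ((w : L) : X.Dq)) (Subgroup.mem_center_iff.mp c.2 ⟨x, hx⟩)
      rw [← X.cent_zq, mem_cz]
      have := commute_conj h⁻¹ hcm
      rwa [inv_inv, ← hh, show h⁻¹ * (h * X.zq * h⁻¹) * h = X.zq by group] at this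
    refine ⟨h, ?_, hS⟩
    rw [← X.card_U0q]
    exact Subgroup.card_dvd_of_injective
      { toFun := fun x : (S : Subgroup L) => (⟨h⁻¹ * ((x : L) : X.Dq) * h, hS x x.2⟩ : X.U0q)
        map_one' := Subtype.ext (by simp)
        map_mul' := fun a b => Subtype.ext (by simp [mul_assoc]) }
      fun a b e => Subtype.ext (Subtype.ext (mul_left_cancel (mul_right_cancel (congrArg Subtype.val e :
        h⁻¹ * ((a : L) : X.Dq) * h = h⁻¹ * ((b : L) : X.Dq) * h))))
  have exp4 : ∀ (S : Sylow 2 L), ∀ x ∈ (S : Subgroup L), x ^ 4 = 1 := by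
    intro S x hx
    obtain ⟨h, -, hS⟩ := syl S
    refine Subtype.ext ?_
    have h1 : (h⁻¹ * (x : X.Dq) * h⁻¹⁻¹) ^ 4 = 1 := by rw [inv_inv]; exact X.U0q_pow_four (hS x hx)
    rw [conj_pow, conj_eq_one_iff] at h1
    simpa using h1
  have hU0L : X.U0q ≤ L := by
    -- otherwise `U0q` would have a quotient with all involutions in the kernel
    intro a ha
    obtain ⟨p, hp, rfl⟩ := ha
    obtain ⟨w, v, i, j, hw, hv, hpe⟩ := mem_subgroupOf.mp hp
    have mm : ∀ (w v : W) (a b : Bool) (hw : inU w = true) (hv : inU v = true),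
        R.el w v a b ∈ X.Dc := fun w v a b hw hv =>
      X.E0_le_Dc (R.U0_le d ⟨w, v, a, b, hw, hv, rfl⟩)
    let q' : ∀ (w v : W) (a b : Bool), inU w = true → inU v = true → X.Dq := fun w v a b hw hv =>
      QuotientGroup.mk ⟨R.el w v a b, mm w v a b hw hv⟩
    have hinvol : ∀ w v a b hw hv, xor (q true v) (B w v) = false → xor (q true w) (B w v) = false →
        q' w v a b hw hv ∈ L := by
      intro w v a b hw hv h1 h2
      refine hinvL _ ?_
      simp only [q']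
      rw [← QuotientGroup.mk_mul, show (⟨_, mm w v a b hw hv⟩ : X.Dc) * ⟨_, mm w v a b hw hv⟩ = 1 from
        Subtype.ext (by show R.el w v a b * R.el w v a b = 1; rw [R.el_sq d, h1, h2]; simp [Radical.kk]),
        QuotientGroup.mk_one]
    have hmul : ∀ w v a b hw hv w' v' a' b' hw' hv', q' w v a b hw hv ∈ L → q' w' v' a' b' hw' hv' ∈ L →
        ∀ i j hs ht, q' (SuzType.add w w') (SuzType.add v v') i j hs ht ∈ L := by
      intro w v a b hw hv w' v' a' b' hw' hv' h1 h2 i j hs ht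
      obtain ⟨a'', b'', e⟩ := R.el_mul d w v w' v' a b a' b'
      have hk := hinvol w0 w0 (xor a'' i) (xor b'' j) rfl rfl rfl rfl
      have := mul_mem (mul_mem h1 h2) hk
      simp only [q'] at this ⊢
      rw [← QuotientGroup.mk_mul, ← QuotientGroup.mk_mul] at this
      convert this using 2
      refine Subtype.ext ?_
      show R.el _ _ i j = R.el w v a b * R.el w' v' a' b' * R.el w0 w0 _ _
      rw [e, R.el_kk d, R.el_mul_kk d]
      congr 1 <;> cases a'' <;> cases b'' <;> cases i <;> cases j <;> rfl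
    have one : ∀ v hv a b, q' w0 v a b rfl hv ∈ L := by
      intro v hv a b
      have : v = w0 ∨ v = e1 ∨ v = e2 ∨ v = SuzType.add e1 e2 := by revert v; decide +kernel
      rcases this with rfl | rfl | rfl | rfl
      · exact hinvol w0 w0 a b rfl hv rfl rfl
      · exact hinvol w0 e1 a b rfl hv rfl rfl
      · exact hinvol w0 e2 a b rfl hv rfl rfl
      · exact hmul w0 e1 false false rfl rfl w0 e2 false false rfl rfl
          (hinvol _ _ _ _ rfl rfl rfl rfl) (hinvol _ _ _ _ rfl rfl rfl rfl) a b rfl hv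
    have two : ∀ w hw a b, q' w w0 a b hw rfl ∈ L := by
      intro w hw a b
      have : w = w0 ∨ w = e1 ∨ w = e2 ∨ w = SuzType.add e1 e2 := by revert w; decide +kernel
      rcases this with rfl | rfl | rfl | rfl
      · exact hinvol w0 w0 a b hw rfl rfl rfl
      · exact hinvol e1 w0 a b hw rfl rfl rfl
      · exact hinvol e2 w0 a b hw rfl rfl rfl
      · exact hmul e1 w0 false false rfl rfl e2 w0 false false rfl rfl
          (hinvol _ _ _ _ rfl rfl rfl rfl) (hinvol _ _ _ _ rfl rfl rfl rfl) a b hw rfl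
    have all := hmul w w0 false false hw rfl w0 v false false rfl hv (two w hw false false)
      (one v hv false false) i j (by rw [(add_zero' w).1]; exact hw) (by rw [(add_zero' v).2]; exact hv)
    simp only [q', (add_zero' w).1, (add_zero' v).2] at all
    convert all using 1
    exact congrArg QuotientGroup.mk (Subtype.ext hpe)
  rcases @CIT.classification_cases L _ _ hLs hne hcit with
    ⟨S, n, hn2, ⟨e⟩⟩ | ⟨P, V, A, hpair, S, hS⟩ | ⟨S, hS⟩
  · exfalso
    -- `DihedralGroup n` of exponent four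
    have h64 : Nat.card (S : Subgroup L) = 64 := by
      obtain ⟨h, hd, -⟩ := syl S
      refine Nat.dvd_antisymm hd ?_
      have hp : IsPGroup 2 ↥(X.U0q.subgroupOf L) :=
        (IsPGroup.of_card (n := 6) (X.card_U0q.trans (by norm_num))).of_equiv (subgroupOfEquivOfLe hU0L).symm
      obtain ⟨S', hS'⟩ := hp.exists_le_sylow
      rw [show Nat.card (S : Subgroup L) = Nat.card (S' : Subgroup L) from
        Nat.card_congr (S.equiv S').toEquiv, ← X.card_U0q,
        ← Nat.card_congr (subgroupOfEquivOfLe hU0L).toEquiv]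
      exact Subgroup.card_dvd_of_le hS'
    have hn : n = 32 := by
      have := Nat.card_congr e.toEquiv
      rw [h64, DihedralGroup.nat_card] at this
      omega
    subst hn
    have h1 := exp4 S (e.symm (DihedralGroup.r 1)) (e.symm (DihedralGroup.r 1)).2
    rw [← Subgroup.coe_pow, ← map_pow, ← OneMemClass.coe_one (S : Subgroup L), Subtype.coe_inj,
      ← map_one e.symm, e.symm.injective.eq_iff, DihedralGroup.r_one_pow] at h1
    exact absurd h1 (by decide)
  · have hcard : Nat.card L = 20160 := @CIT.card_of_four L _ _ hLs hcit hne P V A hpair ⟨S, hS⟩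
    have hinvs : Nat.card {t : X.Dq // orderOf t = 2} = 315 := by
      have h1 := @CIT.FourCount.card_involutions
      have hc : {t : L | orderOf t = 2}.ncard = P.index := by
        apply h1 <;> assumption
      have hP64 : Nat.card P = 4 ^ 3 := hpair.cardP
      have h2 := P.card_mul_index
      rw [hP64, hcard] at h2
      rw [show (315 : ℕ) = P.index by omega, ← hc, ← Nat.card_coe_set_eq]
      refine (Nat.card_eq_of_bijective (fun t => ⟨((t : L) : X.Dq), by
        rw [Subgroup.orderOf_coe]; exact t.2⟩) ⟨?_, ?_⟩).symm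
      · intro a b e
        exact Subtype.ext (Subtype.ext (congrArg Subtype.val e :))
      · rintro ⟨t, ht⟩
        exact ⟨⟨⟨t, hinvL t (by rw [← pow_two, ← ht, pow_orderOf_eq_one])⟩, by
          show orderOf _ = 2; rw [Subgroup.orderOf_mk]; exact ht⟩, rfl⟩
    have hD := X.card_involutions_mul
    rw [hinvs] at hD
    have htop : L = ⊤ := Subgroup.eq_top_of_card_eq _ (by rw [hcard, ← hD])
    refine ⟨?_, hD.symm.trans (by norm_num)⟩
    subst htop
    haveI := hLs
    haveI : Nontrivial X.Dq := nontrivial_of_ne _ _ X.zq_ne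
    exact IsSimpleGroup.isSimpleGroup_of_surjective (⊤ : Subgroup X.Dq).subtype
      (fun x => ⟨⟨x, mem_top x⟩, rfl⟩)
  · exfalso
    -- all involutions of `S` would be central
    haveI := hLs
    have hcfg := CIT.cfg_of_normalizer hcit hne S hS
    obtain ⟨t', ht', ht2, ht1, s, hs, hst⟩ := X.exists_noncentral
    have hp : IsPGroup 2 ↥(X.U0q.subgroupOf L) :=
      (IsPGroup.of_card (n := 6) (X.card_U0q.trans (by norm_num))).of_equiv (subgroupOfEquivOfLe hU0L).symm
    obtain ⟨S', hS'⟩ := hp.exists_le_sylow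
    obtain ⟨g, hg⟩ := MulAction.exists_smul_eq L S' S
    have hmem : ∀ x : L, (x : X.Dq) ∈ X.U0q → g * x * g⁻¹ ∈ (S : Subgroup L) := fun x hx => by
      rw [← hg]
      exact ⟨x, hS' (mem_subgroupOf.mpr hx), rfl⟩
    have hS_le : (S : Subgroup L) ≤ normalizer ((S : Subgroup L) : Set L) := le_normalizer
    have ho : orderOf (g * ⟨t', hU0L ht'⟩ * g⁻¹) = 2 := by
      rw [show g * ⟨t', hU0L ht'⟩ * g⁻¹ = MulAut.conj g ⟨t', hU0L ht'⟩ from rfl, MulEquiv.orderOf_eq,
        Subgroup.orderOf_mk]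
      exact orderOf_eq_prime (by rw [pow_two]; exact ht2) ht1
    have hC : centralizer ({g * ⟨t', hU0L ht'⟩ * g⁻¹} : Set L) = (S : Subgroup L) := by
      obtain ⟨-, -, hC, -⟩ := hcfg
      exact hC _ (hS_le (hmem _ ht')) ho
    have hsS := hmem ⟨s, hU0L hs⟩ hs
    rw [← hC, mem_cz] at hsS
    have := commute_conj g⁻¹ hsS
    apply hst
    have h2 : Commute (⟨s, hU0L hs⟩ : L) ⟨t', hU0L ht'⟩ := by simpa [mul_assoc] using this
    exact congrArg Subtype.val h2

end Four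

end Cfsg.Agent.SuzType
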