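import Cfsg.Agent.Lib.SuzType.UPair
import Mathlib.Algebra.BigOperators.Group.Finset.Basic

/-!
# The second class: the four group `⟨u, u1⟩` and the local fusion

There is a unique kind of involution `u1 ∈ E0` centralised by `U0` and by the cyclic permutation of
`y, z, yz`; it is centralised by the normaliser in `C(u)` of both sixteen-groups of `U0`, so every
conjugate of `z` in `T` is conjugate to `z` inside `C(u, u1)`.
-/

set_option autoImplicit false
set_option maxHeartbeats 400000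
set_option synthInstance.maxSize 2048

namespace Cfsg.Agent.SuzType

open Subgroup
open Cfsg.Agent.LargeExtraspecial (Hub)
open scoped IsMulCommutative

/-- The line `⟨e1⟩`. -/
def inL (w : W) : Bool := decide (w = w0 ∨ w = e1)

/-- The line `⟨e2⟩`. -/
def inL' (w : W) : Bool := decide (w = w0 ∨ w = e2)

theorem inL_add : ∀ u v : W, inL u = true → inL v = true → inL (add u v) = true := by decide +kernel

theorem inL_facts : ∀ w v : W, inL w = true → inL v = true →
    inU w = true ∧ inU v = true ∧ xor (q true v) (B w v) = false ∧ xor (q true w) (B w v) = false := by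
  decide +kernel

theorem inv_sides : ∀ w v : W, inU w = true → inU v = true → xor (q true v) (B w v) = false →
    xor (q true w) (B w v) = false →
    (inL w = true ∧ inL v = true) ∨ (inL' w = true ∧ inL' v = true) := by decide +kernel

theorem sides_cross : ∀ w v w' v' : W, inL w = true → inL v = true → inL' w' = true → inL' v' = true →
    cy w v w' v' = false → cz w v w' v' = false → (w, v) = (w0, w0) ∨ (w', v') = (w0, w0) := by
  decide +kernel

theorem swap_sides : ∀ w v : W, inL' w = true → inL' v = true →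
    inL (swapW (add w v)) = true ∧ inL (swapW v) = true := by decide +kernel

theorem cent_U : ∀ w v : W, (∀ w' v' : W, inU w' = true → inU v' = true →
    cy w' v' w v = false ∧ cz w' v' w v = false) → cy w v e4 e3 = false → cz w v e4 e3 = false →
    (w = w0 ∧ v = w0) ∨ (w = e4 ∧ v = e3) ∨ (w = add e3 e4 ∧ v = e4) ∨ (w = e3 ∧ v = add e3 e4) := by
  decide +kernel

theorem cent_L : ∀ w v : W, (∀ w' v' : W, inL w' = true → inL v' = true →
    cy w' v' w v = false ∧ cz w' v' w v = false) → cy w v e4 e3 = false → cz w v e4 e3 = false →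
    ∀ w' v' : W, (∀ a b : W, inL a = true → inL b = true →
      cy a b w' v' = false ∧ cz a b w' v' = false) → cy w' v' e4 e3 = false → cz w' v' e4 e3 = false →
      cy w v w' v' = false ∧ cz w v w' v' = false := by
  decide +kernel

variable {G : Type*} [Group G] [Finite G] {z y : G} {Q : Subgroup G}

namespace Radical

variable {F : Frame z y Q} (R : Radical F) (d : Data z Q)
include R d

/-- The representative of the second class. -/
local notation "u₀" => Radical.el R e4 e3 false false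

theorem el_u1 (a b : Bool) : R.el (SuzType.add e3 e4) e4 a b ∈ R.E0 d ∧
    R.el (SuzType.add e3 e4) e4 a b * R.el (SuzType.add e3 e4) e4 a b = 1 ∧
    ∀ p ∈ R.U0 d, Commute p (R.el (SuzType.add e3 e4) e4 a b) := by
  refine ⟨(R.mem_E0 d).mpr ⟨_, _, a, b, rfl, by decide, by decide⟩, ?_, ?_⟩
  · rw [R.el_sq d]
    simp [kk, q, B, SuzType.add, e3, e4]
  · rintro _ ⟨w, v, a', b', hw, hv, rfl⟩
    exact (R.el_commute d).mpr ⟨(u_comm w v hw hv).2.2.1, (u_comm w v hw hv).2.2.2⟩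

theorem conj_mem_U0 {g : G} (hg : ∀ t ∈ R.E0 d, g * t * g⁻¹ ∈ R.E0 d) {p : G} (hp : p ∈ R.U0 d) :
    g * p * g⁻¹ ∈ R.U0 d := by
  have hinv : ∀ t ∈ R.U0 d, t * t = 1 → g * t * g⁻¹ ∈ R.U0 d := by
    intro t ht ht2
    by_cases h1 : t = 1
    · rw [h1]; simp
    exact R.z_in_T d (Subgroup.mem_inf.mp (hg t (R.U0_le d ht))).1
      ((R.U0_isConj d ht ht2 h1).trans (isConj_iff.mpr ⟨g, rfl⟩))
  obtain ⟨w, v, a, b, hw, hv, rfl⟩ := hp
  -- a product of four involutions and a central pair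
  have basic : ∀ w v, inU w = true → inU v = true → (w = w0 ∨ v = w0) →
      g * R.el w v false false * g⁻¹ ∈ R.U0 d := by
    intro w v hw hv hor
    have key : ∀ w' v', inU w' = true → inU v' = true → xor (q true v') (B w' v') = false →
        xor (q true w') (B w' v') = false → g * R.el w' v' false false * g⁻¹ ∈ R.U0 d := by
      intro w' v' h1 h2 h3 h4
      refine hinv _ ⟨w', v', _, _, h1, h2, rfl⟩ ?_
      rw [R.el_sq d, h3, h4]; simp [kk]
    have step : ∀ w' v' w'' v'', g * R.el w' v' false false * g⁻¹ ∈ R.U0 d →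
        g * R.el w'' v'' false false * g⁻¹ ∈ R.U0 d → g * R.el (SuzType.add w' w'') (SuzType.add v' v'') false false * g⁻¹ ∈ R.U0 d := by
      intro w' v' w'' v'' h1 h2
      obtain ⟨a', b', e⟩ := R.el_mul d w' v' w'' v'' false false false false
      have hk : g * R.kk a' b' * g⁻¹ ∈ R.U0 d := by
        refine hinv _ ⟨w0, w0, a', b', rfl, rfl, (R.el_kk d a' b').symm⟩ ?_
        rw [R.kk_mul d]; simp [kk]
      have := mul_mem (mul_mem h1 h2) hk
      convert this using 1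
      calc g * R.el (SuzType.add w' w'') (SuzType.add v' v'') false false * g⁻¹
          = g * (R.el w' v' false false * R.el w'' v'' false false * R.kk a' b') * g⁻¹ := by
            rw [e, R.el_mul_kk d]; simp
        _ = _ := by group
    revert w v
    intro w v hw hv hor
    rcases hor with rfl | rfl
    · have hv' : v = w0 ∨ v = e1 ∨ v = e2 ∨ v = SuzType.add e1 e2 := by revert v; decide +kernel
      rcases hv' with rfl | rfl | rfl | rfl
      · exact key w0 w0 rfl rfl rfl rfl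
      · exact key w0 e1 rfl rfl rfl rfl
      · exact key w0 e2 rfl rfl rfl rfl
      · exact step w0 e1 w0 e2 (key w0 e1 rfl rfl rfl rfl) (key w0 e2 rfl rfl rfl rfl)
    · have hw' : w = w0 ∨ w = e1 ∨ w = e2 ∨ w = SuzType.add e1 e2 := by revert w; decide +kernel
      rcases hw' with rfl | rfl | rfl | rfl
      · exact key w0 w0 rfl rfl rfl rfl
      · exact key e1 w0 rfl rfl rfl rfl
      · exact key e2 w0 rfl rfl rfl rfl
      · exact step e1 w0 e2 w0 (key e1 w0 rfl rfl rfl rfl) (key e2 w0 rfl rfl rfl rfl)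
  have e : R.el w v a b = R.el w w0 false false * R.el w0 v a b := by
    simp [el, R.zero, F.zero, kk, mul_assoc]
  have e' : R.el w0 v a b = R.el w0 v false false * R.kk a b := by
    rw [R.el_mul_kk d]; simp
  have hk : g * R.kk a b * g⁻¹ ∈ R.U0 d := by
    refine hinv _ ⟨w0, w0, a, b, rfl, rfl, (R.el_kk d a b).symm⟩ ?_
    rw [R.kk_mul d]; simp [kk]
  have := mul_mem (basic w w0 hw rfl (Or.inr rfl)) (mul_mem (basic w0 v rfl hv (Or.inl rfl)) hk)
  convert this using 1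
  rw [e, e']
  group

/-- A cyclic permutation of `y, z, yz` normalises `E0`. -/
theorem cycle_E0 {g : G} (hgu : Commute g u₀) (h1 : g * y * g⁻¹ = z) (h2 : g * z * g⁻¹ = y * z)
    (h3 : g * (y * z) * g⁻¹ = y) : ∀ t ∈ R.E0 d, g * t * g⁻¹ ∈ R.E0 d := by
  intro t ht
  obtain ⟨k1, k2⟩ := Subgroup.mem_inf.mp ht
  obtain ⟨htz, htu⟩ := mem_Dzy.mp k1
  have a1 : Commute (g * t * g⁻¹) z := h1 ▸ commute_conj g (mem_cz.mp k2)
  have a2 : Commute (g * t * g⁻¹) y := h3 ▸ commute_conj g ((mem_cz.mp k2).mul_right htz)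
  have a3 : Commute (g * t * g⁻¹) u₀ := by
    have := commute_conj g htu
    rwa [conj_of_commute hgu] at this
  exact Subgroup.mem_inf.mpr ⟨mem_Dzy.mpr ⟨a1, a3⟩, mem_cz.mpr a2⟩

theorem conj_kk {g : G} (h1 : g * y * g⁻¹ = z) (h2 : g * z * g⁻¹ = y * z) (a b : Bool) :
    g * R.kk a b * g⁻¹ = R.kk b (xor a b) := by
  calc g * R.kk a b * g⁻¹ = (g * pw y a * g⁻¹) * (g * pw z b * g⁻¹) := by rw [kk]; group
    _ = pw z a * pw (y * z) b := by rw [pw_conj h1, pw_conj h2]
    _ = _ := by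
      have hzy : Commute z y := (d.hub.central y F.sing.1).symm
      cases a <;> cases b <;> simp [kk]
      rw [← mul_assoc, hzy.eq, mul_assoc, d.hub.sq, mul_one]

/-- The involution `u1`. -/
theorem exists_fixed {g : G} (hgu : Commute g u₀) (h1 : g * y * g⁻¹ = z) (h2 : g * z * g⁻¹ = y * z)
    (h3 : g * (y * z) * g⁻¹ = y) : ∃ a b, Commute g (R.el (SuzType.add e3 e4) e4 a b) := by
  obtain ⟨hE, -, hU⟩ := R.el_u1 d false false
  have hn := R.cycle_E0 d hgu h1 h2 h3
  have hn' : ∀ t ∈ R.E0 d, g⁻¹ * t * g ∈ R.E0 d := by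
    intro t ht
    have hfix : ((R.E0 d).map (MulAut.conj g).toMonoidHom) = R.E0 d :=
      Subgroup.eq_of_le_of_card_ge (by rintro _ ⟨r, hr, rfl⟩; exact hn r hr)
        (by rw [Subgroup.card_map_of_injective (MulAut.conj g).injective])
    rw [← hfix] at ht
    obtain ⟨r, hr, rfl⟩ := ht
    convert hr using 1
    simp [mul_assoc]
  set u₁ := R.el (SuzType.add e3 e4) e4 false false with hu₁
  obtain ⟨w, v, i, j, e, c1, c2⟩ := (R.mem_E0 d).mp (hn u₁ hE)
  have hwv : ∀ w' v', inU w' = true → inU v' = true →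
      cy w' v' w v = false ∧ cz w' v' w v = false := by
    intro w' v' hw' hv'
    have hm : R.el w' v' false false ∈ R.U0 d := ⟨w', v', _, _, hw', hv', rfl⟩
    have hp := R.conj_mem_U0 d (g := g⁻¹) (by simpa using hn') hm
    have := commute_conj g (hU _ hp)
    rw [e, show g * (g⁻¹ * R.el w' v' false false * g⁻¹⁻¹) * g⁻¹ = R.el w' v' false false by group]
      at this
    exact (R.el_commute d).mp this
  -- the images of `u₀` and of the central pairs are excluded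
  have hkk : ∀ i j, g⁻¹ * R.kk i j * g = R.kk (xor i j) i := by
    intro i j
    have := R.conj_kk d h1 h2 (xor i j) i
    rw [show xor (xor i j) i = j by cases i <;> cases j <;> rfl] at this
    rw [← this]; group
  have hback : u₁ = g⁻¹ * R.el w v i j * g := by rw [← e]; group
  have hgi : g⁻¹ * u₀ * g⁻¹⁻¹ = u₀ := conj_of_commute hgu.inv_left
  have g3 : g * g * g ∈ R.E0 d := by
    refine Subgroup.mem_inf.mpr ⟨mem_Dzy.mpr ⟨?_, (hgu.mul_left hgu).mul_left hgu⟩, mem_cz.mpr ?_⟩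
    · refine mul_inv_eq_iff_eq_mul.mp ?_
      calc g * g * g * z * (g * g * g)⁻¹ = g * (g * (g * z * g⁻¹) * g⁻¹) * g⁻¹ := by group
        _ = z := by rw [h2, h3, h1]
    · refine mul_inv_eq_iff_eq_mul.mp ?_
      calc g * g * g * y * (g * g * g)⁻¹ = g * (g * (g * y * g⁻¹) * g⁻¹) * g⁻¹ := by group
        _ = y := by rw [h1, h2, h3]
  rcases cent_U w v hwv c1 c2 with ⟨rfl, rfl⟩ | ⟨rfl, rfl⟩ | ⟨rfl, rfl⟩ | ⟨rfl, rfl⟩
  · rw [R.el_kk d, hkk, ← R.el_kk d] at hback
    exact absurd (R.el_inj d hback).2.1 (by decide)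
  · have e4' : R.el e4 e3 i j = u₀ * R.kk i j := by rw [R.el_mul_kk d]; simp
    have : g⁻¹ * R.el e4 e3 i j * g = u₀ * R.kk (xor i j) i := by
      rw [e4', ← hkk i j]
      calc g⁻¹ * (u₀ * R.kk i j) * g = g⁻¹ * u₀ * g⁻¹⁻¹ * (g⁻¹ * R.kk i j * g) := by group
        _ = _ := by rw [hgi]
    rw [this, R.el_mul_kk d] at hback
    exact absurd (R.el_inj d hback).2.1 (by decide)
  · refine ⟨j, xor i j, mul_inv_eq_iff_eq_mul.mp ?_⟩
    have ea : ∀ a b, R.el (SuzType.add e3 e4) e4 a b = u₁ * R.kk a b := fun a b => by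
      rw [hu₁, R.el_mul_kk d]; simp
    rw [ea j (xor i j)]
    calc g * (u₁ * R.kk j (xor i j)) * g⁻¹ = (g * u₁ * g⁻¹) * (g * R.kk j (xor i j) * g⁻¹) := by group
      _ = _ := by
        rw [e, R.conj_kk d h1 h2, R.el_mul_kk d, ← ea]
        congr 1 <;> cases i <;> cases j <;> rfl
  · exfalso
    -- `g³` would move `u₁` to its product with `u₀`
    obtain ⟨a', b', em⟩ := R.el_mul d e4 e3 (SuzType.add e3 e4) e4 false false false false
    rw [show SuzType.add e4 (SuzType.add e3 e4) = e3 by decide] at em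
    have ed : R.el e3 (SuzType.add e3 e4) i j = u₀ * u₁ * R.kk (xor a' i) (xor b' j) := by
      rw [hu₁, em, R.el_mul_kk d]
      congr 1 <;> cases a' <;> cases b' <;> cases i <;> cases j <;> rfl
    obtain ⟨K, hK⟩ : ∃ K, g * u₁ * g⁻¹ = u₀ * u₁ * K ∧ ∃ p r, K = R.kk p r :=
      ⟨_, e.trans ed, _, _, rfl⟩
    obtain ⟨hK, p, r, rfl⟩ := hK
    have hu₀ : g * u₀ * g⁻¹ = u₀ := conj_of_commute hgu
    have huK : ∀ p r, Commute u₀ (R.kk p r) := R.commute_kk d (R.el_mem d _ _ _ _)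
    have huu : u₀ * u₀ = 1 := (R.u_facts d).1
    have s2 : g * g * u₁ * (g * g)⁻¹ = u₁ * R.kk (xor p r) (xor r (xor p r)) := by
      calc g * g * u₁ * (g * g)⁻¹ = g * (g * u₁ * g⁻¹) * g⁻¹ := by group
        _ = (g * u₀ * g⁻¹) * (g * u₁ * g⁻¹) * (g * R.kk p r * g⁻¹) := by
          conv_lhs => rw [hK]
          group
        _ = u₀ * u₀ * (u₁ * (R.kk p r * R.kk r (xor p r))) := by
            rw [hu₀, hK, R.conj_kk d h1 h2]; group
        _ = _ := by rw [huu, one_mul, R.kk_mul d]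
    have s3 : g * g * g * u₁ * (g * g * g)⁻¹ = u₀ * u₁ * R.kk false false := by
      calc g * g * g * u₁ * (g * g * g)⁻¹ = g * (g * g * u₁ * (g * g)⁻¹) * g⁻¹ := by group
        _ = (g * u₁ * g⁻¹) * (g * R.kk (xor p r) (xor r (xor p r)) * g⁻¹) := by rw [s2]; group
        _ = _ := by
          rw [hK, R.conj_kk d h1 h2, mul_assoc (u₀ * u₁), R.kk_mul d]
          congr 2 <;> cases p <;> cases r <;> rfl
    obtain ⟨w₃, v₃, a₃, b₃, e₃, -, -⟩ := (R.mem_E0 d).mp g3
    have s4 := R.el_conj d w₃ v₃ (SuzType.add e3 e4) e4 a₃ b₃ false false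
    rw [← e₃, ← hu₁, s3, hu₁, em, R.el_mul_kk d, R.el_mul_kk d] at s4
    exact absurd (R.el_inj d s4).2.1 (by decide)

/-- A sixteen-group of `U0`. -/
def A1 : Subgroup G where
  carrier := {g | ∃ w v a b, inL w = true ∧ inL v = true ∧ g = R.el w v a b}
  one_mem' := ⟨w0, w0, false, false, rfl, rfl, by rw [R.el_kk d]; simp [kk]⟩
  mul_mem' := by
    rintro _ _ ⟨w, v, a, b, h1, h2, rfl⟩ ⟨w', v', a', b', h1', h2', rfl⟩
    obtain ⟨a'', b'', e⟩ := R.el_mul d w v w' v' a b a' b'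
    exact ⟨_, _, a'', b'', inL_add _ _ h1 h1', inL_add _ _ h2 h2', e⟩
  inv_mem' := by
    rintro _ ⟨w, v, a, b, h1, h2, rfl⟩
    refine ⟨w, v, a, b, h1, h2, inv_eq_of_mul_eq_one_right ?_⟩
    rw [R.el_sq d, (inL_facts w v h1 h2).2.2.1, (inL_facts w v h1 h2).2.2.2]
    simp [kk]

theorem A1_le : R.A1 d ≤ R.U0 d := by
  rintro _ ⟨w, v, a, b, h1, h2, rfl⟩
  exact ⟨w, v, a, b, (inL_facts w v h1 h2).1, (inL_facts w v h1 h2).2.1, rfl⟩

theorem A1_sq {t : G} (ht : t ∈ R.A1 d) : t * t = 1 := by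
  obtain ⟨w, v, a, b, h1, h2, rfl⟩ := ht
  rw [R.el_sq d, (inL_facts w v h1 h2).2.2.1, (inL_facts w v h1 h2).2.2.2]
  simp [kk]

theorem A1_comm {t t' : G} (ht : t ∈ R.A1 d) (ht' : t' ∈ R.A1 d) : Commute t t' := by
  have h := R.A1_sq d (mul_mem ht ht')
  have e1 := inv_eq_of_mul_eq_one_right h
  rw [mul_inv_rev, inv_eq_of_mul_eq_one_right (R.A1_sq d ht),
    inv_eq_of_mul_eq_one_right (R.A1_sq d ht')] at e1
  exact e1.symm

theorem kk_mem_A1 (a b : Bool) : R.kk a b ∈ R.A1 d :=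
  ⟨w0, w0, a, b, rfl, rfl, (R.el_kk d a b).symm⟩

theorem card_A1 : Nat.card ↥(R.A1 d) = 16 := by
  classical
  let f : {w : W // inL w = true} × {w : W // inL w = true} × Bool × Bool → ↥(R.A1 d) := fun t =>
    ⟨R.el t.1 t.2.1 t.2.2.1 t.2.2.2, _, _, _, _, t.1.2, t.2.1.2, rfl⟩
  rw [← Nat.card_eq_of_bijective f ⟨?_, ?_⟩]
  · have : Fintype.card {w : W // inL w = true} = 2 := by decide
    simp [Nat.card_eq_fintype_card, this]
  · rintro ⟨⟨w, _⟩, ⟨v, _⟩, a, b⟩ ⟨⟨w', _⟩, ⟨v', _⟩, a', b'⟩ e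
    obtain ⟨rfl, rfl, rfl, rfl⟩ := R.el_inj d (congrArg Subtype.val e)
    rfl
  · rintro ⟨_, w, v, a, b, h1, h2, rfl⟩
    exact ⟨(⟨w, h1⟩, ⟨v, h2⟩, a, b), rfl⟩

theorem s_conj_E0 {s : G} (hs : s ∈ Dzy z u₀) (hsy : s * y * s⁻¹ = y * z) :
    ∀ t ∈ R.E0 d, s * t * s⁻¹ ∈ R.E0 d := by
  intro t ht
  obtain ⟨h1, h2⟩ := Subgroup.mem_inf.mp ht
  obtain ⟨hsz, hsu⟩ := mem_Dzy.mp hs
  refine Subgroup.mem_inf.mpr ⟨mul_mem (mul_mem hs h1) (inv_mem hs), mem_cz.mpr ?_⟩
  have a1 := commute_conj s (mem_cz.mp h2)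
  rw [hsy] at a1
  have a2 := commute_conj s (mem_Dzy.mp h1).1
  rw [conj_of_commute hsz] at a2
  have := a1.mul_right a2
  rwa [mul_assoc y, d.hub.sq, mul_one] at this

/-- The two sixteen-groups absorb elementary abelian subgroups of order sixteen. -/
theorem side_or {E : Subgroup G} (hE : E ≤ R.U0 d) (hsq : ∀ t ∈ E, t * t = 1) :
    E ≤ R.A1 d ∨ ∀ t ∈ E, ∃ w v a b, inL' w = true ∧ inL' v = true ∧ t = R.el w v a b := by
  by_cases hall : E ≤ R.A1 d
  · exact Or.inl hall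
  right
  obtain ⟨t₀, ht₀, ht₀'⟩ := SetLike.not_le_iff_exists.mp hall
  have sides : ∀ t ∈ E, ∃ w v a b, t = R.el w v a b ∧
      ((inL w = true ∧ inL v = true) ∨ (inL' w = true ∧ inL' v = true)) := by
    intro t ht
    obtain ⟨w, v, a, b, hw, hv, rfl⟩ := hE ht
    have h2 := hsq _ ht
    rw [R.el_sq d] at h2
    obtain ⟨s1, s2⟩ := pw_yz_inj d.hub F.sing (h2.trans (by simp : (1 : G) = pw y false * pw z false))
    exact ⟨w, v, a, b, rfl, inv_sides w v hw hv s1 s2⟩
  obtain ⟨w₀, v₀, a₀, b₀, e₀, h₀ | h₀⟩ := sides t₀ ht₀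
  · exact absurd ⟨_, _, a₀, b₀, h₀.1, h₀.2, e₀⟩ ht₀'
  intro t ht
  obtain ⟨w, v, a, b, e, h | h⟩ := sides t ht
  · have hc : Commute t t₀ := by
      have e1 := inv_eq_of_mul_eq_one_right (hsq _ (mul_mem ht ht₀))
      rw [mul_inv_rev, inv_eq_of_mul_eq_one_right (hsq _ ht),
        inv_eq_of_mul_eq_one_right (hsq _ ht₀)] at e1
      exact e1.symm
    rw [e, e₀] at hc
    obtain ⟨c1, c2⟩ := (R.el_commute d).mp hc
    rcases sides_cross w v w₀ v₀ h.1 h.2 h₀.1 h₀.2 c1 c2 with hh | hh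
    · obtain ⟨rfl, rfl⟩ := Prod.ext_iff.mp hh
      exact ⟨w0, w0, a, b, rfl, rfl, e⟩
    · obtain ⟨rfl, rfl⟩ := Prod.ext_iff.mp hh
      exact absurd ⟨w0, w0, a₀, b₀, rfl, rfl, e₀⟩ ht₀'
  · exact ⟨w, v, a, b, h.1, h.2, e⟩

/-- Conjugation by the swap sends the second side to the first. -/
theorem swap_side {s : G} (hsel : ∀ w v a b, ∃ a' b',
    s * R.el w v a b * s⁻¹ = R.el (swapW (SuzType.add w v)) (swapW v) a' b') {t : G}
    (ht : ∃ w v a b, inL' w = true ∧ inL' v = true ∧ t = R.el w v a b) : s * t * s⁻¹ ∈ R.A1 d := by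
  obtain ⟨w, v, a, b, h1, h2, rfl⟩ := ht
  obtain ⟨a', b', e⟩ := hsel w v a b
  exact ⟨_, _, a', b', (swap_sides w v h1 h2).1, (swap_sides w v h1 h2).2, e⟩

/-- The normaliser of `A1` in `C(u₀)`. -/
def NA : Subgroup G :=
  centralizer ({u₀} : Set G) ⊓ normalizer ((R.A1 d : Subgroup G) : Set G)

theorem mem_NA {g : G} (hg : Commute g u₀) (h : ∀ t ∈ R.A1 d, g * t * g⁻¹ ∈ R.A1 d) :
    g ∈ R.NA d :=
  Subgroup.mem_inf.mpr ⟨mem_cz.mpr hg, mem_normalizer_fintype (fun n hn => h n hn)⟩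

theorem NA_conj {g : G} (hg : g ∈ R.NA d) {t : G} (ht : t ∈ R.A1 d) : g * t * g⁻¹ ∈ R.A1 d :=
  (mem_normalizer_iff.mp (Subgroup.mem_inf.mp hg).2 t).mp ht

theorem E0_le_NA : R.E0 d ≤ R.NA d := by
  intro e he
  refine R.mem_NA d (mem_Dzy.mp (Subgroup.mem_inf.mp he).1).2 fun t ht => ?_
  obtain ⟨w, v, a, b, h1, h2, rfl⟩ := ht
  obtain ⟨w', v', a', b', rfl, -, -⟩ := (R.mem_E0 d).mp he
  rw [R.el_conj d, R.el_mul_kk d]
  exact ⟨_, _, _, _, h1, h2, rfl⟩

theorem cycle_mem_NA {g : G} (hgu : Commute g u₀) (h1 : g * y * g⁻¹ = z) (h2 : g * z * g⁻¹ = y * z)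
    (h3 : g * (y * z) * g⁻¹ = y) : g ∈ R.NA d := by
  have hn := R.cycle_E0 d hgu h1 h2 h3
  obtain ⟨s, hs, hsy, hsel⟩ := R.exists_swap d
  have hmap : ∀ h : G, (∀ t ∈ R.E0 d, h * t * h⁻¹ ∈ R.E0 d) →
      (∀ t ∈ R.A1 d, h * t * h⁻¹ ∈ R.A1 d) ∨ ∀ t ∈ R.A1 d,
        ∃ w v a b, inL' w = true ∧ inL' v = true ∧ h * t * h⁻¹ = R.el w v a b := by
    intro h hh
    rcases R.side_or d (E := (R.A1 d).map (MulAut.conj h).toMonoidHom)
      (by rintro _ ⟨t, ht, rfl⟩; exact R.conj_mem_U0 d hh (R.A1_le d ht))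
      (by rintro _ ⟨t, ht, rfl⟩; exact conj_sq (R.A1_sq d ht)) with hl | hl
    · exact Or.inl fun t ht => hl ⟨t, ht, rfl⟩
    · exact Or.inr fun t ht => hl _ ⟨t, ht, rfl⟩
  rcases hmap g hn with hg | hg
  · exact R.mem_NA d hgu hg
  exfalso
  -- `g²` goes back, so `g³` would leave `A1`
  have hn2 : ∀ t ∈ R.E0 d, g * g * t * (g * g)⁻¹ ∈ R.E0 d := fun t ht => by
    have := hn _ (hn t ht)
    convert this using 1
    group
  have g3A : g * g * g ∈ R.E0 d := by
    refine Subgroup.mem_inf.mpr ⟨mem_Dzy.mpr ⟨?_, (hgu.mul_left hgu).mul_left hgu⟩, mem_cz.mpr ?_⟩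
    · refine mul_inv_eq_iff_eq_mul.mp ?_
      calc g * g * g * z * (g * g * g)⁻¹ = g * (g * (g * z * g⁻¹) * g⁻¹) * g⁻¹ := by group
        _ = z := by rw [h2, h3, h1]
    · refine mul_inv_eq_iff_eq_mul.mp ?_
      calc g * g * g * y * (g * g * g)⁻¹ = g * (g * (g * y * g⁻¹) * g⁻¹) * g⁻¹ := by group
        _ = y := by rw [h1, h2, h3]
  set t₁ := R.el e1 w0 false false
  have ht₁ : t₁ ∈ R.A1 d := ⟨e1, w0, _, _, rfl, rfl, rfl⟩
  -- it suffices that `g t₁ g⁻¹` is in `A1`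
  suffices hpA : g * t₁ * g⁻¹ ∈ R.A1 d by
    obtain ⟨w, v, a, b, k1, k2, e⟩ := hg t₁ ht₁
    obtain ⟨w', v', a', b', k1', k2', e'⟩ := hpA
    obtain ⟨rfl, rfl, -, -⟩ := R.el_inj d (e.symm.trans e')
    have hzero : ∀ w v : W, inL' w = true → inL' v = true → inL w = true → inL v = true →
        w = w0 ∧ v = w0 := by decide +kernel
    obtain ⟨rfl, rfl⟩ := hzero w v k1 k2 k1' k2'
    have h := R.conj_kk d h1 h2 (xor a b) a
    rw [show xor (xor a b) a = b by cases a <;> cases b <;> rfl, ← R.el_kk d a b, ← e] at h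
    have h' : t₁ = R.el w0 w0 (xor a b) a := by
      rw [R.el_kk d]; exact (mul_left_cancel (mul_right_cancel h)).symm
    exact absurd (R.el_inj d h').1 (by decide)
  rcases hmap (g * g) hn2 with hgg | hgg
  · have heq : (R.A1 d).map (MulAut.conj (g * g)).toMonoidHom = R.A1 d :=
      Subgroup.eq_of_le_of_card_ge (by rintro _ ⟨t, ht, rfl⟩; exact hgg t ht)
        (by rw [card_map_of_injective (MulAut.conj _).injective])
    have h := R.NA_conj d (R.E0_le_NA d g3A) ht₁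
    rw [← heq] at h
    obtain ⟨t, ht, et⟩ := h
    simp only [MulEquiv.coe_toMonoidHom, MulAut.conj_apply] at et
    rwa [show g * t₁ * g⁻¹ = t from (mul_left_cancel (mul_right_cancel
      (et.trans (by group : _ = g * g * (g * t₁ * g⁻¹) * (g * g)⁻¹)))).symm]
  · have heq : (R.A1 d).map (MulAut.conj (s * g)).toMonoidHom = R.A1 d := by
      refine Subgroup.eq_of_le_of_card_ge ?_ (by rw [card_map_of_injective (MulAut.conj _).injective])
      rintro _ ⟨t, ht, rfl⟩
      convert R.swap_side d hsel (hg t ht) using 1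
      simp [mul_assoc]
    have h := R.swap_side d hsel (hgg t₁ ht₁)
    rw [← heq] at h
    obtain ⟨t, ht, et⟩ := h
    simp only [MulEquiv.coe_toMonoidHom, MulAut.conj_apply] at et
    rwa [show g * t₁ * g⁻¹ = t from (mul_left_cancel (mul_right_cancel
      (et.trans (by group : _ = s * g * (g * t₁ * g⁻¹) * (s * g)⁻¹)))).symm]

/-- `C(A1)` inside `C(u₀)` is abelian. -/
theorem cent_A1_E0 {c : G} (hc : Commute c u₀) (hA : ∀ t ∈ R.A1 d, Commute c t) : c ∈ R.E0 d :=
  Subgroup.mem_inf.mpr ⟨mem_Dzy.mpr ⟨by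
    have := hA _ (R.kk_mem_A1 d false true); simpa [kk] using this, hc⟩,
    mem_cz.mpr (by have := hA _ (R.kk_mem_A1 d true false); simpa [kk] using this)⟩

theorem cent_A1_comm {c c' : G} (hc : Commute c u₀) (hA : ∀ t ∈ R.A1 d, Commute c t)
    (hc' : Commute c' u₀) (hA' : ∀ t ∈ R.A1 d, Commute c' t) : Commute c c' := by
  obtain ⟨w, v, a, b, rfl, h1, h2⟩ := (R.mem_E0 d).mp (R.cent_A1_E0 d hc hA)
  obtain ⟨w', v', a', b', rfl, h1', h2'⟩ := (R.mem_E0 d).mp (R.cent_A1_E0 d hc' hA')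
  have k : ∀ {w v a b}, (∀ t ∈ R.A1 d, Commute (R.el w v a b) t) → ∀ p q : W, inL p = true →
      inL q = true → cy p q w v = false ∧ cz p q w v = false := fun h p q hp hq =>
    (R.el_commute d).mp (h _ ⟨p, q, false, false, hp, hq, rfl⟩).symm
  exact (R.el_commute d).mpr (cent_L w v (k hA) h1 h2 w' v' (k hA') h1' h2')

/-- The class function separating `u1` from `A1`. -/
noncomputable def sep (_R : Radical F) (p : G) : Bool × Bool := ((F.vof p).2.2.1, (F.vof p).2.2.2)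

theorem sep_mul {p p' : G} (hp : p ∈ R.E0 d) (hp' : p' ∈ R.E0 d) :
    R.sep (p * p') = (xor (R.sep p).1 (R.sep p').1, xor (R.sep p).2 (R.sep p').2) := by
  obtain ⟨w, v, a, b, rfl, -, -⟩ := (R.mem_E0 d).mp hp
  obtain ⟨w', v', a', b', rfl, -, -⟩ := (R.mem_E0 d).mp hp'
  simp only [sep]
  rw [F.vof_mul d (R.el_mem d w v a b) (R.el_mem d w' v' a' b'), R.el_act d, Frame.wof_coord]

theorem orbit_A1 {t : G} (ht : t ∈ R.A1 d) (h1 : t ≠ 1) : ∃ n ∈ R.NA d, n * t * n⁻¹ = z := by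
  obtain ⟨hu2, -, -, huz, -⟩ := R.u_facts d
  obtain ⟨s, hs, hsy, hsel⟩ := R.exists_swap d
  have htU := R.A1_le d ht
  obtain ⟨g, hgu, hg⟩ := R.trans_u d (R.U0_isConj d htU (R.A1_sq d ht) h1)
    (mem_Dzy.mp (Subgroup.mem_inf.mp (R.U0_le d htU)).1).2
  have himg : ∀ p ∈ R.A1 d, g * p * g⁻¹ ∈ R.U0 d := by
    intro p hp
    by_cases h : p = 1
    · rw [h]; simp
    refine R.z_in_T d (mem_Dzy.mpr ⟨hg ▸ commute_conj g (R.A1_comm d hp ht), ?_⟩)
      ((R.U0_isConj d (R.A1_le d hp) (R.A1_sq d hp) h).trans (isConj_iff.mpr ⟨g, rfl⟩))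
    have := commute_conj g (mem_Dzy.mp (Subgroup.mem_inf.mp (R.U0_le d (R.A1_le d hp))).1).2
    rwa [conj_of_commute hgu] at this
  rcases R.side_or d (E := (R.A1 d).map (MulAut.conj g).toMonoidHom)
    (by rintro _ ⟨p, hp, rfl⟩; exact himg p hp)
    (by rintro _ ⟨p, hp, rfl⟩; exact conj_sq (R.A1_sq d hp)) with hl | hl
  · exact ⟨g, R.mem_NA d hgu fun p hp => hl ⟨p, hp, rfl⟩, hg⟩
  · refine ⟨s * g, R.mem_NA d ((mem_Dzy.mp hs).2.mul_left hgu) fun p hp => ?_, ?_⟩
    · have := R.swap_side d hsel (hl _ ⟨p, hp, rfl⟩)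
      convert this using 1
      simp [mul_assoc]
    · calc s * g * t * (s * g)⁻¹ = s * (g * t * g⁻¹) * s⁻¹ := by group
        _ = z := by rw [hg, conj_of_commute (mem_Dzy.mp hs).1]

theorem z_mem_A1 : z ∈ R.A1 d := by
  have := R.kk_mem_A1 d false true
  simpa [kk] using this

theorem swap_not_NA {s : G} (hsel : ∀ w v a b, ∃ a' b',
    s * R.el w v a b * s⁻¹ = R.el (swapW (SuzType.add w v)) (swapW v) a' b') : s ∉ R.NA d := by
  intro h
  obtain ⟨a', b', e⟩ := hsel e1 w0 false false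
  obtain ⟨w, v, a, b, h1, -, e'⟩ := R.NA_conj d h (⟨e1, w0, false, false, rfl, rfl, rfl⟩ :
    R.el e1 w0 false false ∈ R.A1 d)
  rw [e] at e'
  rw [← (R.el_inj d e').1] at h1
  exact absurd h1 (by decide)

theorem NA_stab {n : G} (hn : n ∈ R.NA d) (hz : Commute n z) : n ∈ R.E0 d := by
  obtain ⟨s, hs, hsy, hsel⟩ := R.exists_swap d
  rcases R.T_cases d hs hsy (mem_Dzy.mpr ⟨hz, mem_cz.mp (Subgroup.mem_inf.mp hn).1⟩) with
    h | ⟨e, he, rfl⟩
  · exact h
  · refine absurd ?_ (R.swap_not_NA d hsel)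
    have := mul_mem hn (inv_mem (R.E0_le_NA d he))
    rwa [mul_inv_cancel_right] at this

/-- `NA` centralises `u1`. -/
theorem NA_cent {g : G} (hgu : Commute g u₀) (h1 : g * y * g⁻¹ = z) (h2 : g * z * g⁻¹ = y * z)
    (h3 : g * (y * z) * g⁻¹ = y) {a b : Bool}
    (hg : Commute g (R.el (SuzType.add e3 e4) e4 a b)) {n : G} (hn : n ∈ R.NA d) :
    Commute n (R.el (SuzType.add e3 e4) e4 a b) := by
  classical
  set N := R.NA d with hN
  set U := R.el (SuzType.add e3 e4) e4 a b with hU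
  obtain ⟨hUE, hU2, hUU⟩ := R.el_u1 d a b
  obtain ⟨hUz, hUu⟩ := mem_Dzy.mp (Subgroup.mem_inf.mp hUE).1
  -- the abelian group `C(A1)`
  let CA : Subgroup G := centralizer ({u₀} : Set G) ⊓ centralizer ((R.A1 d : Subgroup G) : Set G)
  have hCA : ∀ {c}, c ∈ CA → Commute c u₀ ∧ ∀ t ∈ R.A1 d, Commute c t := fun hc =>
    ⟨mem_cz.mp (Subgroup.mem_inf.mp hc).1,
      fun t ht => (mem_centralizer_iff.mp (Subgroup.mem_inf.mp hc).2 t ht).symm⟩
  haveI : IsMulCommutative ↥CA :=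
    ⟨⟨fun c c' => Subtype.ext (R.cent_A1_comm d (hCA c.2).1 (hCA c.2).2 (hCA c'.2).1 (hCA c'.2).2)⟩⟩
  have hconjCA : ∀ m ∈ N, ∀ c ∈ CA, m * c * m⁻¹ ∈ CA := by
    intro m hm c hc
    refine Subgroup.mem_inf.mpr ⟨mem_cz.mpr ?_, mem_centralizer_iff.mpr fun t ht => ?_⟩
    · have := commute_conj m (hCA hc).1
      rwa [conj_of_commute (mem_cz.mp (Subgroup.mem_inf.mp hm).1)] at this
    · have := commute_conj m ((hCA hc).2 _ (R.NA_conj d (inv_mem hm) ht))
      rw [show m * (m⁻¹ * t * m⁻¹⁻¹) * m⁻¹ = t by group] at this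
      exact this.symm
  have hUCA : U ∈ CA := Subgroup.mem_inf.mpr ⟨mem_cz.mpr hUu,
    mem_centralizer_iff.mpr fun t ht => hUU t (R.A1_le d ht)⟩
  have hE0U : ∀ e ∈ R.E0 d, Commute e U := by
    intro e he
    obtain ⟨w, v, a', b', rfl, c1, c2⟩ := (R.mem_E0 d).mp he
    refine (R.el_commute d).mpr ?_
    have : ∀ w v : W, cy w v e4 e3 = false → cz w v e4 e3 = false →
        cy w v (SuzType.add e3 e4) e4 = false ∧ cz w v (SuzType.add e3 e4) e4 = false := by
      decide +kernel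
    exact this w v c1 c2
  -- the cosets of `E0` in `N`
  let H := (R.E0 d).subgroupOf N
  haveI : Fintype (↥N ⧸ H) := Fintype.ofFinite _
  let val : ↥N ⧸ H → ↥CA := Quotient.lift
    (fun m : ↥N => (⟨(m : G) * U * (m : G)⁻¹, hconjCA _ m.2 _ hUCA⟩ : ↥CA)) (fun m m' e => by
      have e' : (m : G)⁻¹ * (m' : G) ∈ R.E0 d :=
        mem_subgroupOf.mp (QuotientGroup.leftRel_apply.mp e)
      refine Subtype.ext ?_
      show (m : G) * U * (m : G)⁻¹ = (m' : G) * U * (m' : G)⁻¹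
      calc (m : G) * U * (m : G)⁻¹
          = (m : G) * ((m : G)⁻¹ * (m' : G) * U * ((m : G)⁻¹ * (m' : G))⁻¹) * (m : G)⁻¹ := by
            rw [conj_of_commute (hE0U _ e')]
        _ = _ := by group)
  have hidx : Fintype.card (↥N ⧸ H) = 15 := by
    rw [← Nat.card_eq_fintype_card]
    have hbij : Nat.card (↥N ⧸ H) = Nat.card {t : ↥(R.A1 d) // t ≠ 1} := by
      refine Nat.card_eq_of_bijective (Quotient.lift (fun m : ↥N =>
        (⟨⟨(m : G) * z * (m : G)⁻¹, R.NA_conj d m.2 (R.z_mem_A1 d)⟩, fun e => d.hub.ne_one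
          (conj_eq_one_iff.mp (congrArg Subtype.val e))⟩ : {t : ↥(R.A1 d) // t ≠ 1})) fun m m' e => ?_)
        ⟨?_, ?_⟩
      · have e' : (m : G)⁻¹ * (m' : G) ∈ R.E0 d :=
          mem_subgroupOf.mp (QuotientGroup.leftRel_apply.mp e)
        refine Subtype.ext (Subtype.ext ?_)
        show (m : G) * z * (m : G)⁻¹ = (m' : G) * z * (m' : G)⁻¹
        calc (m : G) * z * (m : G)⁻¹
            = (m : G) * ((m : G)⁻¹ * (m' : G) * z * ((m : G)⁻¹ * (m' : G))⁻¹) * (m : G)⁻¹ := by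
              rw [conj_of_commute (mem_Dzy.mp (Subgroup.mem_inf.mp e').1).1]
          _ = _ := by group
      · rintro ⟨m⟩ ⟨m'⟩ e
        have e1 : (m : G) * z * (m : G)⁻¹ = (m' : G) * z * (m' : G)⁻¹ :=
          congrArg (fun t : {t : ↥(R.A1 d) // t ≠ 1} => ((t : ↥(R.A1 d)) : G)) e
        refine QuotientGroup.eq.mpr (mem_subgroupOf.mpr ?_)
        refine R.NA_stab d (mul_mem (inv_mem m.2) m'.2) (mul_inv_eq_iff_eq_mul.mp ?_)
        calc (m : G)⁻¹ * (m' : G) * z * ((m : G)⁻¹ * (m' : G))⁻¹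
            = (m : G)⁻¹ * ((m' : G) * z * (m' : G)⁻¹) * (m : G) := by group
          _ = z := by rw [← e1]; group
      · rintro ⟨⟨t, ht⟩, ht1⟩
        obtain ⟨m, hm, hmt⟩ := R.orbit_A1 d ht fun e => ht1 (Subtype.ext e)
        refine ⟨Quotient.mk'' ⟨m⁻¹, inv_mem hm⟩, Subtype.ext (Subtype.ext ?_)⟩
        show m⁻¹ * z * m⁻¹⁻¹ = t
        rw [← hmt]; group
    rw [hbij]
    haveI := Fintype.ofFinite ↥(R.A1 d)
    rw [Nat.card_eq_fintype_card, Fintype.card_subtype_compl, Fintype.card_subtype_eq,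
      ← Nat.card_eq_fintype_card, R.card_A1 d]
  let f : ↥CA := ∏ x, val x
  have hfix : ∀ m ∈ N, m * (f : G) * m⁻¹ = f := by
    intro m hm
    let φ : ↥CA →* ↥CA :=
      { toFun := fun c => ⟨m * c * m⁻¹, hconjCA m hm c c.2⟩
        map_one' := Subtype.ext (by simp)
        map_mul' := fun c c' => Subtype.ext (by simp [mul_assoc]) }
    have e : φ f = f := by
      simp only [f, map_prod]
      refine Fintype.prod_equiv (MulAction.toPerm (⟨m, hm⟩ : ↥N)) _ _ fun x => ?_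
      induction x using Quotient.inductionOn' with
      | h m' =>
        refine Subtype.ext ?_
        show m * ((m' : G) * U * (m' : G)⁻¹) * m⁻¹ = m * (m' : G) * U * (m * (m' : G))⁻¹
        group
    exact congrArg Subtype.val e
  -- its class is that of `U`
  obtain ⟨hfu, hfA⟩ := hCA f.2
  have hfE := R.cent_A1_E0 d hfu hfA
  let ψ : ↥CA →* Multiplicative (ZMod 2) :=
    { toFun := fun c => Multiplicative.ofAdd (cond (R.sep c).2 1 0)
      map_one' := by
        have : (R.sep (1 : G)).2 = false := by simp [sep, F.vof_one d, w0]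
        simp [this]
      map_mul' := fun c c' => by
        have h := R.sep_mul d (R.cent_A1_E0 d (hCA c.2).1 (hCA c.2).2)
          (R.cent_A1_E0 d (hCA c'.2).1 (hCA c'.2).2)
        simp only [Subgroup.coe_mul, h, ← ofAdd_add]
        cases (R.sep (c : G)).2 <;> cases (R.sep (c' : G)).2 <;> rfl }
  have hψU : ∀ x, ψ (val x) = Multiplicative.ofAdd 1 := by
    intro x
    induction x using Quotient.inductionOn' with
    | h m =>
      show Multiplicative.ofAdd (cond (R.sep ((m : G) * U * (m : G)⁻¹)).2 (1 : ZMod 2) 0) = _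
      suffices hh : (R.sep ((m : G) * U * (m : G)⁻¹)).2 = true by rw [hh]; rfl
      have hc := hCA (hconjCA _ m.2 _ hUCA)
      obtain ⟨w, v, i, j, e, c1, c2⟩ := (R.mem_E0 d).mp (R.cent_A1_E0 d hc.1 hc.2)
      rw [e]
      simp only [sep, R.el_vof d]
      by_contra hv
      rw [Bool.not_eq_true] at hv
      have hAw : ∀ p r, inL p = true → inL r = true → cy p r w v = false ∧ cz p r w v = false := by
        intro p r hp hr
        have := (hc.2 _ ⟨p, r, false, false, hp, hr, rfl⟩).symm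
        rw [e] at this
        exact (R.el_commute d).mp this
      have hdec : ∀ w v : W, (∀ p r, inL p = true → inL r = true →
          cy p r w v = false ∧ cz p r w v = false) → cy w v e4 e3 = false → cz w v e4 e3 = false →
          v.2.2.2 = false →
          (inL w = true ∧ inL v = true) ∨ (inL (SuzType.add w e4) = true ∧ inL (SuzType.add v e3) = true) := by
        decide +kernel
      have hback : ∀ t ∈ R.A1 d, (m : G)⁻¹ * t * (m : G) ∈ R.A1 d := fun t ht => by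
        have := R.NA_conj d (inv_mem m.2) ht; simpa using this
      have hUA : ∀ t ∈ R.A1 d, U ≠ t ∧ U ≠ u₀ * t := by
        rintro _ ⟨p, r, k, l, hp, hr, rfl⟩
        refine ⟨fun e => ?_, fun e => ?_⟩
        · rw [← (R.el_inj d e).2.1] at hr
          exact absurd hr (by decide)
        · obtain ⟨k', l', e'⟩ := R.el_mul d e4 e3 p r false false k l
          rw [e'] at e
          have := (R.el_inj d e).2.1
          have hall : ∀ r : W, inL r = true → e4 ≠ SuzType.add e3 r := by decide +kernel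
          exact hall r hr this
      rcases hdec w v hAw c1 c2 hv with ⟨k1, k2⟩ | ⟨k1, k2⟩
      · refine (hUA _ (hback _ ⟨w, v, i, j, k1, k2, rfl⟩)).1 ?_
        rw [← e]; group
      · obtain ⟨i', j', e'⟩ := R.el_mul d e4 e3 (SuzType.add w e4) (SuzType.add v e3) false false i j
        have ew : SuzType.add e4 (SuzType.add w e4) = w ∧ SuzType.add e3 (SuzType.add v e3) = v := by
          constructor
          · rw [add_comm' e4, add_assoc', add_self, (add_zero' _).1]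
          · rw [add_comm' e3, add_assoc', add_self, (add_zero' _).1]
        rw [ew.1, ew.2] at e'
        have hmem : R.el (SuzType.add w e4) (SuzType.add v e3) i j * R.kk (xor i' i) (xor j' j) ∈ R.A1 d := by
          rw [R.el_mul_kk d]; exact ⟨_, _, _, _, k1, k2, rfl⟩
        refine (hUA _ (hback _ hmem)).2 ?_
        have e5 : (m : G) * U * (m : G)⁻¹ =
            u₀ * (R.el (SuzType.add w e4) (SuzType.add v e3) i j * R.kk (xor i' i) (xor j' j)) := by
          rw [e, ← mul_assoc, e', R.el_mul_kk d]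
          congr 1 <;> cases i <;> cases i' <;> cases j <;> cases j' <;> rfl
        have hmu : (m : G)⁻¹ * u₀ * (m : G)⁻¹⁻¹ = u₀ :=
          conj_of_commute (mem_cz.mp (Subgroup.mem_inf.mp (inv_mem m.2)).1)
        calc U = (m : G)⁻¹ * ((m : G) * U * (m : G)⁻¹) * (m : G)⁻¹⁻¹ := by group
          _ = _ := by
            rw [e5, show (m : G)⁻¹ * (u₀ * (R.el (SuzType.add w e4) (SuzType.add v e3) i j *
              R.kk (xor i' i) (xor j' j))) * (m : G)⁻¹⁻¹ = (m : G)⁻¹ * u₀ * (m : G)⁻¹⁻¹ *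
              ((m : G)⁻¹ * (R.el (SuzType.add w e4) (SuzType.add v e3) i j * R.kk (xor i' i) (xor j' j)) * (m : G))
              by group, hmu]
  have hψf : (R.sep (f : G)).2 = true := by
    have e1 : ψ f = Multiplicative.ofAdd (1 : ZMod 2) := by
      simp only [f, map_prod, hψU, Finset.prod_const, Finset.card_univ, hidx]
      decide
    cases h : (R.sep (f : G)).2
    · simp [ψ, h] at e1
      exact absurd e1 (by decide)
    · rfl
  -- `f` is fixed by `E0` and by `g`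
  obtain ⟨w, v, i, j, e, c1, c2⟩ := (R.mem_E0 d).mp hfE
  have hwv : ∀ w' v', inU w' = true → inU v' = true →
      cy w' v' w v = false ∧ cz w' v' w v = false := by
    intro w' v' hw' hv'
    have hm : R.el w' v' false false ∈ R.U0 d := ⟨w', v', _, _, hw', hv', rfl⟩
    have := mul_inv_eq_iff_eq_mul.mp (hfix _ (R.E0_le_NA d (R.U0_le d hm)))
    rw [e] at this
    exact (R.el_commute d).mp this
  have hgN : g ∈ N := R.cycle_mem_NA d hgu h1 h2 h3
  have hgf : g * (f : G) * g⁻¹ = f := hfix g hgN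
  have hgU : g * U * g⁻¹ = U := conj_of_commute hg
  have hsep : v.2.2.2 = true := by rw [e] at hψf; simpa [sep, R.el_vof d] using hψf
  have fin : ∀ K : G, (f : G) = K * U → (∀ m ∈ N, Commute m K) → Commute n U := by
    intro K hK hm
    have h := mul_inv_eq_iff_eq_mul.mp (hfix n hn)
    rw [hK] at h
    refine mul_left_cancel (a := K) ?_
    calc K * (n * U) = n * (K * U) := by rw [← mul_assoc, ← (hm n hn).eq, mul_assoc]
      _ = _ := by rw [h, mul_assoc]
  rcases cent_U w v hwv c1 c2 with ⟨rfl, rfl⟩ | ⟨rfl, rfl⟩ | ⟨rfl, rfl⟩ | ⟨rfl, rfl⟩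
  · exact absurd hsep (by decide)
  · exact absurd hsep (by decide)
  · have hf : (f : G) = U * R.kk (xor a i) (xor b j) := by
      rw [e, hU, R.el_mul_kk d]
      congr 1 <;> cases a <;> cases b <;> cases i <;> cases j <;> rfl
    rw [hf, show g * (U * R.kk (xor a i) (xor b j)) * g⁻¹ =
      g * U * g⁻¹ * (g * R.kk (xor a i) (xor b j) * g⁻¹) by group, hgU, R.conj_kk d h1 h2] at hgf
    obtain ⟨q1, q2⟩ := pw_yz_inj d.hub F.sing (mul_left_cancel hgf)
    refine fin 1 ?_ fun m _ => Commute.one_right m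
    rw [hf, show xor a i = false by revert q1 q2; cases xor a i <;> cases xor b j <;> simp,
      show xor b j = false by revert q1 q2; cases xor a i <;> cases xor b j <;> simp]
    simp [kk]
  · obtain ⟨i', j', e'⟩ := R.el_mul d e4 e3 (SuzType.add e3 e4) e4 false false a b
    rw [show SuzType.add e4 (SuzType.add e3 e4) = e3 by decide, ← hU] at e'
    have hf : (f : G) = u₀ * U * R.kk (xor i' i) (xor j' j) := by
      rw [e, e', R.el_mul_kk d]
      congr 1 <;> cases i' <;> cases j' <;> cases i <;> cases j <;> rfl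
    rw [hf, show g * (u₀ * U * R.kk (xor i' i) (xor j' j)) * g⁻¹ = g * u₀ * g⁻¹ * (g * U * g⁻¹) *
      (g * R.kk (xor i' i) (xor j' j) * g⁻¹) by group, conj_of_commute hgu, hgU,
      R.conj_kk d h1 h2] at hgf
    obtain ⟨q1, q2⟩ := pw_yz_inj d.hub F.sing (mul_left_cancel hgf)
    refine fin u₀ ?_ fun m hm => mem_cz.mp (Subgroup.mem_inf.mp hm).1
    rw [hf, show xor i' i = false by revert q1 q2; cases xor i' i <;> cases xor j' j <;> simp,
      show xor j' j = false by revert q1 q2; cases xor i' i <;> cases xor j' j <;> simp]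
    simp [kk]

/-- The fusion in `C(u₀, u1)`: the conjugates of `z` in `T` are conjugate to `z` there. -/
theorem exists_four : ∃ U, (∃ a b, U = R.el (SuzType.add e3 e4) e4 a b) ∧
    (∃ g, Commute g u₀ ∧ Commute g U ∧ g * y * g⁻¹ = z ∧ g * z * g⁻¹ = y * z ∧
      g * (y * z) * g⁻¹ = y) ∧
    (∃ s ∈ Dzy z u₀, s * y * s⁻¹ = y * z ∧ s * U * s⁻¹ = u₀ * U) ∧
    ∀ t, t ∈ Dzy z u₀ → IsConj z t → ∃ h, Commute h u₀ ∧ Commute h U ∧ h * t * h⁻¹ = z := by
  obtain ⟨g, hgu, h1, h2, h3⟩ := R.exists_cycle d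
  obtain ⟨a, b, hg⟩ := R.exists_fixed d hgu h1 h2 h3
  set U := R.el (SuzType.add e3 e4) e4 a b with hU
  obtain ⟨s, hs, hsy, hsel⟩ := R.exists_swap d
  obtain ⟨hsz, hsu⟩ := mem_Dzy.mp hs
  obtain ⟨hUE, hU2, hUU⟩ := R.el_u1 d a b
  obtain ⟨hUz, hUu⟩ := mem_Dzy.mp (Subgroup.mem_inf.mp hUE).1
  -- the swap multiplies `U` by `u₀` and a central pair, which is trivial
  obtain ⟨i, j, hsU⟩ := hsel (SuzType.add e3 e4) e4 a b
  rw [show swapW (SuzType.add (SuzType.add e3 e4) e4) = e3 by decide,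
    show swapW e4 = SuzType.add e3 e4 by decide, ← hU] at hsU
  obtain ⟨i', j', e'⟩ := R.el_mul d e4 e3 (SuzType.add e3 e4) e4 false false a b
  rw [show SuzType.add e4 (SuzType.add e3 e4) = e3 by decide, ← hU] at e'
  have hsU' : s * U * s⁻¹ = u₀ * U * R.kk (xor i' i) (xor j' j) := by
    rw [hsU, e', R.el_mul_kk d]
    congr 1 <;> cases i' <;> cases j' <;> cases i <;> cases j <;> rfl
  set g' := s * g * s⁻¹ with hg'
  have hse : s⁻¹ * z * s = z := by rw [mul_assoc, ← hsz.eq, inv_mul_cancel_left]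
  have hzy : Commute y z := d.hub.central y F.sing.1
  have hsi : s⁻¹ * y * s = y * z := by
    have e : y = s * (y * z) * s⁻¹ := by
      calc y = y * z * z := by rw [mul_assoc, d.hub.sq, mul_one]
        _ = (s * y * s⁻¹) * (s * z * s⁻¹) := by rw [hsy, conj_of_commute hsz]
        _ = _ := by group
    conv_lhs => rw [e]
    group
  have hg'g : g' * g ∈ R.E0 d := by
    have k1 : g' * g * z * (g' * g)⁻¹ = z := by
      calc g' * g * z * (g' * g)⁻¹ = g' * (g * z * g⁻¹) * g'⁻¹ := by group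
        _ = s * (g * (s⁻¹ * y * s * (s⁻¹ * z * s)) * g⁻¹) * s⁻¹ := by rw [h2, hg']; group
        _ = s * z * s⁻¹ := by rw [hsi, hse, mul_assoc y, d.hub.sq, mul_one, h1]
        _ = z := conj_of_commute hsz
    have k2 : g' * g * y * (g' * g)⁻¹ = y := by
      calc g' * g * y * (g' * g)⁻¹ = g' * (g * y * g⁻¹) * g'⁻¹ := by group
        _ = s * (g * (s⁻¹ * z * s) * g⁻¹) * s⁻¹ := by rw [h1, hg']; group
        _ = (s * y * s⁻¹) * (s * z * s⁻¹) := by rw [hse, h2]; group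
        _ = y := by rw [hsy, conj_of_commute hsz, mul_assoc, d.hub.sq, mul_one]
    refine Subgroup.mem_inf.mpr ⟨mem_Dzy.mpr ⟨mul_inv_eq_iff_eq_mul.mp k1, ?_⟩,
      mem_cz.mpr (mul_inv_eq_iff_eq_mul.mp k2)⟩
    exact (((hsu.mul_left hgu).mul_left hsu.inv_left)).mul_left hgu
  have hgsU : g * (s * U * s⁻¹) * g⁻¹ = s * U * s⁻¹ := by
    have hV : g' * (s * U * s⁻¹) * g'⁻¹ = s * U * s⁻¹ := by
      calc g' * (s * U * s⁻¹) * g'⁻¹ = s * (g * U * g⁻¹) * s⁻¹ := by rw [hg']; group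
        _ = _ := by rw [conj_of_commute hg]
    obtain ⟨w, v, k, l, he, c1, c2⟩ := (R.mem_E0 d).mp hg'g
    have hc : Commute (g' * g) (s * U * s⁻¹) := by
      rw [he, hsU]
      refine (R.el_commute d).mpr ?_
      have : ∀ w v : W, cy w v e4 e3 = false → cz w v e4 e3 = false →
          cy w v e3 (SuzType.add e3 e4) = false ∧ cz w v e3 (SuzType.add e3 e4) = false := by
        decide +kernel
      exact this w v c1 c2
    calc g * (s * U * s⁻¹) * g⁻¹ = g'⁻¹ * (g' * g * (s * U * s⁻¹) * (g' * g)⁻¹) * g' := by group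
      _ = g'⁻¹ * (g' * (s * U * s⁻¹) * g'⁻¹) * g' := by rw [conj_of_commute hc, hV]
      _ = _ := by group
  have hsU2 : s * U * s⁻¹ = u₀ * U := by
    rw [hsU'] at hgsU
    rw [show g * (u₀ * U * R.kk (xor i' i) (xor j' j)) * g⁻¹ = g * u₀ * g⁻¹ * (g * U * g⁻¹) *
      (g * R.kk (xor i' i) (xor j' j) * g⁻¹) by group, conj_of_commute hgu, conj_of_commute hg,
      R.conj_kk d h1 h2] at hgsU
    obtain ⟨q1, q2⟩ := pw_yz_inj d.hub F.sing (mul_left_cancel hgsU)
    rw [hsU', show xor i' i = false by revert q1 q2; cases xor i' i <;> cases xor j' j <;> simp,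
      show xor j' j = false by revert q1 q2; cases xor i' i <;> cases xor j' j <;> simp]
    simp [kk]
  refine ⟨U, ⟨a, b, hU⟩, ⟨g, hgu, hg, h1, h2, h3⟩, ⟨s, hs, hsy, hsU2⟩, fun t ht hct => ?_⟩
  have htU := R.z_in_T d ht hct
  have ht2 : t * t = 1 := by
    obtain ⟨c, hc⟩ := isConj_iff.mp hct
    rw [← hc]; exact conj_sq d.hub.sq
  have ht1 : t ≠ 1 := fun e => by
    rw [e] at hct; exact d.hub.ne_one (isConj_one_left.mp hct)
  have first : ∀ t ∈ R.A1 d, t ≠ 1 → ∃ h, Commute h u₀ ∧ Commute h U ∧ h * t * h⁻¹ = z := by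
    intro t htA ht1
    obtain ⟨n, hn, hnt⟩ := R.orbit_A1 d htA ht1
    exact ⟨n, mem_cz.mp (Subgroup.mem_inf.mp hn).1, R.NA_cent d hgu h1 h2 h3 hg hn, hnt⟩
  rcases R.side_or d (E := zpowers t) (zpowers_le.mpr htU) (by
    rintro _ ⟨k, rfl⟩
    show t ^ k * t ^ k = 1
    rw [← (Commute.refl t).mul_zpow, ht2, one_zpow]) with hl | hl
  · exact first t (hl (mem_zpowers t)) ht1
  · obtain ⟨h, hu, hU', hh⟩ := first _ (R.swap_side d hsel (hl t (mem_zpowers t)))
      fun e => ht1 (conj_eq_one_iff.mp e)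
    refine ⟨s⁻¹ * h * s, (hsu.inv_left.mul_left hu).mul_left hsu, mul_inv_eq_iff_eq_mul.mp ?_, ?_⟩
    · calc s⁻¹ * h * s * U * (s⁻¹ * h * s)⁻¹ = s⁻¹ * (h * (s * U * s⁻¹) * h⁻¹) * s := by group
        _ = s⁻¹ * (s * U * s⁻¹) * s := by rw [hsU2, conj_of_commute (hu.mul_right hU')]
        _ = U := by group
    · calc s⁻¹ * h * s * t * (s⁻¹ * h * s)⁻¹ = s⁻¹ * (h * (s * t * s⁻¹) * h⁻¹) * s := by group
        _ = z := by rw [hh, hse]

end Radical

end Cfsg.Agent.SuzType
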