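import Cfsg.Agent.Lib.SuzType.Main

/-!
# The second class: `T = C(z, u)`

`T` has order 512 with the part `E0 = T ∩ C(y)` of index two; the conjugates of `z` in `T` are the
involutions of `U0 = {el w v a b | w, v ∈ ⟨e1, e2⟩}`, and an element of `C(u)` permutes `y`, `z`,
`y z` cyclically.
-/

set_option autoImplicit false
set_option maxHeartbeats 400000
set_option synthInstance.maxSize 2048

namespace Cfsg.Agent.SuzType

open Subgroup
open Cfsg.Agent.LargeExtraspecial (Hub)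

variable {G : Type*} [Group G] {z y : G} {Q : Subgroup G}

/-- `⟨e1, e2⟩`. -/
def inU (w : W) : Bool := !w.2.2.1 && !w.2.2.2

/-- The action of the swap on `W`. -/
def swapW : W → W
  | (a, b, c, d) => (b, a, xor c d, d)

theorem inU_add : ∀ u v : W, inU u = true → inU v = true → inU (add u v) = true := by decide +kernel

theorem swap_perm : ∀ π : Equiv.Perm (Fin 5), Equiv.Perm.sign π = 1 → act5 π e4 = add e4 e3 →
    act5 π e3 = e3 → ∀ w, act5 π⁻¹ w = swapW w := by decide +kernel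

theorem z_list : ∀ w v : W, cy w v e4 e3 = false → cz w v e4 e3 = false →
    xor (q true v) (B w v) = false → xor (q true w) (B w v) = false → q true v = false →
    inU w = true ∧ inU v = true := by decide +kernel

theorem u_comm : ∀ w v : W, inU w = true → inU v = true →
    cy w v e4 e3 = false ∧ cz w v e4 e3 = false ∧
      cy w v (add e3 e4) e4 = false ∧ cz w v (add e3 e4) e4 = false := by decide +kernel

theorem inU_list : ∀ w v : W, inU w = true → inU v = true → xor (q true v) (B w v) = false →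
    xor (q true w) (B w v) = false → q true v = false ∧ (v = w0 → q true w = false) := by
  decide +kernel

theorem small_cent : ∀ w v : W, inU w = true → inU v = true → xor (q true v) (B w v) = false →
    xor (q true w) (B w v) = false → (w, v) ≠ (w0, w0) →
    (swapW (add w v), swapW v) ≠ (w, v) ∧
      ∃ w' v', inU w' = true ∧ inU v' = true ∧ ¬ (cy w' v' w v = false ∧ cz w' v' w v = false) := by
  decide +kernel

variable [Finite G]

/-- An involution conjugate to `z` in `C(z) ∖ Q` never sends a noncentral involution of `Q` to its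
product with `z`. -/
theorem Radical.no_flip_n1 {F : Frame z y Q} (R : Radical F) (d : Data z Q) {p : G}
    (hp : Sing z Q p) : R.n (pt 0) * p * (R.n (pt 0))⁻¹ ≠ p * z := by
  intro e
  have h := d.hub
  obtain ⟨e', he⟩ := F.exists_elem d hp.1
  cases hfl : fl p y
  · rw [hfl] at he
    set b := fl p F.x
    set w := F.wof p
    have hD := mem_Dzy.mp (R.mem (pt 0))
    have key : R.n (pt 0) * p * (R.n (pt 0))⁻¹ = p * R.kk (B w (pt 0)) (B w (pt 0)) := by
      rw [he]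
      have k1 : F.elem false b w e' = pw y b * F.m w * pw z e' := by
        rw [Frame.elem, pw_false, one_mul]
      have k2 : Commute (pw z e') (R.kk (B w (pt 0)) (B w (pt 0))) :=
        (pw_commute (R.commute_kk d (Radical.z_mem d F) _ _).symm e').symm
      rw [k1]
      calc R.n (pt 0) * (pw y b * F.m w * pw z e') * (R.n (pt 0))⁻¹
          = (R.n (pt 0) * pw y b * (R.n (pt 0))⁻¹) * (R.n (pt 0) * F.m w * (R.n (pt 0))⁻¹) *
            (R.n (pt 0) * pw z e' * (R.n (pt 0))⁻¹) := by group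
        _ = pw y b * F.m w * (R.kk (B w (pt 0)) (B w (pt 0)) * pw z e') := by
          rw [conj_of_commute (pw_commute hD.2 _), conj_of_commute (pw_commute hD.1 _), R.comm,
            Radical.kk]
          group
        _ = _ := by rw [← k2.eq]; group
    rw [key] at e
    have e2 : R.kk (B w (pt 0)) (B w (pt 0)) = R.kk false true := by
      rw [mul_left_cancel e]; simp [Radical.kk]
    obtain ⟨h1, h2⟩ := pw_yz_inj h F.sing e2
    exact Bool.false_ne_true (h1 ▸ h2 : false = true)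
  · have h1 := F.wof_conj d (R.mem (pt 0)) hp.1
    rw [e, F.wof_mul h hp.1 h.mem, show F.wof z = w0 from F.wof_z h true, (add_zero' _).1, hfl,
      R.vof, R.act] at h1
    have h2 := congrArg (fun s => SuzType.add s (F.wof p)) h1
    simp only [add_assoc', add_self, (add_zero' _).1] at h2
    exact absurd h2.symm (pt_spec.1 0).2

namespace Radical

variable {F : Frame z y Q} (R : Radical F) (d : Data z Q)
include R d

/-- The representative of the second class. -/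
local notation "u₀" => Radical.el R e4 e3 false false

theorem el_mul (w v w' v' : W) (a b a' b' : Bool) :
    ∃ a'' b'', R.el w v a b * R.el w' v' a' b' = R.el (SuzType.add w w') (SuzType.add v v') a'' b'' := by
  obtain ⟨e₁, he₁⟩ := F.m_add w w'
  obtain ⟨e₂, he₂⟩ := R.add v v'
  refine ⟨xor (xor e₂ (B w' v)) (xor a a'), xor (xor e₁ (B w' v)) (xor b b'), ?_⟩
  have hm : ∀ u s t, Commute (F.m u) (R.kk s t) := fun u => R.commute_kk d (m_mem d u)
  have hn : ∀ u s t, Commute (R.n u) (R.kk s t) := fun u => R.commute_kk d (R.mem u)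
  have c1 : R.n v * F.m w' = F.m w' * R.kk (B w' v) (B w' v) * R.n v := by
    rw [show F.m w' * R.kk (B w' v) (B w' v) = R.n v * F.m w' * (R.n v)⁻¹ by
      rw [R.comm, kk, mul_assoc]]
    group
  calc R.el w v a b * R.el w' v' a' b'
      = F.m w * R.n v * (R.kk a b * F.m w') * R.n v' * R.kk a' b' := by rw [el, el]; group
    _ = F.m w * (R.n v * F.m w') * (R.kk a b * R.n v') * R.kk a' b' := by
        rw [← (hm w' a b).eq]; group
    _ = F.m w * F.m w' * (R.kk (B w' v) (B w' v) * (R.n v * R.n v')) * (R.kk a b * R.kk a' b') := by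
        rw [c1, ← (hn v' a b).eq]; group
    _ = F.m (SuzType.add w w') * R.kk false e₁ * (R.kk (B w' v) (B w' v) *
          (R.n (SuzType.add v v') * R.kk e₂ false)) * (R.kk a b * R.kk a' b') := by
        rw [he₁, he₂]; simp [kk]
    _ = F.m (SuzType.add w w') * (R.kk false e₁ * R.kk (B w' v) (B w' v) * R.n (SuzType.add v v')) *
          (R.kk e₂ false * (R.kk a b * R.kk a' b')) := by group
    _ = F.m (SuzType.add w w') * R.n (SuzType.add v v') *
          (R.kk false e₁ * R.kk (B w' v) (B w' v) * (R.kk e₂ false * (R.kk a b * R.kk a' b'))) := by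
        rw [R.kk_mul d, ← (hn (SuzType.add v v') _ _).eq]; group
    _ = _ := by
        rw [el, R.kk_mul d, R.kk_mul d, R.kk_mul d, R.kk_mul d]
        congr 2 <;> cases e₁ <;> cases e₂ <;> cases B w' v <;> cases a <;> cases a' <;> cases b <;>
          cases b' <;> rfl

theorem el_kk (a b : Bool) : R.el w0 w0 a b = R.kk a b := by simp [el, F.zero, R.zero]

theorem el_mul_kk (w v : W) (a b a' b' : Bool) :
    R.el w v a b * R.kk a' b' = R.el w v (xor a a') (xor b b') := by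
  rw [el, el, mul_assoc, R.kk_mul d]

/-- `U0`. -/
def U0 : Subgroup G where
  carrier := {g | ∃ w v a b, inU w = true ∧ inU v = true ∧ g = R.el w v a b}
  one_mem' := ⟨w0, w0, false, false, rfl, rfl, by rw [R.el_kk d]; simp [kk]⟩
  mul_mem' := by
    rintro _ _ ⟨w, v, a, b, h1, h2, rfl⟩ ⟨w', v', a', b', h1', h2', rfl⟩
    obtain ⟨a'', b'', e⟩ := R.el_mul d w v w' v' a b a' b'
    exact ⟨_, _, a'', b'', inU_add _ _ h1 h1', inU_add _ _ h2 h2', e⟩
  inv_mem' := by
    rintro _ ⟨w, v, a, b, h1, h2, rfl⟩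
    refine ⟨w, v, xor a (xor (q true v) (B w v)), xor b (xor (q true w) (B w v)), h1, h2, ?_⟩
    rw [← R.el_mul_kk d]
    refine inv_eq_of_mul_eq_one_right ?_
    rw [← mul_assoc, R.el_sq d, R.kk_mul d]
    simp [kk]

/-- `T ∩ C(y)`. -/
def E0 (_d : Data z Q) : Subgroup G := Dzy z u₀ ⊓ centralizer ({y} : Set G)

theorem mem_E0 {c : G} : c ∈ R.E0 d ↔
    ∃ w v a b, c = R.el w v a b ∧ cy w v e4 e3 = false ∧ cz w v e4 e3 = false := by
  constructor
  · intro hc
    obtain ⟨h1, h2⟩ := Subgroup.mem_inf.mp hc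
    exact R.d_centralizer d (mem_Dzy.mpr ⟨(mem_Dzy.mp h1).1, mem_cz.mp h2⟩) (mem_Dzy.mp h1).2
  · rintro ⟨w, v, a, b, rfl, h1, h2⟩
    obtain ⟨k1, k2⟩ := mem_Dzy.mp (R.el_mem d w v a b)
    exact Subgroup.mem_inf.mpr ⟨mem_Dzy.mpr ⟨k1, (R.el_commute d).mpr ⟨h1, h2⟩⟩, mem_cz.mpr k2⟩

theorem U0_le : R.U0 d ≤ R.E0 d := by
  rintro _ ⟨w, v, a, b, h1, h2, rfl⟩
  exact (R.mem_E0 d).mpr ⟨w, v, a, b, rfl, (u_comm w v h1 h2).1, (u_comm w v h1 h2).2.1⟩

theorem card_E0' : Nat.card ↥(R.E0 d) = 256 := R.card_E0 d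

theorem y_mem_U0 : y ∈ R.U0 d := ⟨w0, w0, true, false, rfl, rfl, by rw [R.el_kk d]; simp [kk]⟩

theorem z_mem_U0 : z ∈ R.U0 d := ⟨w0, w0, false, true, rfl, rfl, by rw [R.el_kk d]; simp [kk]⟩

theorem Sing_isConj {g : G} (hg : g * z * g⁻¹ = y) {p : G} (hp : Sing z Q p) : IsConj z p := by
  obtain ⟨htrans, -⟩ := F.orders d
  obtain ⟨c, -, hc⟩ := htrans p hp
  exact (isConj_iff.mpr ⟨g, hg⟩).trans (isConj_iff.mpr ⟨c, hc⟩)

theorem isConj_z_y : IsConj z y := by
  obtain ⟨htrans, -⟩ := F.orders d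
  obtain ⟨g, hgQ, hgz⟩ := d.out
  have hs : Sing z Q (g * z * g⁻¹) :=
    ⟨hgQ, conj_sq d.hub.sq, fun e => d.hub.ne_one (by simpa using e), hgz⟩
  obtain ⟨c, -, hc⟩ := htrans _ hs
  exact (isConj_iff.mpr ⟨g, rfl⟩).trans (isConj_iff.mpr ⟨c, hc⟩ : IsConj y _).symm

theorem isConj_of_Q {t : G} (ht : t ∈ Q) (h2 : t * t = 1) (h1 : t ≠ 1) : IsConj z t := by
  by_cases htz : t = z
  · rw [htz]
  obtain ⟨g, hg⟩ := isConj_iff.mp (R.isConj_z_y d)
  exact R.Sing_isConj d hg ⟨ht, h2, h1, htz⟩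

theorem not_mem_Q {t : G} (ht : IsConj u₀ t) : t ∉ Q := by
  intro hQ
  obtain ⟨c, rfl⟩ := isConj_iff.mp ht
  obtain ⟨hu2, hu1, -⟩ := R.u_facts d
  exact R.not_isConj d ((R.isConj_of_Q d hQ (conj_sq hu2)
    fun e => hu1 (conj_eq_one_iff.mp e)).trans ht.symm)

theorem no_flip {p t : G} (hp : Sing z Q p) (ht : IsConj z t) (htz : Commute t z) (htQ : t ∉ Q) :
    t * p * t⁻¹ ≠ p * z := by
  have ht2 : t * t = 1 := by
    obtain ⟨c, rfl⟩ := isConj_iff.mp ht
    exact conj_sq d.hub.sq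
  rcases R.cases_cz d ht2 htz htQ with ⟨c, hc, rfl⟩ | ⟨c, hc, rfl⟩
  · intro e
    apply R.no_flip_n1 d (p := c⁻¹ * p * c) (by simpa using Sing.conj d.hub hc.inv_left hp)
    calc R.n (pt 0) * (c⁻¹ * p * c) * (R.n (pt 0))⁻¹
        = c⁻¹ * (c * R.n (pt 0) * c⁻¹ * p * (c * R.n (pt 0) * c⁻¹)⁻¹) * c := by group
      _ = c⁻¹ * p * (z * c) := by rw [e]; group
      _ = _ := by rw [← hc.eq]; group
  · exact absurd (ht.trans (isConj_iff.mpr ⟨c, rfl⟩ : IsConj u₀ _).symm) (R.not_isConj d)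

theorem isConj_el {w v : W} (a b : Bool) (hw : inU w = true) (hv : inU v = true)
    (h2 : R.el w v a b * R.el w v a b = 1) (h1 : R.el w v a b ≠ 1) : IsConj z (R.el w v a b) := by
  have hs : xor (q true v) (B w v) = false ∧ xor (q true w) (B w v) = false := by
    have := h2
    rw [R.el_sq d] at this
    exact pw_yz_inj d.hub F.sing (this.trans (by simp))
  obtain ⟨hq, -⟩ := inU_list w v hw hv hs.1 hs.2
  by_cases hv0 : v = w0
  · subst hv0
    refine R.isConj_of_Q d ?_ h2 h1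
    rw [el, R.zero, mul_one, kk]
    exact mul_mem (F.mem w) (mul_mem (pw_mem F.sing.1 a) (pw_mem d.hub.mem b))
  · rcases R.el_cases d hv0 h2 with ⟨-, c, -, hc⟩ | ⟨c, hcD, hc⟩
    · exact (R.sing _ (pt_spec.1 0).2 (pt_spec.1 0).1).trans (isConj_iff.mpr ⟨c, hc⟩)
    · exfalso
      obtain ⟨a', b', e⟩ := R.el_conj_D d hcD e4 e3 false false
      rw [hc] at e
      obtain ⟨-, hv', -, -⟩ := R.el_inj d e
      have h3 := F.actW_q d hcD e3
      rw [← hv', F.minus_true d, hq] at h3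
      exact absurd h3 (by decide)

/-- An element of `T` outside `C(y)` and its action. -/
theorem exists_swap : ∃ s ∈ Dzy z u₀, s * y * s⁻¹ = y * z ∧ ∀ w v a b, ∃ a' b',
    s * R.el w v a b * s⁻¹ = R.el (swapW (SuzType.add w v)) (swapW v) a' b' := by
  have h := d.hub
  have hx : F.x⁻¹ = F.x := inv_eq_of_mul_eq_one_right F.x_sq
  have hxy : F.x * y * F.x⁻¹ = y * z := by
    rw [fl_spec h F.hx F.sing.1, F.x_y, pw_true]
  have hxn : ∀ v, ∃ a b, F.x * R.n v * F.x⁻¹ = R.el v v a b := by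
    intro v
    obtain ⟨e, he⟩ := F.conj_x d (R.mem v)
    rw [R.vof, F.minus_true d] at he
    refine ⟨q true v, e, ?_⟩
    have he' : R.n v * F.x * (R.n v)⁻¹ = F.x * (F.m v * R.kk (q true v) e) := by
      rw [he, Frame.elem, pw_true, kk, mul_assoc F.x, (pw_commute (F.comm_y v) _).eq.symm]
      group
    calc F.x * R.n v * F.x⁻¹ = F.x * (R.n v * F.x * (R.n v)⁻¹) * R.n v := by rw [hx]; group
      _ = F.x * F.x * F.m v * (R.kk (q true v) e * R.n v) := by rw [he']; group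
      _ = _ := by
        rw [F.x_sq, one_mul, ← (R.commute_kk d (R.mem v) _ _).eq, el]; group
  have hxk : ∀ a b, F.x * R.kk a b * F.x⁻¹ = R.kk a (xor a b) := by
    intro a b
    have hxz : F.x * z * F.x⁻¹ = z := conj_of_commute (h.central _ F.hx)
    calc F.x * R.kk a b * F.x⁻¹ = (F.x * pw y a * F.x⁻¹) * (F.x * pw z b * F.x⁻¹) := by rw [kk]; group
      _ = pw (y * z) a * pw z b := by rw [pw_conj hxy, pw_conj hxz]
      _ = _ := by cases a <;> cases b <;> simp [kk, mul_assoc, h.sq]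
  have hxel : ∀ w v a b, ∃ a' b',
      F.x * R.el w v a b * F.x⁻¹ = R.el (SuzType.add w v) v a' b' := by
    intro w v a b
    obtain ⟨a₁, b₁, e₁⟩ := hxn v
    obtain ⟨e₂, he₂⟩ := F.m_add w v
    refine ⟨xor a₁ a, xor e₂ (xor b₁ (xor a b)), ?_⟩
    calc F.x * R.el w v a b * F.x⁻¹
        = (F.x * F.m w * F.x⁻¹) * (F.x * R.n v * F.x⁻¹) * (F.x * R.kk a b * F.x⁻¹) := by rw [el]; group
      _ = F.m w * (F.m v * R.n v * R.kk a₁ b₁) * R.kk a (xor a b) := by
          rw [e₁, hxk, conj_of_commute (fl_eq_false.mp (F.x_m w)), el]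
      _ = F.m w * F.m v * R.n v * (R.kk a₁ b₁ * R.kk a (xor a b)) := by group
      _ = F.m (SuzType.add w v) * (R.kk false e₂ * R.n v) * (R.kk a₁ b₁ * R.kk a (xor a b)) := by
          rw [he₂]; simp [kk, mul_assoc]
      _ = F.m (SuzType.add w v) * R.n v * (R.kk false e₂ * (R.kk a₁ b₁ * R.kk a (xor a b))) := by
          rw [← (R.commute_kk d (R.mem v) _ _).eq]; group
      _ = _ := by rw [el, R.kk_mul d, R.kk_mul d, Bool.false_xor]
  obtain ⟨hu2, -, -, huz, -⟩ := R.u_facts d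
  obtain ⟨a, b, e₁⟩ := hxel e4 e3 false false
  have hinv : R.el (SuzType.add e4 e3) e3 a b * R.el (SuzType.add e4 e3) e3 a b = 1 := by
    rw [← e₁]; exact conj_sq hu2
  rcases R.el_cases d (by decide : e3 ≠ w0) hinv with ⟨hq, -⟩ | ⟨c, hc, hc'⟩
  · exact absurd hq (by decide)
  obtain ⟨a', b', e⟩ := R.el_conj_D d hc e4 e3 false false
  rw [hc'] at e
  obtain ⟨h1, h2, -, -⟩ := R.el_inj d e
  obtain ⟨-, -, -, -, hP⟩ := F.orders d
  obtain ⟨π, hπ, hact⟩ := hP c hc
  rw [hact] at h1 h2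
  have hci : c⁻¹ ∈ Dzy z y := inv_mem hc
  have hact' : ∀ w, F.actW c⁻¹ w = swapW w := fun w => by
    rw [← swap_perm π hπ h1.symm h2.symm w]
    have e0 : act5 π (F.actW c⁻¹ w) = act5 π (act5 π⁻¹ w) := by
      rw [← hact, ← F.actW_mul d hc hci, mul_inv_cancel, F.actW_one d, ← act5_mul, mul_inv_cancel,
        act5_one]
    have := congrArg (act5 π⁻¹) e0
    rwa [← act5_mul, ← act5_mul, inv_mul_cancel, act5_one, act5_one] at this
  obtain ⟨hcz, hcy⟩ := mem_Dzy.mp hci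
  have hxz : Commute F.x z := h.central _ F.hx
  refine ⟨c⁻¹ * F.x, mem_Dzy.mpr ⟨hcz.mul_left hxz, ?_⟩, ?_, fun w v a b => ?_⟩
  · refine mul_inv_eq_iff_eq_mul.mp ?_
    calc c⁻¹ * F.x * u₀ * (c⁻¹ * F.x)⁻¹ = c⁻¹ * (F.x * u₀ * F.x⁻¹) * c := by group
      _ = c⁻¹ * (c * u₀ * c⁻¹) * c := by rw [e₁, hc']
      _ = u₀ := by group
  · calc c⁻¹ * F.x * y * (c⁻¹ * F.x)⁻¹ = c⁻¹ * (F.x * y * F.x⁻¹) * c⁻¹⁻¹ := by group
      _ = y * z := by rw [hxy, conj_of_commute (hcy.mul_right hcz)]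
  · obtain ⟨a₁, b₁, k1⟩ := hxel w v a b
    obtain ⟨a₂, b₂, k2⟩ := R.el_conj_D d hci (SuzType.add w v) v a₁ b₁
    refine ⟨a₂, b₂, ?_⟩
    rw [hact', hact'] at k2
    rw [← k2, ← k1]
    group

theorem T_cases {s : G} (hs : s ∈ Dzy z u₀) (hsy : s * y * s⁻¹ = y * z) {t : G}
    (ht : t ∈ Dzy z u₀) : t ∈ R.E0 d ∨ ∃ e ∈ R.E0 d, t = s * e := by
  rcases R.orbit_y d ht with e | e
  · exact Or.inl (Subgroup.mem_inf.mpr ⟨ht, mem_cz.mpr (mul_inv_eq_iff_eq_mul.mp e)⟩)
  · refine Or.inr ⟨s⁻¹ * t, Subgroup.mem_inf.mpr ⟨mul_mem (inv_mem hs) ht,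
      mem_cz.mpr (mul_inv_eq_iff_eq_mul.mp ?_)⟩, by group⟩
    calc s⁻¹ * t * y * (s⁻¹ * t)⁻¹ = s⁻¹ * (t * y * t⁻¹) * s := by group
      _ = s⁻¹ * (s * y * s⁻¹) * s := by rw [e, hsy]
      _ = y := by group

theorem y_ne_yz : y * z ≠ y := fun e => d.hub.ne_one (by simpa using e)

theorem card_T : Nat.card ↥(Dzy z u₀) = 512 := by
  obtain ⟨h1, h2⟩ := R.card_E d
  obtain ⟨s, hs, hsy, -⟩ := R.exists_swap d
  have hlt : R.E0 d < Dzy z u₀ := by
    refine lt_of_le_of_ne inf_le_left fun e => R.y_ne_yz d ?_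
    rw [← e] at hs
    rw [← hsy, conj_of_commute (mem_cz.mp (Subgroup.mem_inf.mp hs).2)]
  obtain ⟨k, hk⟩ := Subgroup.card_dvd_of_le hlt.le
  rw [R.card_E0' d] at hk
  have hne : Nat.card ↥(Dzy z u₀) ≠ 256 := fun e => hlt.ne
    (Subgroup.eq_of_le_of_card_ge hlt.le (by rw [R.card_E0' d, e]))
  omega

/-- The conjugates of `z` in `T` lie in `U0`. -/
theorem z_in_T {t : G} (ht : t ∈ Dzy z u₀) (hc : IsConj z t) : t ∈ R.U0 d := by
  have h := d.hub
  obtain ⟨htz, htu⟩ := mem_Dzy.mp ht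
  have ht2 : t * t = 1 := by
    obtain ⟨c, rfl⟩ := isConj_iff.mp hc
    exact conj_sq h.sq
  rcases R.orbit_y d ht with e | e
  · obtain ⟨w, v, a, b, rfl, h1, h2⟩ := R.d_centralizer d
      (mem_Dzy.mpr ⟨htz, mul_inv_eq_iff_eq_mul.mp e⟩) htu
    have hs : xor (q true v) (B w v) = false ∧ xor (q true w) (B w v) = false := by
      rw [R.el_sq d] at ht2
      exact pw_yz_inj h F.sing (ht2.trans (by simp))
    have hq : q true v = false := by
      by_cases hv : v = w0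
      · subst hv; decide
      rcases R.el_cases d hv ht2 with ⟨hq, -⟩ | ⟨c, -, hc'⟩
      · exact hq
      · exact absurd (hc.trans (isConj_iff.mpr ⟨c, hc'⟩ : IsConj u₀ _).symm) (R.not_isConj d)
    obtain ⟨k1, k2⟩ := z_list w v h1 h2 hs.1 hs.2 hq
    exact ⟨w, v, a, b, k1, k2, rfl⟩
  · exfalso
    by_cases hQ : t ∈ Q
    · obtain ⟨e', he'⟩ := F.exists_elem d hQ
      have hflip : fl t y = true := by
        rw [fl_eq_true]
        exact fun hcm => R.y_ne_yz d (by rw [← e, conj_of_commute hcm])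
      have h1 := F.wof_conj d (R.el_mem d e4 e3 false false) hQ
      rw [conj_of_commute htu.symm, hflip, R.el_vof d, R.el_act d] at h1
      have h2 := congrArg (fun s => SuzType.add s (F.wof t)) h1
      simp only [smul, cond_true, add_assoc', add_self, (add_zero' _).1] at h2
      exact absurd h2.symm (by decide)
    · exact R.no_flip d F.sing hc htz hQ e

/-- The involutions of `U0`. -/
theorem U0_isConj {t : G} (ht : t ∈ R.U0 d) (h2 : t * t = 1) (h1 : t ≠ 1) : IsConj z t := by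
  obtain ⟨w, v, a, b, hw, hv, rfl⟩ := ht
  exact R.isConj_el d a b hw hv h2 h1

/-- A large centraliser in `T` characterises `y` and `y z`. -/
theorem special {p : G} (hp : p ∈ Dzy z u₀) (hpz : IsConj z p) (hne : p ≠ z)
    (hcard : 256 ≤ Nat.card ↥(Dzy z u₀ ⊓ centralizer ({p} : Set G))) : p = y ∨ p = y * z := by
  obtain ⟨s, hs, hsy, hsel⟩ := R.exists_swap d
  obtain ⟨w, v, a, b, hw, hv, rfl⟩ := R.z_in_T d hp hpz
  by_cases h0 : (w, v) = (w0, w0)
  · obtain ⟨rfl, rfl⟩ := Prod.ext_iff.mp h0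
    have hp1 : R.el w0 w0 a b ≠ 1 := fun e => by
      rw [e] at hpz
      exact d.hub.ne_one (isConj_one_left.mp hpz)
    rw [R.el_kk d] at hne hp1 ⊢
    cases a <;> cases b
    · exact absurd (by simp [kk]) hp1
    · exact absurd (by simp [kk]) hne
    · exact Or.inl (by simp [kk])
    · exact Or.inr (by simp [kk])
  exfalso
  have hp2 : R.el w v a b * R.el w v a b = 1 := by
    obtain ⟨c, hc⟩ := isConj_iff.mp hpz
    rw [← hc]; exact conj_sq d.hub.sq
  rw [R.el_sq d] at hp2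
  obtain ⟨s1, s2⟩ := pw_yz_inj d.hub F.sing (hp2.trans (by simp : (1 : G) = pw y false * pw z false))
  obtain ⟨hne', w', v', hw', hv', hnc⟩ := small_cent w v hw hv s1 s2 h0
  set H := Dzy z u₀ ⊓ centralizer ({R.el w v a b} : Set G) with hH
  have hle : H ≤ R.E0 d := by
    intro t ht
    obtain ⟨ht1, ht2⟩ := Subgroup.mem_inf.mp ht
    rcases R.T_cases d hs hsy ht1 with h' | ⟨e, he, rfl⟩
    · exact h'
    exfalso
    obtain ⟨w₁, v₁, a₁, b₁, rfl, -, -⟩ := (R.mem_E0 d).mp he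
    have e1 := R.el_conj d w₁ v₁ w v a₁ b₁ a b
    rw [R.el_mul_kk d] at e1
    obtain ⟨a₂, b₂, e2⟩ := hsel w v (xor a (cy w₁ v₁ w v)) (xor b (cz w₁ v₁ w v))
    apply hne'
    have e3 : R.el w v a b = R.el (swapW (SuzType.add w v)) (swapW v) a₂ b₂ := by
      rw [← e2, ← e1]
      calc R.el w v a b = s * R.el w₁ v₁ a₁ b₁ * R.el w v a b * (s * R.el w₁ v₁ a₁ b₁)⁻¹ :=
            (conj_of_commute (mem_cz.mp ht2)).symm
        _ = _ := by group
    obtain ⟨k1, k2, -, -⟩ := R.el_inj d e3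
    exact Prod.ext k1.symm k2.symm
  have hlt : H < R.E0 d := by
    refine lt_of_le_of_ne hle fun e => hnc ?_
    have hm : R.el w' v' false false ∈ R.E0 d := R.U0_le d ⟨w', v', _, _, hw', hv', rfl⟩
    rw [← e] at hm
    exact (R.el_commute d).mp (mem_cz.mp (Subgroup.mem_inf.mp hm).2)
  have := Subgroup.eq_of_le_of_card_ge hlt.le (by rw [R.card_E0' d]; exact hcard)
  exact hlt.ne this

/-- `C(u₀)` is transitive on the conjugates of `z` it contains. -/
theorem trans_u {t : G} (ht : IsConj z t) (htu : Commute t u₀) :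
    ∃ g, Commute g u₀ ∧ g * t * g⁻¹ = z := by
  obtain ⟨k, hk⟩ := isConj_iff.mp ht.symm
  obtain ⟨hu2, -⟩ := R.u_facts d
  have huz : Commute (k * u₀ * k⁻¹) z := by
    have := commute_conj k htu.symm
    rwa [hk] at this
  have hu : IsConj u₀ (k * u₀ * k⁻¹) := isConj_iff.mpr ⟨k, rfl⟩
  rcases R.cases_cz d (conj_sq hu2) huz (R.not_mem_Q d hu) with ⟨c, -, hc⟩ | ⟨c, hc, hc'⟩
  · exfalso
    refine R.not_isConj d (IsConj.trans ?_ hu.symm)
    exact (R.sing _ (pt_spec.1 0).2 (pt_spec.1 0).1).trans (isConj_iff.mpr ⟨c, hc⟩)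
  · refine ⟨c⁻¹ * k, mul_inv_eq_iff_eq_mul.mp ?_, ?_⟩
    · calc c⁻¹ * k * u₀ * (c⁻¹ * k)⁻¹ = c⁻¹ * (k * u₀ * k⁻¹) * c := by group
        _ = u₀ := by rw [← hc']; group
    · calc c⁻¹ * k * t * (c⁻¹ * k)⁻¹ = c⁻¹ * (k * t * k⁻¹) * c⁻¹⁻¹ := by group
        _ = z := by rw [hk, conj_of_commute hc.inv_left]

/-- An element of `C(u₀)` permuting `y ↦ z ↦ y z ↦ y`. -/
theorem exists_cycle : ∃ g, Commute g u₀ ∧ g * y * g⁻¹ = z ∧ g * z * g⁻¹ = y * z ∧
    g * (y * z) * g⁻¹ = y := by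
  obtain ⟨hu2, -, -, huz, huy⟩ := R.u_facts d
  obtain ⟨g₀, hg₀, hgy⟩ := R.trans_u d (R.isConj_z_y d) huy.symm
  obtain ⟨s, hs, hsy, -⟩ := R.exists_swap d
  obtain ⟨hsz, hsu⟩ := mem_Dzy.mp hs
  set p := g₀ * z * g₀⁻¹ with hp
  have hpu : Commute p u₀ := by
    have := commute_conj g₀ huz.symm
    rwa [conj_of_commute hg₀] at this
  have hpzc : Commute p z := by
    have := commute_conj g₀ (d.hub.central y F.sing.1).symm
    rwa [hgy] at this
  have hpz : p ≠ z := fun e => F.sing.2.2.2 (by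
    rw [← hgy] at e
    exact (mul_left_cancel (mul_right_cancel e)).symm)
  have hcard : 256 ≤ Nat.card ↥(Dzy z u₀ ⊓ centralizer ({p} : Set G)) := by
    rw [← R.card_E0' d]
    refine Nat.card_le_card_of_injective
      (fun r => ⟨g₀ * (r : G) * g₀⁻¹, Subgroup.mem_inf.mpr ⟨mem_Dzy.mpr ⟨?_, ?_⟩, mem_cz.mpr ?_⟩⟩)
      fun r r' e => ?_
    · have := commute_conj g₀ (mem_cz.mp (Subgroup.mem_inf.mp r.2).2)
      rwa [hgy] at this
    · have := commute_conj g₀ (mem_Dzy.mp (Subgroup.mem_inf.mp r.2).1).2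
      rwa [conj_of_commute hg₀] at this
    · exact commute_conj g₀ (mem_Dzy.mp (Subgroup.mem_inf.mp r.2).1).1
    · exact Subtype.ext (mul_left_cancel (mul_right_cancel (congrArg Subtype.val e :
        g₀ * (r : G) * g₀⁻¹ = g₀ * (r' : G) * g₀⁻¹)))
  have fin : ∀ g, Commute g u₀ → g * y * g⁻¹ = z → g * z * g⁻¹ = y * z →
      ∃ g, Commute g u₀ ∧ g * y * g⁻¹ = z ∧ g * z * g⁻¹ = y * z ∧ g * (y * z) * g⁻¹ = y := by
    refine fun g h1 h2 h3 => ⟨g, h1, h2, h3, ?_⟩
    calc g * (y * z) * g⁻¹ = g * y * g⁻¹ * (g * z * g⁻¹) := by group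
      _ = z * y * z := by rw [h2, h3, mul_assoc]
      _ = y := by rw [← (d.hub.central y F.sing.1).eq, mul_assoc, d.hub.sq, mul_one]
  rcases R.special d (mem_Dzy.mpr ⟨hpzc, hpu⟩) (isConj_iff.mpr ⟨g₀, rfl⟩) hpz hcard with e | e
  · refine fin (s * g₀) (hsu.mul_left hg₀) ?_ ?_
    · calc s * g₀ * y * (s * g₀)⁻¹ = s * (g₀ * y * g₀⁻¹) * s⁻¹ := by group
        _ = z := by rw [hgy, conj_of_commute hsz]
    · calc s * g₀ * z * (s * g₀)⁻¹ = s * (g₀ * z * g₀⁻¹) * s⁻¹ := by group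
        _ = y * z := by rw [← hp, e, hsy]
  · exact fin g₀ hg₀ hgy (hp.symm.trans e)

end Radical

end Cfsg.Agent.SuzType
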