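import Cfsg.Agent.Lib.SuzType.UFour
import Cfsg.Agent.Lib.CITConsumer.Reduce
import Cfsg.Agent.Lib.CIT.Main
import Cfsg.Agent.Lib.ZStar.Main
import Cfsg.Agent.Lib.ZStar.Consumers
import Cfsg.Agent.Lib.SmallSimple.Order168
import Mathlib.GroupTheory.Transfer

/-!
# The second class: `C(u)`

`E = ⟨u, U⟩` is normal in `C(u)` (`Z*`), `C(u, U) = E × K` has index two and `K` is a simple CIT group
of order `20160` containing all conjugates of `z` in `C(u)`.
-/

set_option autoImplicit false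
set_option maxHeartbeats 400000
set_option synthInstance.maxSize 2048
set_option linter.style.haveILetI false

namespace Cfsg.Agent.SuzType

open Subgroup
open Cfsg.Agent.LargeExtraspecial (Hub)

universe v

variable {G : Type v} [Group G] [Finite G]

/-- A 2-group having no normalising element outside a subgroup is that subgroup. -/
theorem eq_of_normalizer_le {A P : Subgroup G} (hAP : A ≤ P) (hP : IsPGroup 2 P)
    (h : ∀ n ∈ P, (∀ a ∈ A, n * a * n⁻¹ ∈ A) → n ∈ A) : A = P := by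
  have : Fact (Nat.Prime 2) := ⟨Nat.prime_two⟩
  by_contra hne
  have hlt : A.subgroupOf P < ⊤ :=
    lt_top_iff_ne_top.mpr fun e => hne (le_antisymm hAP (subgroupOf_eq_top.mp e))
  have : Group.IsNilpotent ↥P := hP.isNilpotent
  obtain ⟨n, hn, hn'⟩ := SetLike.exists_of_lt (Group.normalizerCondition_of_isNilpotent _ hlt)
  refine hn' (mem_subgroupOf.mpr (h n n.2 fun a ha => ?_))
  exact mem_subgroupOf.mp ((mem_normalizer_iff.mp hn ⟨a, hAP ha⟩).mp (mem_subgroupOf.mpr ha))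

/-- A maximal 2-subgroup of `C` absorbs the 2-subgroups of `C`. -/
theorem conj_into {C A X : Subgroup G} (hAC : A ≤ C) (hA : IsPGroup 2 A)
    (hmax : ∀ P : Subgroup G, P ≤ C → IsPGroup 2 P → A ≤ P → A = P)
    (hXC : X ≤ C) (hX : IsPGroup 2 X) : ∃ h ∈ C, ∀ x ∈ X, h * x * h⁻¹ ∈ A := by
  have : Fact (Nat.Prime 2) := ⟨Nat.prime_two⟩
  obtain ⟨PA, hPA⟩ := (hA.of_equiv (subgroupOfEquivOfLe hAC).symm).exists_le_sylow
  have hPAeq : A.subgroupOf C = PA := by
    refine le_antisymm hPA fun x hx => mem_subgroupOf.mpr ?_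
    rw [hmax _ (map_subtype_le _) (PA.2.map C.subtype)
      (fun a ha => ⟨⟨a, hAC ha⟩, hPA (mem_subgroupOf.mpr ha), rfl⟩)]
    exact ⟨x, hx, rfl⟩
  obtain ⟨PX, hPX⟩ := (hX.of_equiv (subgroupOfEquivOfLe hXC).symm).exists_le_sylow
  obtain ⟨g, hg⟩ := MulAction.exists_smul_eq C PX PA
  refine ⟨g, g.2, fun x hx => ?_⟩
  have : (MulAut.conj g) (⟨x, hXC hx⟩ : C) ∈ (PA : Subgroup C) := by
    rw [← hg]
    exact ⟨_, hPX (mem_subgroupOf.mpr hx), rfl⟩
  rw [← hPAeq] at this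
  exact mem_subgroupOf.mp this

theorem isPGroup_zpowers_of_pow {x : G} {k : ℕ} (hx : x ^ 2 ^ k = 1) : IsPGroup 2 (zpowers x) := by
  rintro ⟨w, i, rfl⟩
  refine ⟨k, Subtype.ext ?_⟩
  show (x ^ i) ^ 2 ^ k = 1
  rw [← zpow_natCast, ← zpow_mul, mul_comm, zpow_mul, zpow_natCast, hx, one_zpow]

variable {z y : G} {Q : Subgroup G}

/-- The data of `exists_four`. -/
structure Four {F : Frame z y Q} (R : Radical F) (d : Data z Q) where
  U : G
  g : G
  s : G
  form : ∃ a b, U = R.el (SuzType.add e3 e4) e4 a b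
  g_u : Commute g (R.el e4 e3 false false)
  g_U : Commute g U
  g_y : g * y * g⁻¹ = z
  g_z : g * z * g⁻¹ = y * z
  g_yz : g * (y * z) * g⁻¹ = y
  s_mem : s ∈ Dzy z (R.el e4 e3 false false)
  s_y : s * y * s⁻¹ = y * z
  s_U : s * U * s⁻¹ = R.el e4 e3 false false * U
  fusion : ∀ t, t ∈ Dzy z (R.el e4 e3 false false) → IsConj z t →
    ∃ h, Commute h (R.el e4 e3 false false) ∧ Commute h U ∧ h * t * h⁻¹ = z

namespace Radical

variable {F : Frame z y Q} (R : Radical F) (d : Data z Q)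
include R d

theorem exists_Four : Nonempty (Four R d) := by
  obtain ⟨U, hU, ⟨g, k1, k2, k3, k4, k5⟩, ⟨s, l1, l2, l3⟩, hf⟩ := R.exists_four d
  exact ⟨⟨U, g, s, hU, k1, k2, k3, k4, k5, l1, l2, l3, hf⟩⟩

/-- The representative of the second class. -/
local notation "u₀" => Radical.el R e4 e3 false false

theorem isPGroup_T : IsPGroup 2 ↥(Dzy z u₀) :=
  IsPGroup.of_card (n := 9) (by rw [R.card_T d]; norm_num)

theorem isPGroup_E0 : IsPGroup 2 ↥(R.E0 d) :=
  IsPGroup.of_card (n := 8) (by rw [R.card_E0' d]; norm_num)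

theorem sylow_T {P : Subgroup G} (hP : P ≤ centralizer ({u₀} : Set G)) (hP2 : IsPGroup 2 P)
    (hle : Dzy z u₀ ≤ P) : Dzy z u₀ = P := by
  obtain ⟨hu2, -, -, huz, -⟩ := R.u_facts d
  obtain ⟨s, hs, hsy, -⟩ := R.exists_swap d
  refine eq_of_normalizer_le hle hP2 fun n hn hN => ?_
  have hnu : Commute n u₀ := mem_cz.mp (hP hn)
  set p := n * z * n⁻¹
  have hp : p ∈ Dzy z u₀ := hN z (mem_Dzy.mpr ⟨Commute.refl z, huz.symm⟩)
  have hcen : ∀ t ∈ Dzy z u₀, Commute p t := by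
    intro t ht
    have hmap : (Dzy z u₀).map (MulAut.conj n).toMonoidHom = Dzy z u₀ :=
      Subgroup.eq_of_le_of_card_ge (by rintro _ ⟨a, ha, rfl⟩; exact hN a ha)
        (by rw [card_map_of_injective (MulAut.conj n).injective])
    rw [← hmap] at ht
    obtain ⟨a, ha, rfl⟩ := ht
    exact commute_conj n (mem_Dzy.mp ha).1.symm
  refine mem_Dzy.mpr ⟨mul_inv_eq_iff_eq_mul.mp ?_, hnu⟩
  by_contra hne
  have hcard : 256 ≤ Nat.card ↥(Dzy z u₀ ⊓ centralizer ({p} : Set G)) := by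
    rw [inf_eq_left.mpr fun t ht => mem_cz.mpr (hcen t ht).symm, R.card_T d]
    norm_num
  rcases R.special d hp (isConj_iff.mpr ⟨n, rfl⟩) hne hcard with e | e
  · have := hcen s hs
    rw [e] at this
    exact R.y_ne_yz d (hsy ▸ conj_of_commute this.symm)
  · have := hcen s hs
    rw [e] at this
    have h2 := conj_of_commute this.symm
    rw [show s * (y * z) * s⁻¹ = s * y * s⁻¹ * (s * z * s⁻¹) by group, hsy,
      conj_of_commute (mem_Dzy.mp hs).1, mul_assoc, d.hub.sq, mul_one] at h2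
    exact R.y_ne_yz d h2.symm

theorem card_U0 : Nat.card ↥(R.U0 d) = 64 := by
  classical
  let f : {w : W // inU w = true} × {w : W // inU w = true} × Bool × Bool → ↥(R.U0 d) := fun t =>
    ⟨R.el t.1 t.2.1 t.2.2.1 t.2.2.2, _, _, _, _, t.1.2, t.2.1.2, rfl⟩
  rw [← Nat.card_eq_of_bijective f ⟨?_, ?_⟩]
  · have : Fintype.card {w : W // inU w = true} = 4 := by decide
    simp [Nat.card_eq_fintype_card, this]
  · rintro ⟨⟨w, _⟩, ⟨v, _⟩, a, b⟩ ⟨⟨w', _⟩, ⟨v', _⟩, a', b'⟩ e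
    obtain ⟨rfl, rfl, rfl, rfl⟩ := R.el_inj d (congrArg Subtype.val e)
    rfl
  · rintro ⟨_, w, v, a, b, h1, h2, rfl⟩
    exact ⟨(⟨w, h1⟩, ⟨v, h2⟩, a, b), rfl⟩

end Radical

namespace Four

variable {F : Frame z y Q} {R : Radical F} {d : Data z Q} (X : Four R d)

/-- The representative of the second class. -/
local notation "u₀" => Radical.el R e4 e3 false false

/-- `C(u, U)`. -/
def Dc : Subgroup G := centralizer ({u₀} : Set G) ⊓ centralizer ({X.U} : Set G)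

theorem mem_Dc {c : G} : c ∈ X.Dc ↔ Commute c u₀ ∧ Commute c X.U := by
  rw [Dc, Subgroup.mem_inf, mem_cz, mem_cz]

theorem U_facts : X.U ∈ R.E0 d ∧ X.U * X.U = 1 ∧ ∀ p ∈ R.U0 d, Commute p X.U := by
  obtain ⟨a, b, e⟩ := X.form
  rw [e]
  exact R.el_u1 d a b

theorem U_u : Commute X.U u₀ := (mem_Dzy.mp (Subgroup.mem_inf.mp X.U_facts.1).1).2

theorem E0_le_Dc : R.E0 d ≤ X.Dc := by
  intro e he
  refine X.mem_Dc.mpr ⟨(mem_Dzy.mp (Subgroup.mem_inf.mp he).1).2, ?_⟩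
  obtain ⟨w, v, a', b', rfl, c1, c2⟩ := (R.mem_E0 d).mp he
  obtain ⟨a, b, e⟩ := X.form
  rw [e]
  refine (R.el_commute d).mpr ?_
  have : ∀ w v : W, cy w v e4 e3 = false → cz w v e4 e3 = false →
      cy w v (SuzType.add e3 e4) e4 = false ∧ cz w v (SuzType.add e3 e4) e4 = false := by decide +kernel
  exact this w v c1 c2

theorem U_ne : X.U ≠ 1 ∧ X.U ≠ u₀ ∧ u₀ * X.U ≠ X.U ∧ u₀ * X.U ≠ 1 := by
  obtain ⟨a, b, e⟩ := X.form
  have hne : X.U ≠ u₀ := by
    rw [e]; exact fun e' => absurd (R.el_inj d e').2.1 (by decide)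
  obtain ⟨hu2, hu1, -⟩ := R.u_facts d
  refine ⟨?_, hne, fun h => hu1 (by simpa using h), fun h => hne ?_⟩
  · rw [e]
    intro h
    rw [show (1 : G) = R.el w0 w0 false false by rw [R.el_kk d]; simp [Radical.kk]] at h
    exact absurd (R.el_inj d h).2.1 (by decide)
  · rw [← inv_eq_of_mul_eq_one_right h, inv_eq_of_mul_eq_one_right hu2]

theorem T_inf {t : G} (ht : t ∈ Dzy z u₀) (hU : Commute t X.U) : t ∈ R.E0 d := by
  rcases R.T_cases d X.s_mem X.s_y ht with h | ⟨e, he, rfl⟩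
  · exact h
  exfalso
  have h := hU.mul_left ((X.mem_Dc.mp (X.E0_le_Dc he)).2.inv_left)
  rw [mul_inv_cancel_right] at h
  exact X.U_ne.2.2.1 (by rw [← X.s_U, conj_of_commute h])

theorem sylow_E0 {P : Subgroup G} (hP : P ≤ X.Dc) (hP2 : IsPGroup 2 P) (hle : R.E0 d ≤ P) :
    R.E0 d = P := by
  refine eq_of_normalizer_le hle hP2 fun n hn hN => ?_
  obtain ⟨hnu, hnU⟩ := X.mem_Dc.mp (hP hn)
  have hU0 : ∀ t ∈ R.E0 d, n * t * n⁻¹ ∈ R.E0 d := hN
  -- conjugates of `y` and `z` are central involutions of `E0` conjugate to `z`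
  have img : ∀ p, (∀ t ∈ R.E0 d, Commute p t) → IsConj z p → p ∈ R.E0 d →
      n * p * n⁻¹ = y ∨ n * p * n⁻¹ = z ∨ n * p * n⁻¹ = y * z := by
    intro p hp hpz hpE
    set q' := n * p * n⁻¹
    have hq : q' ∈ Dzy z u₀ := (Subgroup.mem_inf.mp (hN p hpE)).1
    have hcen : R.E0 d ≤ centralizer ({q'} : Set G) := by
      intro t ht
      have hmap : (R.E0 d).map (MulAut.conj n).toMonoidHom = R.E0 d :=
        Subgroup.eq_of_le_of_card_ge (by rintro _ ⟨a, ha, rfl⟩; exact hN a ha)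
          (by rw [card_map_of_injective (MulAut.conj n).injective])
      rw [← hmap] at ht
      obtain ⟨a, ha, rfl⟩ := ht
      exact mem_cz.mpr (commute_conj n (hp a ha).symm)
    by_cases hq' : q' = z
    · exact Or.inr (Or.inl hq')
    have hcard : 256 ≤ Nat.card ↥(Dzy z u₀ ⊓ centralizer ({q'} : Set G)) := by
      rw [← R.card_E0' d]
      exact Subgroup.card_le_of_le (le_inf inf_le_left hcen)
    rcases R.special d hq (hpz.trans (isConj_iff.mpr ⟨n, rfl⟩)) hq' hcard with e | e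
    exacts [Or.inl e, Or.inr (Or.inr e)]
  have hz := img z (fun t ht => (mem_Dzy.mp (Subgroup.mem_inf.mp ht).1).1.symm) (IsConj.refl z)
    (R.U0_le d (R.z_mem_U0 d))
  have stab : ∀ m, Commute m u₀ → Commute m X.U → m * z * m⁻¹ = z → m ∈ R.E0 d := fun m h1 h2 h3 =>
    X.T_inf (mem_Dzy.mpr ⟨mul_inv_eq_iff_eq_mul.mp h3, h1⟩) h2
  -- `n` is a power of `g` times an element of `E0`, and a 2-element
  have hgn := R.cycle_E0 d X.g_u X.g_y X.g_z X.g_yz
  have hcases : n ∈ R.E0 d ∨ X.g * n ∈ R.E0 d ∨ X.g * (X.g * n) ∈ R.E0 d := by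
    rcases hz with e | e | e
    · refine Or.inr (Or.inl (stab _ (X.g_u.mul_left hnu) (X.g_U.mul_left hnU) ?_))
      calc X.g * n * z * (X.g * n)⁻¹ = X.g * (n * z * n⁻¹) * X.g⁻¹ := by group
        _ = z := by rw [e, X.g_y]
    · exact Or.inl (stab _ hnu hnU e)
    · refine Or.inr (Or.inr (stab _ (X.g_u.mul_left (X.g_u.mul_left hnu))
        (X.g_U.mul_left (X.g_U.mul_left hnU)) ?_))
      calc X.g * (X.g * n) * z * (X.g * (X.g * n))⁻¹ = X.g * (X.g * (n * z * n⁻¹) * X.g⁻¹) * X.g⁻¹ := by group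
        _ = z := by rw [e, X.g_yz, X.g_y]
  have g3 : X.g * X.g * X.g ∈ R.E0 d := by
    refine stab _ ((X.g_u.mul_left X.g_u).mul_left X.g_u) ((X.g_U.mul_left X.g_U).mul_left X.g_U) ?_
    calc X.g * X.g * X.g * z * (X.g * X.g * X.g)⁻¹
        = X.g * (X.g * (X.g * z * X.g⁻¹) * X.g⁻¹) * X.g⁻¹ := by group
      _ = z := by rw [X.g_z, X.g_yz, X.g_y]
  let H : Subgroup G := (normalizer ((R.E0 d : Subgroup G) : Set G))
  have hgH : X.g ∈ H := mem_normalizer_fintype fun a ha => hgn a ha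
  have hnH : n ∈ H := mem_normalizer_fintype fun a ha => hN a ha
  have : ((R.E0 d).subgroupOf H).Normal := normal_subgroupOf_of_le_normalizer le_rfl
  let π := QuotientGroup.mk' ((R.E0 d).subgroupOf H)
  have hπ : ∀ {m : G} (hm : m ∈ H), m ∈ R.E0 d → π ⟨m, hm⟩ = 1 := fun hm h =>
    (QuotientGroup.eq_one_iff _).mpr (mem_subgroupOf.mpr h)
  have hg3 : π ⟨X.g, hgH⟩ ^ 3 = 1 := by
    rw [← map_pow]
    refine hπ (m := X.g ^ 3) (pow_mem hgH 3) ?_
    rwa [pow_succ, pow_two]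
  have hn3 : π ⟨n, hnH⟩ ^ 3 = 1 := by
    rcases hcases with h | h | h
    · rw [hπ hnH h, one_pow]
    · have e : π ⟨X.g, hgH⟩ * π ⟨n, hnH⟩ = 1 := by rw [← map_mul]; exact hπ (mul_mem hgH hnH) h
      rw [← inv_eq_of_mul_eq_one_right e, inv_pow, hg3, inv_one]
    · have e : π ⟨X.g, hgH⟩ * π ⟨X.g, hgH⟩ * π ⟨n, hnH⟩ = 1 := by
        rw [← map_mul, ← map_mul]; exact hπ _ (by simpa [mul_assoc] using h)
      rw [← inv_eq_of_mul_eq_one_right e, inv_pow, ← pow_two, ← pow_mul, pow_mul', hg3, one_pow,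
        inv_one]
  obtain ⟨k, hk⟩ := hP2 ⟨n, hn⟩
  have hn2 : π ⟨n, hnH⟩ ^ 2 ^ k = 1 := by
    rw [← map_pow]
    refine hπ (m := n ^ 2 ^ k) (pow_mem hnH _) ?_
    rw [show n ^ 2 ^ k = 1 from congrArg Subtype.val hk]
    exact one_mem _
  have h1 := pow_gcd_eq_one.mpr ⟨hn3, hn2⟩
  rw [(Nat.Coprime.pow_right k (by norm_num : Nat.Coprime 3 2)).gcd_eq_one, pow_one] at h1
  exact mem_subgroupOf.mp ((QuotientGroup.eq_one_iff _).mp h1)

/-- The fusion lemma: a conjugate of `U` in `T` is `U` or `u U`. -/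
theorem U_isolated {g : G} (hg : Commute g u₀) (hgT : g * X.U * g⁻¹ ∈ Dzy z u₀) :
    g * X.U * g⁻¹ = X.U ∨ g * X.U * g⁻¹ = u₀ * X.U := by
  obtain ⟨hu2, -, -, huz, -⟩ := R.u_facts d
  set z' := g⁻¹ * z * g
  have hz' : z' ∈ X.Dc := by
    refine X.mem_Dc.mpr ⟨?_, ?_⟩
    · have := commute_conj g⁻¹ huz.symm
      rwa [conj_of_commute hg.inv_left, inv_inv] at this
    · have := commute_conj g⁻¹ (mem_Dzy.mp hgT).1.symm
      rwa [inv_inv, show g⁻¹ * (g * X.U * g⁻¹) * g = X.U by group] at this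
  have hz2 : z' * z' = 1 := by
    rw [show z' * z' = g⁻¹ * (z * z) * g by simp only [z']; group, d.hub.sq]; group
  obtain ⟨h, hh, hh'⟩ := conj_into X.E0_le_Dc (R.isPGroup_E0 d)
    (fun P h1 h2 h3 => X.sylow_E0 h1 h2 h3) (zpowers_le.mpr hz')
    (isPGroup_zpowers_of_pow (k := 1) (by rw [pow_one, pow_two, hz2]))
  obtain ⟨hhu, hhU⟩ := X.mem_Dc.mp hh
  have hE := hh' z' (mem_zpowers z')
  obtain ⟨f, hfu, hfU, hf⟩ := X.fusion _ (Subgroup.mem_inf.mp hE).1
    (((isConj_iff.mpr ⟨g⁻¹, by simp [z']⟩ : IsConj z z')).trans (isConj_iff.mpr ⟨h, rfl⟩))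
  set k := g * (f * h)⁻¹
  have hkT : k ∈ Dzy z u₀ := by
    refine mem_Dzy.mpr ⟨mul_inv_eq_iff_eq_mul.mp ?_, hg.mul_left (hfu.mul_left hhu).inv_left⟩
    calc k * z * k⁻¹ = g * ((f * h)⁻¹ * (f * (h * z' * h⁻¹) * f⁻¹) * (f * h)) * g⁻¹ := by
          rw [hf]; simp only [k]; group
      _ = z := by simp only [z']; group
  have hconj : k * X.U * k⁻¹ = g * X.U * g⁻¹ := by
    calc k * X.U * k⁻¹ = g * ((f * h)⁻¹ * X.U * (f * h)⁻¹⁻¹) * g⁻¹ := by simp only [k]; group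
      _ = _ := by rw [conj_of_commute (hfU.mul_left hhU).inv_left]
  rw [← hconj]
  rcases R.T_cases d X.s_mem X.s_y hkT with h1 | ⟨e, he, h1⟩
  · exact Or.inl (conj_of_commute (X.mem_Dc.mp (X.E0_le_Dc h1)).2)
  · right
    rw [h1, show X.s * e * X.U * (X.s * e)⁻¹ = X.s * (e * X.U * e⁻¹) * X.s⁻¹ by group,
      conj_of_commute (X.mem_Dc.mp (X.E0_le_Dc he)).2, X.s_U]

/-- `⟨u, U⟩` is normal in `C(u)`: by `Z*` in `C(u)/⟨u⟩`. -/
theorem conj_U {g : G} (hg : Commute g u₀) :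
    g * X.U * g⁻¹ = X.U ∨ g * X.U * g⁻¹ = u₀ * X.U := by
  classical
  have : Fact (Nat.Prime 2) := ⟨Nat.prime_two⟩
  obtain ⟨hu2, hu1, -, huz, huy⟩ := R.u_facts d
  obtain ⟨hUE, hU2, -⟩ := X.U_facts
  have hsing := F.sing
  set C := centralizer ({u₀} : Set G) with hC
  have hTC : Dzy z u₀ ≤ C := fun t ht => mem_cz.mpr (mem_Dzy.mp ht).2
  let uC : ↥C := ⟨u₀, mem_cz.mpr (Commute.refl _)⟩
  let N : Subgroup ↥C := zpowers uC
  have hcenu : ∀ c : ↥C, Commute uC c := fun c => Subtype.ext (mem_cz.mp c.2).symm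
  have : N.Normal := ⟨fun n hn c => by
    obtain ⟨i, rfl⟩ := hn
    rw [((hcenu c).zpow_left i).symm.eq, mul_inv_cancel_right]
    exact ⟨i, rfl⟩⟩
  let π := QuotientGroup.mk' N
  have hker : ∀ c : ↥C, π c = 1 → (c : G) = 1 ∨ (c : G) = u₀ := by
    intro c hc
    obtain ⟨i, rfl⟩ := (QuotientGroup.eq_one_iff c).mp hc
    show (u₀ : G) ^ i = 1 ∨ (u₀ : G) ^ i = u₀
    rcases Int.even_or_odd i with ⟨j, rfl⟩ | ⟨j, rfl⟩
    · left; rw [← two_mul, zpow_mul, zpow_two, hu2, one_zpow]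
    · right; rw [zpow_add_one, zpow_mul, zpow_two, hu2, one_zpow, one_mul]
  have hT2 : IsPGroup 2 ↥((Dzy z u₀).subgroupOf C) :=
    (R.isPGroup_T d).of_equiv (subgroupOfEquivOfLe hTC).symm
  obtain ⟨P, hP⟩ := hT2.exists_le_sylow
  have hPeq : (P : Subgroup ↥C) = (Dzy z u₀).subgroupOf C := by
    refine le_antisymm (fun x hx => mem_subgroupOf.mpr ?_) hP
    rw [R.sylow_T d (map_subtype_le _) (P.2.map C.subtype)
      (fun a ha => ⟨⟨a, hTC ha⟩, hP (mem_subgroupOf.mpr ha), rfl⟩)]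
    exact ⟨x, hx, rfl⟩
  let Pb : Sylow 2 (↥C ⧸ N) := P.mapSurjective (QuotientGroup.mk'_surjective N)
  have hPb : (Pb : Subgroup (↥C ⧸ N)) = ((Dzy z u₀).subgroupOf C).map π := by
    rw [Sylow.coe_mapSurjective, hPeq]
  let UC : ↥C := ⟨X.U, mem_cz.mpr X.U_u⟩
  have hUne : π UC ≠ 1 := fun e => by
    rcases hker _ e with h | h
    exacts [X.U_ne.1 h, X.U_ne.2.1 h]
  have hUo : orderOf (π UC) = 2 := orderOf_eq_prime (by
    rw [← map_pow, show UC ^ 2 = 1 from Subtype.ext (by rw [pow_two]; exact hU2), map_one]) hUne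
  have hUmem : π UC ∈ (Pb : Subgroup (↥C ⧸ N)) := by
    rw [hPb]; exact ⟨UC, mem_subgroupOf.mpr (Subgroup.mem_inf.mp hUE).1, rfl⟩
  have hiso : Cfsg.IsIsolatedInvolution (π UC) := by
    refine ZStar.isolated_of_sylow hUo hUmem fun a ha => ?_
    obtain ⟨c, rfl⟩ := QuotientGroup.mk'_surjective N a
    rw [← map_inv, ← map_mul, ← map_mul] at ha ⊢
    replace ha : π (c * UC * c⁻¹) ∈ (Pb : Subgroup (↥C ⧸ N)) := ha
    show π (c * UC * c⁻¹) = π UC
    rw [hPb] at ha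
    obtain ⟨t, ht, et⟩ := ha
    have hmem : (c : G) * X.U * (c : G)⁻¹ ∈ Dzy z u₀ := by
      rcases hker (t⁻¹ * (c * UC * c⁻¹)) (by rw [map_mul, map_inv, et, inv_mul_cancel]) with e | e
      · have := mul_mem (mem_subgroupOf.mp ht) (e.symm ▸ one_mem _ :
          ((t⁻¹ * (c * UC * c⁻¹) : ↥C) : G) ∈ Dzy z u₀)
        simpa using this
      · have := mul_mem (mem_subgroupOf.mp ht) (e.symm ▸ mem_Dzy.mpr ⟨huz, Commute.refl _⟩ :
          ((t⁻¹ * (c * UC * c⁻¹) : ↥C) : G) ∈ Dzy z u₀)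
        simpa using this
    rcases X.U_isolated (mem_cz.mp c.2) hmem with e | e
    · rw [show c * UC * c⁻¹ = UC from Subtype.ext e]
    · rw [show c * UC * c⁻¹ = uC * UC from Subtype.ext e, map_mul,
        show π uC = 1 from (QuotientGroup.eq_one_iff _).mpr (mem_zpowers _), one_mul]
  have hO : Cfsg.oddCore (↥C ⧸ N) = ⊥ := by
    rw [Subgroup.eq_bot_iff_forall]
    intro x hx
    have hOn : (Cfsg.oddCore (↥C ⧸ N)).Normal := inferInstance
    have hOo : Odd (Nat.card (Cfsg.oddCore (↥C ⧸ N))) := PCore.odd_card_oddCore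
    -- a conjugate of `z` has a 2-group as centraliser modulo `u₀`
    have hinv : ∀ (p : G) (hpu : Commute p u₀), IsConj z p →
        ∀ a ∈ Cfsg.oddCore (↥C ⧸ N), π ⟨p, mem_cz.mpr hpu⟩ * a * π ⟨p, mem_cz.mpr hpu⟩ = a⁻¹ := by
      intro p hpu hpz
      have hp2 : p * p = 1 := by
        obtain ⟨q', hq'⟩ := isConj_iff.mp hpz
        rw [← hq']; exact conj_sq d.hub.sq
      set pC : ↥C := ⟨p, mem_cz.mpr hpu⟩
      have hpi : (π pC)⁻¹ = π pC := inv_eq_of_mul_eq_one_right (by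
        rw [← map_mul, show pC * pC = 1 from Subtype.ext hp2, map_one])
      refine TICentralisers.inverts_of_fpf (by
          rw [← map_mul, show pC * pC = 1 from Subtype.ext hp2, map_one]) _
        (fun a ha => by have := hOn.conj_mem a ha (π pC); rwa [hpi] at this) fun a ha hcm => ?_
      obtain ⟨c, rfl⟩ := QuotientGroup.mk'_surjective N a
      replace hcm : Commute (π c) (π pC) := hcm
      show π c = 1
      obtain ⟨f, hfu, hf⟩ := R.trans_u d hpz hpu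
      have hc : (c : G) * p * (c : G)⁻¹ = p := by
        have e1 : π (pC⁻¹ * (c * pC * c⁻¹)) = 1 := by
          rw [map_mul, map_mul, map_mul, map_inv, map_inv, hcm.eq]; group
        rcases hker _ e1 with e | e
        · exact (inv_mul_eq_one.mp e).symm
        · exfalso
          have e' : (c : G) * p * (c : G)⁻¹ = p * u₀ := by
            rw [← e]; simp [pC, mul_assoc]
          have hz' : IsConj z (z * u₀) := by
            rw [show z * u₀ = f * ((c : G) * p * (c : G)⁻¹) * f⁻¹ by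
              rw [e', show f * (p * u₀) * f⁻¹ = f * p * f⁻¹ * (f * u₀ * f⁻¹) by group, hf,
                conj_of_commute hfu]]
            exact hpz.trans ((isConj_iff.mpr ⟨(c : G), rfl⟩ : IsConj p _).trans
              (isConj_iff.mpr ⟨f, rfl⟩))
          have hm := R.z_in_T d (mem_Dzy.mpr ⟨(Commute.refl z).mul_left huz,
            huz.symm.mul_left (Commute.refl _)⟩) hz'
          have hu0 : u₀ ∈ R.U0 d := by
            have := mul_mem (inv_mem (R.z_mem_U0 d)) hm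
            rwa [inv_mul_cancel_left] at this
          obtain ⟨w, v, a, b, hw, -, e2⟩ := hu0
          rw [← (R.el_inj d e2).1] at hw
          exact absurd hw (by decide)
      have hT : f * (c : G) * f⁻¹ ∈ Dzy z u₀ := by
        refine mem_Dzy.mpr ⟨?_, (hfu.mul_left (mem_cz.mp c.2)).mul_left hfu.inv_left⟩
        have := commute_conj f (mul_inv_eq_iff_eq_mul.mp hc : Commute (c : G) p)
        rwa [hf] at this
      obtain ⟨k, hk⟩ := R.isPGroup_T d ⟨_, hT⟩
      have hk' : (c : G) ^ 2 ^ k = 1 := by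
        have := congrArg Subtype.val hk
        simp only [SubmonoidClass.coe_pow, conj_pow, OneMemClass.coe_one] at this
        exact conj_eq_one_iff.mp this
      have h2 : (π c) ^ 2 ^ k = 1 := by
        rw [← map_pow, show c ^ 2 ^ k = 1 from Subtype.ext hk', map_one]
      have hd := (Cfsg.oddCore (↥C ⧸ N)).orderOf_dvd_natCard ha
      exact orderOf_eq_one_iff.mp (Nat.eq_one_of_dvd_coprimes
        (Nat.Coprime.pow_right k (Nat.coprime_two_right.mpr hOo)) hd (orderOf_dvd_of_pow_eq_one h2))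
    have hyz : IsConj z (y * z) := R.isConj_of_Q d (mul_mem hsing.1 d.hub.mem) (by
      rw [mul_assoc, ← mul_assoc z, ← (d.hub.central y hsing.1).eq, mul_assoc y z z, d.hub.sq,
        mul_one, hsing.2.1]) (fun e => hsing.2.2.2 (by
        rw [eq_inv_of_mul_eq_one_left e, inv_eq_of_mul_eq_one_right d.hub.sq]))
    have iy := hinv y huy.symm (R.isConj_z_y d) x hx
    have iz := hinv z huz.symm (IsConj.refl z) _ (inv_mem hx)
    have iyz := hinv (y * z) (huy.symm.mul_left huz.symm) hyz x hx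
    rw [inv_inv] at iz
    have key : ∀ Y Z : ↥C ⧸ N, Commute Y Z → Y * x * Y = x⁻¹ → Z * x⁻¹ * Z = x →
        Y * Z * x * (Y * Z) = x⁻¹ → x = x⁻¹ := by
      intro Y Z hYZ h1 h2 h3
      calc x = Z * (Y * x * Y) * Z := by rw [h1, h2]
        _ = Z * Y * x * (Y * Z) := by group
        _ = x⁻¹ := by rw [← hYZ.eq, h3]
    have : x = x⁻¹ := key _ _ (by
      show π ⟨y, mem_cz.mpr huy.symm⟩ * π ⟨z, mem_cz.mpr huz.symm⟩ = _
      rw [← map_mul, ← map_mul]
      exact congrArg π (Subtype.ext (d.hub.central y hsing.1).eq)) iy iz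
      (by rw [← map_mul]; exact iyz)
    have h2 : x ^ 2 = 1 := by
      rw [pow_two]; nth_rewrite 2 [this]; rw [mul_inv_cancel]
    have hd := (Cfsg.oddCore (↥C ⧸ N)).orderOf_dvd_natCard hx
    exact orderOf_eq_one_iff.mp (Nat.eq_one_of_dvd_coprimes (Nat.coprime_two_right.mpr hOo) hd
      (orderOf_dvd_of_pow_eq_one h2))
  have hcen := ZStar.mem_center_of_oddCore_eq_bot (ZStar.inZStar hiso) hO
  have := Subgroup.mem_center_iff.mp hcen (π ⟨g, mem_cz.mpr hg⟩)
  rcases hker (UC⁻¹ * (⟨g, mem_cz.mpr hg⟩ * UC * (⟨g, mem_cz.mpr hg⟩ : ↥C)⁻¹)) (by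
    rw [map_mul, map_mul, map_mul, map_inv, map_inv, this]; group) with e | e
  · exact Or.inl (inv_mul_eq_one.mp e).symm
  · refine Or.inr ?_
    have e' : g * X.U * g⁻¹ = X.U * u₀ := by rw [← e]; simp [UC, mul_assoc]
    rw [e', X.U_u.eq]

end Four

end Cfsg.Agent.SuzType
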