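import Cfsg.Agent.Lib.SuzType.QCoord
import Cfsg.Agent.Lib.SuzType.UCount

/-!
# Pairs of involutions with `z` a power of the product
-/

set_option autoImplicit false
set_option maxHeartbeats 400000
set_option synthInstance.maxSize 2048

namespace Cfsg.Agent.SuzType

open Subgroup
open Cfsg.Agent.LargeExtraspecial (Hub)

universe v

variable {G : Type v} [Group G] [Finite G] {z y : G} {Q : Subgroup G}

/-- A cyclic group has at most one involution. -/
theorem involution_eq_of_zpowers {g : G} {i j : ℕ} (hi : g ^ i * g ^ i = 1) (hi1 : g ^ i ≠ 1)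
    (hj : g ^ j * g ^ j = 1) (hj1 : g ^ j ≠ 1) : g ^ i = g ^ j := by
  have key : ∀ k : ℕ, g ^ k * g ^ k = 1 → g ^ k ≠ 1 → g ^ k = g ^ (orderOf g / 2) := by
    intro k hk hk1
    have hd : orderOf g ∣ k + k := orderOf_dvd_of_pow_eq_one (by rw [pow_add]; exact hk)
    rcases Nat.even_or_odd (orderOf g) with ⟨h, hh⟩ | ho
    · rw [hh] at hd
      obtain ⟨c, hc⟩ := hd
      have hk' : k = h * c := by nlinarith
      rw [show orderOf g / 2 = h by omega, hk', pow_mul]
      have h2 : g ^ h * g ^ h = 1 := by rw [← pow_add, ← hh]; exact pow_orderOf_eq_one g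
      rcases Nat.even_or_odd c with ⟨c', rfl⟩ | ⟨c', rfl⟩
      · refine absurd ?_ hk1
        rw [hk', pow_mul, pow_add, ← (Commute.refl _).mul_pow, h2, one_pow]
      · rw [pow_succ, pow_mul, pow_two, h2, one_pow, one_mul]
    · refine absurd ?_ hk1
      have : orderOf g ∣ k := by
        rw [← two_mul] at hd
        exact (Nat.Coprime.dvd_of_dvd_mul_left
          (by rw [Nat.coprime_two_right]; exact ho) hd)
      exact orderOf_dvd_iff_pow_eq_one.mp this
  rw [key i hi hi1, key j hj hj1]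

namespace Radical

variable {F : Frame z y Q} (R : Radical F) (d : Data z Q)
include R d

/-- The representative of the second class. -/
local notation "u₀" => Radical.el R e4 e3 false false

theorem z_inv {t : G} (ht : IsConj z t) : t * t = 1 ∧ t ≠ 1 := by
  obtain ⟨c, rfl⟩ := isConj_iff.mp ht
  exact ⟨conj_sq d.hub.sq, fun e => d.hub.ne_one (conj_eq_one_iff.mp e)⟩

theorem isConj_el_sing {w v : W} (hv : v ≠ w0) (hq : q true v = false) (hw : w = w0 ∨ w = v)
    (a b : Bool) : IsConj z (R.el w v a b) := by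
  have hB : B w v = false ∧ q true w = false := by
    rcases hw with rfl | rfl
    · exact ⟨by revert v; decide, rfl⟩
    · exact ⟨B_self _, hq⟩
  have h2 : R.el w v a b * R.el w v a b = 1 := by
    rw [R.el_sq d, hB.1, hB.2, hq]; simp [kk]
  rcases R.el_cases d hv h2 with ⟨-, c, -, hc⟩ | ⟨c, hcD, hc⟩
  · exact (R.sing _ (pt_spec.1 0).2 (pt_spec.1 0).1).trans (isConj_iff.mpr ⟨c, hc⟩)
  · exfalso
    obtain ⟨a', b', e⟩ := R.el_conj_D d hcD e4 e3 false false
    rw [hc] at e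
    obtain ⟨-, hv', -, -⟩ := R.el_inj d e
    have h3 := F.actW_q d hcD e3
    rw [← hv', F.minus_true d, hq] at h3
    exact absurd h3 (by decide)

theorem exists_radAt {i : ℕ} (hi : i < 54) : Nonempty (Radical (F.frameAt d hi)) := by
  obtain ⟨h1, h2, h3, -⟩ := (F.frameAt d hi).sing
  obtain ⟨g, hg⟩ := isConj_iff.mp (R.isConj_of_Q d h1 h2 h3)
  exact exists_radical _ d hg

/-- The `z`-class in `C(z)`, without `z`. -/
def ZEl (_R : Radical F) (a : G) : Prop := IsConj z a ∧ Commute a z ∧ a ≠ z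

theorem el_false {i : ℕ} (hi : i < 54) (R' : Radical (F.frameAt d hi)) :
    ∀ t b, F.Acts (R'.el w0 w0 t b) (cact i w0 w0 t) := by
  obtain ⟨e, he⟩ := Radical.acts_el d hi R' w0 w0
  have h1 : R'.el w0 w0 false false = 1 := by simp [el, kk, R'.zero, (F.frameAt d hi).zero]
  have h := he false false
  rw [h1, Bool.xor_false] at h
  have hcid := Frame.Acts.code_eq F d h (F.acts_one d) (cact_bdd hi _ _ _) (by decide)
  cases e
  · simpa using he
  · obtain ⟨k, hk, ek⟩ := exists_entry hi (v := w0) (w := w0) (a := true) (by decide)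
    exact absurd (ek.trans hcid) (eCode_ne hk)

theorem exists_zel {k : ℕ} (hk : k < 207) :
    ∃ a, ∀ b, R.ZEl (a * pw z b) ∧ F.Acts (a * pw z b) (eCode k) := by
  obtain ⟨hi, hv⟩ := entry_valid k hk
  obtain ⟨R'⟩ := R.exists_radAt d hi
  have fin : ∀ a : G, Commute a z → F.Acts a (eCode k) → a ≠ z := fun a _ ha e =>
    eCode_ne hk (Frame.Acts.code_eq F d (e ▸ ha) (F.acts_z d) (entry_key k hk).2 (by decide))
  obtain ⟨e, he⟩ := Radical.acts_el d hi R' (eW k) (eV k)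
  refine ⟨R'.el (eW k) (eV k) (xor e (eA k)) false, fun b => ?_⟩
  have hb : R'.el (eW k) (eV k) (xor e (eA k)) false * pw z b = R'.el (eW k) (eV k) (xor e (eA k)) b := by
    simp [el, kk, mul_assoc]
  rw [hb]
  have hact : F.Acts (R'.el (eW k) (eV k) (xor e (eA k)) b) (eCode k) := by
    have := he (xor e (eA k)) b
    rwa [← Bool.xor_assoc, Bool.xor_self, Bool.false_xor] at this
  have hcz := (mem_Dzy.mp (R'.el_mem d (eW k) (eV k) (xor e (eA k)) b)).1
  refine ⟨⟨?_, hcz, fin _ hcz hact⟩, hact⟩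
  simp only [cvalid, Bool.or_eq_true, Bool.and_eq_true, decide_eq_true_eq, Bool.not_eq_true',
    decide_eq_false_iff_not] at hv
  rcases hv with ⟨⟨hv0, hw0⟩, -⟩ | ⟨⟨hv0, hq⟩, hw⟩
  · rw [hv0, hw0] at hact hcz ⊢
    have hne := fin _ hcz (by rw [hv0, hw0] at *; exact hact)
    have hQ : R'.el w0 w0 (xor e (eA k)) b ∈ Q := by
      rw [R'.el_kk d, kk]; exact mul_mem (pw_mem (F.frameAt d hi).sing.1 _) (pw_mem d.hub.mem _)
    refine R.isConj_of_Q d hQ ?_ fun e1 => ?_
    · rw [R'.el_kk d, R'.kk_mul d]; simp [kk]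
    · rw [e1] at hact
      exact eCode_ne hk (Frame.Acts.code_eq F d hact (F.acts_one d) (entry_key k hk).2 (by decide))
  · exact R'.isConj_el_sing d hv0 hq hw _ _

theorem zel_entry {a : G} (ha : R.ZEl a) : ∃ k < 207, F.Acts a (eCode k) := by
  obtain ⟨haz, hcz, hne⟩ := ha
  obtain ⟨ha2, ha1⟩ := R.z_inv d haz
  have hi : ∀ y', Sing z Q y' → ∃ i < 54, F.evc (cframe i).2.1 = y' := by
    rintro y' ⟨hy, h2, h1, h3⟩
    obtain ⟨p, hp, rfl⟩ := F.evc_surj d hy
    obtain ⟨i, hi, e⟩ := frame_cover p hp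
      (F.evc_inj d (cmul_lt hp hp) (by decide) (by rw [F.evc_mul d, h2, F.evc_zero d]))
      (fun e => h1 (e ▸ F.evc_zero d)) (fun e => h3 (e ▸ F.evc_z d))
    exact ⟨i, hi, by rw [e]⟩
  by_cases haQ : a ∈ Q
  · obtain ⟨i, hi, e⟩ := hi a ⟨haQ, ha2, ha1, hne⟩
    obtain ⟨R'⟩ := R.exists_radAt d hi
    obtain ⟨k, hk, ek⟩ := exists_entry hi (v := w0) (w := w0) (a := true) (by decide)
    refine ⟨k, hk, ?_⟩
    have := R.el_false d hi R' true false
    rw [R'.el_kk d, kk, pw_true, pw_false, mul_one, e] at this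
    rw [ek]
    exact this
  obtain ⟨hu2, -⟩ := R.u_facts d
  rcases R.cases_cz d ha2 hcz haQ with ⟨c, hc, hca⟩ | ⟨c, -, hc⟩
  swap
  · exact absurd (haz.trans (isConj_iff.mpr ⟨c, hc⟩ : IsConj u₀ a).symm) (R.not_isConj d)
  obtain ⟨i, hi, e⟩ := hi _ (Sing.conj d.hub hc F.sing)
  obtain ⟨R'⟩ := R.exists_radAt d hi
  obtain ⟨nz, ny⟩ := mem_Dzy.mp (R.mem (pt 0))
  have hD : a ∈ Dzy z (F.evc (cframe i).2.1) := mem_Dzy.mpr ⟨hcz, by
    rw [e, ← hca]; exact commute_conj c ny⟩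
  have hact : ∀ w, (F.frameAt d hi).actW a w = w := by
    intro w
    have hmQ := (F.frameAt d hi).mem w
    have hmy := (F.frameAt d hi).comm_y w
    set mw := (F.frameAt d hi).m w
    have hpQ : c⁻¹ * mw * c ∈ Q := by simpa using d.hub.normalizes c⁻¹ hc.inv_left mw hmQ
    have hpy : fl (c⁻¹ * mw * c) y = false := by
      rw [fl_eq_false]
      have := commute_conj c⁻¹ hmy
      rwa [e, inv_inv, show c⁻¹ * (c * y * c⁻¹) * c = y by group] at this
    obtain ⟨bz, hp⟩ := F.exists_elem d hpQ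
    rw [hpy, Frame.elem, pw_false, one_mul] at hp
    set u := F.wof (c⁻¹ * mw * c)
    set bx := fl (c⁻¹ * mw * c) F.x
    have h0 : R.n (pt 0) * (c⁻¹ * mw * c) * (R.n (pt 0))⁻¹ =
        c⁻¹ * mw * c * (pw y (B u (pt 0)) * pw z (B u (pt 0))) := by
      have cy : Commute (R.n (pt 0)) (pw y bx) := pw_commute ny bx
      have cz : Commute (R.n (pt 0)) (pw z bz) := pw_commute nz bz
      have hK : Commute (pw y (B u (pt 0)) * pw z (B u (pt 0))) (pw z bz) := by
        have h1 : Commute (pw z bz) (pw y (B u (pt 0)) * pw z (B u (pt 0))) :=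
          ((pw_commute (d.hub.central _ (pw_mem F.sing.1 _)) bz).symm).mul_right
            (pw_commute (pw_commute (Commute.refl z) bz).symm _)
        exact h1.symm
      rw [hp]
      calc R.n (pt 0) * (pw y bx * F.m u * pw z bz) * (R.n (pt 0))⁻¹
          = R.n (pt 0) * pw y bx * (R.n (pt 0))⁻¹ * (R.n (pt 0) * F.m u * (R.n (pt 0))⁻¹) *
              (R.n (pt 0) * pw z bz * (R.n (pt 0))⁻¹) := by group
        _ = pw y bx * F.m u * ((pw y (B u (pt 0)) * pw z (B u (pt 0))) * pw z bz) := by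
            rw [conj_of_commute cy, conj_of_commute cz, R.comm]; group
        _ = _ := by rw [hK.eq]; group
    have h1 : a * mw * a⁻¹ = mw * (pw (F.evc (cframe i).2.1) (B u (pt 0)) * pw z (B u (pt 0))) := by
      rw [e, ← hca, ← pw_conj (rfl : c * y * c⁻¹ = c * y * c⁻¹) (B u (pt 0))]
      conv_rhs => rw [← pw_conj (conj_of_commute hc) (B u (pt 0))]
      calc c * R.n (pt 0) * c⁻¹ * mw * (c * R.n (pt 0) * c⁻¹)⁻¹
          = c * (R.n (pt 0) * (c⁻¹ * mw * c) * (R.n (pt 0))⁻¹) * c⁻¹ := by group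
        _ = _ := by rw [h0]; group
    show (F.frameAt d hi).wof (a * mw * a⁻¹) = w
    have hy' := pw_mem (F.frameAt d hi).sing.1 (B u (pt 0))
    rw [h1, (F.frameAt d hi).wof_mul d.hub hmQ (mul_mem hy' (pw_mem d.hub.mem _)),
      (F.frameAt d hi).wof_mul d.hub hy' (pw_mem d.hub.mem _), (F.frameAt d hi).wof_y d.hub,
      (F.frameAt d hi).wof_z d.hub, (F.frameAt d hi).wof_m d.hub, add_self, (add_zero' _).1]
  obtain ⟨v, w, s, b, hav⟩ := R'.gen a hD hact
  have hav : a = R'.el w v s b := by rw [hav]; simp only [el, kk, mul_assoc]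
  have hv : v ≠ w0 := fun h0 => haQ (by
    rw [hav, h0, el, R'.zero, mul_one, kk]
    exact mul_mem ((F.frameAt d hi).mem w)
      (mul_mem (pw_mem (F.frameAt d hi).sing.1 _) (pw_mem d.hub.mem _)))
  have hs := (R'.el_normal d hv (by rw [← hav]; exact ha2)).1
  rcases R'.el_cases d hv (by rw [← hav]; exact ha2) with ⟨hq, -⟩ | ⟨c', -, hc'⟩
  swap
  · rw [← hav] at hc'
    exact absurd (haz.trans (isConj_iff.mpr ⟨c', hc'⟩ : IsConj _ a).symm) (R'.not_isConj d)
  have hw : w = w0 ∨ w = v := by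
    rcases inv_pairs w v hv hs.1 hs.2 with ⟨-, hw⟩ | ⟨hq', -, -⟩
    · exact hw
    · rw [hq] at hq'; exact absurd hq' (by decide)
  obtain ⟨e', he'⟩ := Radical.acts_el d hi R' w v
  obtain ⟨k, hk, ek⟩ := exists_entry hi (v := v) (w := w) (a := xor e' s) (by
    simp [cvalid, hv, hq, hw])
  exact ⟨k, hk, by rw [hav, ek]; exact he' s b⟩

/-- When `z` is a power of an element with a certified substitution. -/
theorem crit {k : ℕ} (hk : k < 207) {g : G} (hg : Commute g z)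
    (hgA : F.Acts g (ccomp (eCode k) uCode)) : z ∈ zpowers g ↔ kBit k = true := by
  obtain ⟨hm, hi, hc1, hne, hpow⟩ := cert_check k hk
  have hA := Frame.Acts.pow F d hgA hg (kM k)
  rw [hpow] at hA
  obtain ⟨R'⟩ := R.exists_radAt d hi
  obtain ⟨e, he⟩ := Radical.acts_el d hi R' (kW k) (kV k)
  have hel : F.Acts (R'.el (kW k) (kV k) (xor e (kA k)) false) (cact (kI k) (kV k) (kW k) (kA k)) := by
    have := he (xor e (kA k)) false
    rwa [← Bool.xor_assoc, Bool.xor_self, Bool.false_xor] at this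
  have helz := (mem_Dzy.mp (R'.el_mem d (kW k) (kV k) (xor e (kA k)) false)).1
  have hsq : g ^ kM k * g ^ kM k = pw z (kBit k) := by
    have h1 : R'.el (kW k) (kV k) (xor e (kA k)) false * R'.el (kW k) (kV k) (xor e (kA k)) false =
        pw z (kBit k) := by
      rw [R'.el_sq d, hc1, kk, pw_false, one_mul]; rfl
    rcases Frame.Acts.unique F d hA hel (hg.pow_left _) helz with e1 | e1 <;> rw [e1]
    · exact h1
    · rw [helz.symm.mul_mul_mul_comm, h1, d.hub.sq, mul_one]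
  have hne1 : g ^ kM k ≠ 1 := fun e1 => hne
    (Frame.Acts.code_eq F d (e1 ▸ hA) (F.acts_one d) (cact_bdd hi _ _ _) (by decide))
  have hnez : g ^ kM k ≠ z := fun e1 => hne
    (Frame.Acts.code_eq F d (e1 ▸ hA) (F.acts_z d) (cact_bdd hi _ _ _) (by decide))
  constructor
  · intro hz
    obtain ⟨j, hj⟩ := mem_powers_iff_mem_zpowers.mpr hz
    have hj' : g ^ j = z := hj
    by_contra hb
    rw [Bool.not_eq_true] at hb
    rw [hb, pw_false] at hsq
    exact hnez ((involution_eq_of_zpowers hsq hne1 (by rw [hj']; exact d.hub.sq)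
      (by rw [hj']; exact d.hub.ne_one)).trans hj')
  · intro hb
    rw [hb, pw_true] at hsq
    rw [← hsq]
    exact mul_mem (pow_mem (mem_zpowers g) _) (pow_mem (mem_zpowers g) _)

/-- The orbit of `u₀` in `C(z)`. -/
theorem conj_u {b : G} (hb : IsConj u₀ b) (hbz : Commute b z) :
    ∃ c, Commute c z ∧ c * u₀ * c⁻¹ = b := by
  have hb2 : b * b = 1 := by
    obtain ⟨c, rfl⟩ := isConj_iff.mp hb
    exact conj_sq (R.u_facts d).1
  rcases R.cases_cz d hb2 hbz (R.not_mem_Q d hb) with ⟨c, -, hc⟩ | h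
  · exact absurd (((R.sing _ (pt_spec.1 0).2 (pt_spec.1 0).1).trans
      (isConj_iff.mpr ⟨c, hc⟩ : IsConj _ b)).trans hb.symm) (R.not_isConj d)
  · exact h

theorem card_orbit_u : Nat.card {b : G // IsConj u₀ b ∧ Commute b z} = 6480 := by
  obtain ⟨-, -, -, huz, -⟩ := R.u_facts d
  let f : centralizer ({z} : Set G) ⧸ (Dzy z u₀).subgroupOf (centralizer ({z} : Set G)) →
      {b : G // IsConj u₀ b ∧ Commute b z} :=
    Quotient.lift (fun c => ⟨(c : G) * u₀ * (c : G)⁻¹, isConj_iff.mpr ⟨c, rfl⟩, by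
      have := commute_conj (c : G) huz
      rwa [conj_of_commute (mem_cz.mp c.2)] at this⟩) (by
      intro a b h
      have h' := (mem_Dzy.mp (mem_subgroupOf.mp (QuotientGroup.leftRel_apply.mp h))).2
      push_cast at h'
      apply Subtype.ext
      show (a : G) * u₀ * (a : G)⁻¹ = (b : G) * u₀ * (b : G)⁻¹
      calc (a : G) * u₀ * (a : G)⁻¹ = (a : G) * ((a : G)⁻¹ * (b : G) * u₀ * ((a : G)⁻¹ * (b : G))⁻¹) * (a : G)⁻¹ := by
            rw [conj_of_commute h']
        _ = _ := by group)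
  have hf : Function.Bijective f := by
    refine ⟨?_, ?_⟩
    · intro p q
      refine Quotient.inductionOn₂ p q fun a b e => ?_
      have e' : (a : G) * u₀ * (a : G)⁻¹ = (b : G) * u₀ * (b : G)⁻¹ := congrArg Subtype.val e
      refine Quotient.sound (QuotientGroup.leftRel_apply.mpr (mem_subgroupOf.mpr (mem_Dzy.mpr
        ⟨mem_cz.mp (a⁻¹ * b).2, ?_⟩)))
      push_cast
      refine mul_inv_eq_iff_eq_mul.mp ?_
      calc (a : G)⁻¹ * (b : G) * u₀ * ((a : G)⁻¹ * (b : G))⁻¹ =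
            (a : G)⁻¹ * ((b : G) * u₀ * (b : G)⁻¹) * (a : G) := by group
        _ = u₀ := by rw [← e']; group
    · rintro ⟨b, hb, hbz⟩
      obtain ⟨c, hc, hcb⟩ := R.conj_u d hb hbz
      exact ⟨QuotientGroup.mk (⟨c, mem_cz.mpr hc⟩ : centralizer ({z} : Set G)), Subtype.ext hcb⟩
  rw [← Nat.card_congr (Equiv.ofBijective f hf)]
  have h1 := Subgroup.card_eq_card_quotient_mul_card_subgroup
    ((Dzy z u₀).subgroupOf (centralizer ({z} : Set G)))
  rw [d.cardC, Nat.card_congr (Subgroup.subgroupOfEquivOfLe Dzy_le).toEquiv, R.card_T d] at h1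
  omega

/-- The fibre over an element. -/
abbrev ZFib (z b : G) := {a : G // IsConj z a ∧ z ∈ zpowers (a * b)}

theorem card_fib_base : ∃ b₀, IsConj u₀ b₀ ∧ Commute b₀ z ∧ Nat.card (ZFib z b₀) = 236 := by
  obtain ⟨hu2, -, -, -, -⟩ := R.u_facts d
  obtain ⟨t, ht⟩ := Radical.acts_u d R
  set b₀ := R.el e4 e3 t false
  obtain ⟨c, -, hc⟩ := (R.el_normal d (w := e4) (v := e3) (a := false) (b := false) (by decide) hu2).2 t false
  have hbu : IsConj u₀ b₀ := isConj_iff.mpr ⟨c, hc⟩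
  have hbz : Commute b₀ z := (mem_Dzy.mp (R.el_mem d e4 e3 t false)).1
  have hb2 : b₀ * b₀ = 1 := by simp only [b₀]; rw [← hc]; exact conj_sq hu2
  refine ⟨b₀, hbu, hbz, ?_⟩
  choose a ha using fun k : Fin 207 => R.exists_zel d k.2
  have hin : ∀ (k : Fin 207) (b : Bool), kBit k = true → IsConj z (a k * pw z b) ∧
      z ∈ zpowers (a k * pw z b * b₀) := fun k b hk =>
    ⟨(ha k b).1.1, (R.crit d k.2 ((ha k b).1.2.1.mul_left hbz)
      (Frame.Acts.comp F d (ha k b).2 ht (ha k b).1.2.1)).mpr hk⟩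
  rw [← Nat.card_congr (Equiv.ofBijective (fun p : {k : Fin 207 // kBit k = true} × Bool =>
    (⟨a p.1.1 * pw z p.2, hin p.1.1 p.2 p.1.2⟩ : ZFib z b₀)) ⟨?_, ?_⟩)]
  · rw [Nat.card_prod, Nat.card_eq_fintype_card, Nat.card_eq_fintype_card, Fintype.card_bool,
      Fintype.card_subtype]
    have h2 : (Finset.univ.filter fun x : Fin 207 => kBit x = true).card =
        ((List.range 207).filter fun k => kBit k).length := by
      rw [← List.toFinset_card_of_nodup (List.nodup_range.filter _)]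
      refine Finset.card_bij (fun x _ => (x : ℕ)) (fun x hx => ?_) (fun x _ x' _ h => Fin.ext h)
        (fun k hk => ?_)
      · simp only [Finset.mem_filter] at hx
        simp [hx.2]
      · simp only [List.mem_toFinset, List.mem_filter, List.mem_range] at hk
        exact ⟨⟨k, hk.1⟩, by simp [hk.2], rfl⟩
    rw [h2, bit_count]
  · rintro ⟨⟨k, hk⟩, b⟩ ⟨⟨k', hk'⟩, b'⟩ e
    have e' : a k * pw z b = a k' * pw z b' := congrArg Subtype.val e
    have hkk : k = k' := Fin.ext (eCode_inj k.2 k'.2 (Frame.Acts.code_eq F d (ha k b).2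
      (e' ▸ (ha k' b').2) (entry_key k k.2).2 (entry_key k' k'.2).2))
    subst hkk
    obtain rfl := pw_inj d.hub.ne_one (mul_left_cancel e')
    rfl
  · rintro ⟨x, hxz, hx⟩
    obtain ⟨hx2, hx1⟩ := R.z_inv d hxz
    have hcx : Commute x z := (commute_of_mem_zpowers hx2 hb2 d.hub.sq hx).1.symm
    have hne : x ≠ z := by
      rintro rfl
      obtain ⟨j, hj⟩ := mem_powers_iff_mem_zpowers.mpr hx
      have hj' : (x * b₀) ^ j = x := hj
      have h2 : x * b₀ * (x * b₀) = 1 := by rw [hbz.mul_mul_mul_comm, hx2, hb2, one_mul]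
      rcases Nat.even_or_odd' j with ⟨m, rfl | rfl⟩
      · rw [pow_mul, pow_two, h2, one_pow] at hj'
        exact d.hub.ne_one hj'.symm
      · rw [pow_succ, pow_mul, pow_two, h2, one_pow, one_mul, mul_eq_left] at hj'
        exact R.not_mem_Q d hbu (hj' ▸ one_mem Q)
    obtain ⟨k, hk, hkA⟩ := R.zel_entry d ⟨hxz, hcx, hne⟩
    have hbit : kBit k = true :=
      (R.crit d hk (hcx.mul_left hbz) (Frame.Acts.comp F d hkA ht hcx)).mp hx
    have h0 : a ⟨k, hk⟩ * pw z false = a ⟨k, hk⟩ := mul_one _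
    rcases Frame.Acts.unique F d hkA (h0 ▸ (ha ⟨k, hk⟩ false).2) hcx
      (h0 ▸ (ha ⟨k, hk⟩ false).1.2.1) with e | e
    · exact ⟨(⟨⟨k, hk⟩, hbit⟩, false), Subtype.ext (h0.trans e.symm)⟩
    · exact ⟨(⟨⟨k, hk⟩, hbit⟩, true), Subtype.ext e.symm⟩

theorem card_fib {b : G} (hb : IsConj u₀ b) (hbz : Commute b z) : Nat.card (ZFib z b) = 236 := by
  obtain ⟨b₀, h0, h0z, hcard⟩ := R.card_fib_base d
  obtain ⟨c₀, hc₀, hc₀b⟩ := R.conj_u d h0 h0z
  obtain ⟨c₁, hc₁, hc₁b⟩ := R.conj_u d hb hbz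
  have hkz : Commute (c₁ * c₀⁻¹) z := hc₁.mul_left hc₀.inv_left
  have hk : c₁ * c₀⁻¹ * b₀ * (c₁ * c₀⁻¹)⁻¹ = b := by rw [← hc₀b, ← hc₁b]; group
  rw [← hcard]
  refine (Nat.card_congr (Equiv.subtypeEquiv (MulAut.conj (c₁ * c₀⁻¹)).toEquiv fun a => ?_)).symm
  have hzz : MulAut.conj (c₁ * c₀⁻¹) z = z := conj_of_commute hkz
  refine and_congr ⟨fun h => h.trans (isConj_iff.mpr ⟨c₁ * c₀⁻¹, rfl⟩),
    fun h => h.trans (IsConj.symm (isConj_iff.mpr ⟨c₁ * c₀⁻¹, rfl⟩))⟩ ?_
  have hab : MulAut.conj (c₁ * c₀⁻¹) a * b = MulAut.conj (c₁ * c₀⁻¹) (a * b₀) := by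
    rw [(MulAut.conj (c₁ * c₀⁻¹)).map_mul a b₀]; exact congrArg _ hk.symm
  change _ ↔ z ∈ zpowers (MulAut.conj (c₁ * c₀⁻¹) a * b)
  rw [hab]
  simp only [Subgroup.mem_zpowers_iff, ← map_zpow]
  constructor
  · rintro ⟨j, hj⟩
    exact ⟨j, by rw [hj, hzz]⟩
  · rintro ⟨j, hj⟩
    exact ⟨j, (MulAut.conj (c₁ * c₀⁻¹)).injective (hj.trans hzz.symm)⟩

/-- The second count. -/
theorem card_n1 : Nat.card {p : G × G // IsConj z p.1 ∧ IsConj u₀ p.2 ∧ z ∈ zpowers (p.1 * p.2)} =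
    1529280 := by
  classical
  obtain ⟨hu2, -, -, -, -⟩ := R.u_facts d
  let e : {p : G × G // IsConj z p.1 ∧ IsConj u₀ p.2 ∧ z ∈ zpowers (p.1 * p.2)} ≃
      Σ b : {b : G // IsConj u₀ b ∧ Commute b z}, ZFib z (b : G) :=
    { toFun := fun p => ⟨⟨p.1.2, p.2.2.1, (commute_of_mem_zpowers (R.z_inv d p.2.1).1
        (by obtain ⟨c, hc⟩ := isConj_iff.mp p.2.2.1; rw [← hc]; exact conj_sq hu2)
        d.hub.sq p.2.2.2).2.symm⟩, ⟨p.1.1, p.2.1, p.2.2.2⟩⟩
      invFun := fun q => ⟨(q.2.1, q.1.1), q.2.2.1, q.1.2.1, q.2.2.2⟩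
      left_inv := fun p => rfl
      right_inv := fun q => rfl }
  have : Fintype {b : G // IsConj u₀ b ∧ Commute b z} := Fintype.ofFinite _
  rw [Nat.card_congr e, Nat.card_sigma, Finset.sum_congr rfl (fun b _ => R.card_fib d b.2.1 b.2.2),
    Finset.sum_const, Finset.card_univ, ← Nat.card_eq_fintype_card, R.card_orbit_u d]
  rfl

end Radical

end Cfsg.Agent.SuzType
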